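import Cfsg.Agent.H94.Perm

/-! Certificate data: stabilisers of marked sets. -/

set_option autoImplicit false

namespace H92

/-- Permutations fixing the marked sets (dodIn). -/
def dodInGens : List ℕ := [
    96718719812925567678999956835339296, 510886688130103867660410853658429088]

/-- Orbit certificates (dodIn). -/
def dodInCls : List (ℕ × ℕ × List (ℕ × ℕ)) := [
  (4, 5366003, [
    (0, 0), (0, 1), (1, 0), (1, 1), (2, 0), (2, 1), (3, 0), (3, 1), (4, 0), (4, 1), (5, 0),
    (5, 1), (6, 0), (6, 1), (7, 1), (8, 0), (8, 1), (9, 0), (9, 1), (10, 0), (10, 1),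
    (11, 0), (11, 1), (12, 0), (12, 1), (13, 0), (13, 1), (14, 0), (14, 1), (15, 0),
    (15, 1), (16, 0), (16, 1), (17, 0), (17, 1), (18, 0), (18, 1), (19, 0), (20, 0),
    (20, 1), (21, 0), (21, 1), (22, 1), (23, 0), (23, 1), (24, 0), (24, 1), (25, 0),
    (26, 0), (27, 0), (27, 1), (28, 0), (28, 1), (29, 0), (30, 0), (30, 1), (31, 0),
    (31, 1), (32, 1), (33, 0), (33, 1), (34, 0), (34, 1), (35, 0), (35, 1), (36, 1),
    (37, 0), (37, 1), (38, 0), (38, 1), (39, 0), (39, 1), (41, 0), (41, 1), (42, 0),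
    (43, 0), (43, 1), (44, 1), (46, 0), (46, 1), (47, 0), (47, 1), (48, 0), (48, 1),
    (49, 1), (51, 0), (51, 1), (52, 0), (52, 1), (53, 0), (53, 1), (54, 0), (54, 1),
    (55, 1), (56, 0), (56, 1), (57, 0), (58, 0), (58, 1), (59, 1), (60, 1), (61, 1),
    (62, 0), (64, 1), (65, 0), (66, 0), (67, 0), (68, 0), (68, 1), (70, 0), (72, 0),
    (72, 1), (74, 0), (75, 0), (76, 0), (77, 0), (79, 1), (82, 1), (83, 0), (84, 0),
    (84, 1), (85, 0), (85, 1), (87, 0), (89, 1), (91, 1), (92, 0), (92, 1), (93, 1),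
    (94, 1), (95, 1), (97, 1), (100, 0), (100, 1), (101, 1), (102, 0), (103, 1), (104, 1),
    (105, 1), (106, 0), (106, 1), (107, 1), (108, 0), (108, 1), (109, 1), (111, 0),
    (111, 1), (113, 1), (115, 1), (117, 1), (119, 1), (121, 1), (124, 1), (125, 1),
    (126, 0), (129, 0), (132, 0), (132, 1), (138, 0), (141, 1), (143, 0), (147, 1),
    (152, 0), (153, 0)]),
  (6, 5697579, [
    (0, 0), (0, 1), (1, 0), (1, 1), (2, 0), (2, 1), (3, 0), (3, 1), (4, 0), (4, 1), (5, 0),
    (5, 1), (6, 0), (6, 1), (7, 1), (8, 0), (8, 1), (9, 0), (9, 1), (10, 0), (10, 1),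
    (11, 0), (11, 1), (12, 0), (12, 1), (13, 0), (13, 1), (14, 0), (14, 1), (15, 0),
    (15, 1), (16, 0), (16, 1), (17, 0), (17, 1), (18, 0), (18, 1), (19, 0), (19, 1),
    (20, 0), (20, 1), (21, 0), (21, 1), (22, 1), (23, 0), (23, 1), (24, 0), (24, 1),
    (25, 0), (25, 1), (26, 0), (26, 1), (27, 0), (27, 1), (28, 0), (28, 1), (29, 0),
    (30, 0), (30, 1), (31, 0), (31, 1), (32, 0), (32, 1), (33, 0), (33, 1), (34, 0),
    (34, 1), (35, 0), (35, 1), (36, 1), (37, 0), (37, 1), (38, 0), (38, 1), (39, 0),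
    (39, 1), (40, 0), (40, 1), (41, 0), (41, 1), (42, 0), (42, 1), (43, 0), (44, 0),
    (44, 1), (45, 0), (45, 1), (46, 0), (46, 1), (47, 0), (47, 1), (48, 0), (48, 1),
    (49, 0), (49, 1), (50, 0), (50, 1), (51, 1), (52, 0), (52, 1), (54, 0), (54, 1),
    (55, 0), (55, 1), (56, 0), (56, 1), (57, 0), (57, 1), (58, 0), (58, 1), (59, 0),
    (59, 1), (60, 0), (60, 1), (61, 0), (61, 1), (62, 1), (63, 0), (63, 1), (64, 0),
    (64, 1), (65, 0), (65, 1), (66, 0), (66, 1), (67, 0), (67, 1), (68, 1), (69, 0),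
    (70, 0), (70, 1), (71, 0), (71, 1), (72, 0), (72, 1), (73, 0), (73, 1), (74, 0),
    (74, 1), (75, 0), (75, 1), (76, 0), (77, 1), (78, 0), (78, 1), (79, 0), (79, 1),
    (80, 0), (80, 1), (81, 0), (81, 1), (82, 0), (82, 1), (83, 0), (83, 1), (84, 1),
    (85, 0), (85, 1), (86, 0), (87, 0), (88, 0), (88, 1), (89, 0), (89, 1), (90, 1),
    (91, 0), (91, 1), (92, 0), (93, 0), (93, 1), (94, 0), (94, 1), (95, 0), (95, 1),
    (96, 0), (96, 1), (97, 0), (98, 0), (98, 1), (99, 1), (100, 0), (100, 1), (101, 1),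
    (102, 1), (103, 1), (104, 0), (104, 1), (105, 0), (105, 1), (106, 0), (106, 1),
    (107, 0), (107, 1), (108, 0), (108, 1), (109, 1), (110, 0), (110, 1), (111, 0),
    (111, 1), (112, 0), (112, 1), (113, 0), (113, 1), (114, 0), (114, 1), (115, 0),
    (116, 0), (117, 0), (117, 1), (118, 0), (118, 1), (119, 0), (119, 1), (120, 0),
    (120, 1), (121, 0), (121, 1), (122, 0), (122, 1), (123, 0), (124, 1), (125, 1),
    (126, 0), (126, 1), (127, 0), (127, 1), (128, 0), (128, 1), (129, 0), (129, 1),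
    (130, 1), (131, 0), (131, 1), (132, 0), (132, 1), (133, 0), (133, 1), (134, 0),
    (134, 1), (135, 0), (135, 1), (136, 1), (137, 0), (137, 1), (138, 0), (138, 1),
    (139, 0), (139, 1), (140, 0), (140, 1), (141, 0), (141, 1), (142, 1), (144, 0),
    (144, 1), (145, 0), (145, 1), (146, 0), (146, 1), (147, 0), (147, 1), (148, 0),
    (148, 1), (149, 0), (149, 1), (150, 1), (151, 0), (151, 1), (152, 0), (152, 1),
    (153, 1), (154, 0), (154, 1), (155, 1), (156, 0), (156, 1), (157, 1), (158, 0),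
    (159, 1), (160, 1), (161, 0), (161, 1), (162, 1), (163, 0), (164, 0), (165, 0),
    (165, 1), (166, 0), (166, 1), (167, 0), (167, 1), (168, 1), (169, 0), (169, 1),
    (171, 1), (172, 0), (172, 1), (173, 0), (173, 1), (174, 1), (175, 0), (175, 1),
    (176, 0), (177, 0), (177, 1), (178, 0), (178, 1), (179, 0), (179, 1), (181, 0),
    (181, 1), (182, 0), (182, 1), (183, 1), (184, 0), (185, 0), (186, 0), (187, 0),
    (187, 1), (189, 0), (189, 1), (191, 0), (191, 1), (192, 1), (193, 1), (195, 0),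
    (195, 1), (196, 0), (196, 1), (197, 0), (197, 1), (198, 0), (198, 1), (199, 0),
    (199, 1), (200, 0), (200, 1), (201, 0), (201, 1), (202, 0), (202, 1), (203, 1),
    (204, 0), (204, 1), (205, 0), (206, 0), (206, 1), (207, 1), (208, 1), (209, 0),
    (210, 0), (210, 1), (211, 1), (212, 0), (212, 1), (213, 0), (213, 1), (214, 0),
    (214, 1), (216, 0), (216, 1), (218, 1), (219, 0), (219, 1), (220, 0), (222, 1),
    (223, 0), (223, 1), (224, 0), (224, 1), (225, 1), (226, 0), (226, 1), (227, 0),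
    (227, 1), (228, 0), (228, 1), (229, 0), (230, 0), (231, 0), (231, 1), (232, 0),
    (232, 1), (233, 0), (233, 1), (234, 0), (236, 1), (237, 0), (238, 0), (238, 1),
    (239, 0), (239, 1), (240, 0), (240, 1), (241, 0), (242, 0), (244, 0), (245, 0),
    (245, 1), (246, 0), (247, 0), (247, 1), (248, 0), (248, 1), (249, 0), (251, 1),
    (252, 0), (252, 1), (253, 0), (254, 0), (254, 1), (255, 0), (256, 0), (256, 1),
    (257, 1), (258, 0), (259, 1), (260, 1), (261, 0), (261, 1), (262, 0), (262, 1),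
    (263, 0), (263, 1), (264, 1), (265, 1), (267, 0), (268, 0), (268, 1), (270, 1),
    (271, 0), (271, 1), (272, 0), (272, 1), (273, 1), (274, 0), (274, 1), (275, 1),
    (277, 0), (277, 1), (278, 0), (280, 1), (281, 0), (281, 1), (282, 1), (283, 0),
    (283, 1), (284, 1), (285, 1), (286, 0), (287, 1), (288, 1), (289, 0), (289, 1),
    (290, 1), (291, 0), (291, 1), (292, 0), (293, 0), (293, 1), (294, 0), (294, 1),
    (295, 0), (295, 1), (296, 1), (298, 0), (298, 1), (299, 1), (300, 1), (301, 0),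
    (301, 1), (302, 1), (303, 0), (303, 1), (304, 1), (305, 1), (306, 0), (307, 0),
    (307, 1), (308, 0), (308, 1), (309, 1), (310, 0), (312, 0), (312, 1), (313, 1),
    (315, 1), (316, 0), (316, 1), (317, 1), (318, 1), (320, 0), (320, 1), (321, 0),
    (322, 1), (323, 0), (323, 1), (324, 0), (325, 0), (326, 0), (326, 1), (327, 0),
    (327, 1), (328, 0), (328, 1), (329, 0), (329, 1), (331, 0), (333, 0), (333, 1),
    (334, 0), (334, 1), (335, 1), (336, 0), (337, 1), (338, 0), (338, 1), (339, 0),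
    (340, 0), (340, 1), (341, 0), (341, 1), (342, 0), (343, 1), (344, 0), (344, 1),
    (345, 0), (345, 1), (346, 0), (346, 1), (347, 1), (349, 0), (349, 1), (350, 0),
    (350, 1), (351, 0), (352, 1), (354, 1), (355, 1), (356, 1), (358, 0), (358, 1),
    (359, 1), (360, 0), (361, 0), (362, 0), (362, 1), (364, 1), (365, 0), (367, 0),
    (368, 0), (368, 1), (369, 0), (369, 1), (373, 1), (375, 0), (375, 1), (376, 0),
    (378, 0), (378, 1), (381, 0), (382, 1), (383, 0), (383, 1), (384, 1), (385, 0),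
    (385, 1), (386, 0), (387, 0), (388, 1), (390, 0), (390, 1), (391, 0), (391, 1),
    (392, 1), (393, 0), (393, 1), (394, 0), (396, 1), (397, 0), (397, 1), (398, 1),
    (404, 0), (406, 1), (407, 1), (408, 0), (408, 1), (409, 0), (409, 1), (410, 0),
    (410, 1), (411, 1), (412, 0), (418, 1), (419, 0), (420, 0), (422, 0), (422, 1),
    (423, 0), (423, 1), (425, 1), (427, 0), (427, 1), (428, 0), (432, 0), (432, 1),
    (433, 0), (434, 0), (434, 1), (436, 1), (437, 0), (437, 1), (439, 0), (439, 1),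
    (440, 0), (440, 1), (443, 0), (443, 1), (444, 0), (444, 1), (445, 0), (446, 1),
    (449, 0), (449, 1), (450, 0), (456, 1), (457, 1), (460, 0), (460, 1), (461, 1),
    (464, 0), (464, 1), (465, 1), (466, 0), (468, 0), (469, 0), (470, 0), (471, 0),
    (471, 1), (473, 0), (474, 0), (474, 1), (475, 0), (476, 1), (477, 1), (479, 1),
    (480, 0), (480, 1), (481, 0), (482, 1), (483, 0), (484, 0), (488, 0), (488, 1),
    (490, 1), (491, 1), (492, 1), (494, 0), (495, 0), (496, 0), (498, 0), (498, 1),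
    (500, 0), (500, 1), (501, 0), (502, 0), (504, 0), (504, 1), (505, 1), (506, 0),
    (507, 0), (509, 1), (511, 0), (511, 1), (512, 0), (515, 1), (517, 1), (518, 1),
    (519, 1), (520, 1), (521, 0), (521, 1), (523, 1), (525, 1), (527, 0), (527, 1),
    (530, 1), (531, 0), (534, 1), (535, 0), (535, 1), (537, 1), (538, 0), (539, 0),
    (540, 0), (541, 1), (542, 1), (544, 1), (545, 1), (546, 1), (547, 0), (547, 1),
    (550, 1), (552, 0), (553, 1), (555, 0), (556, 1), (558, 1), (559, 0), (565, 0),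
    (568, 0), (568, 1), (569, 0), (571, 0), (572, 1), (577, 1), (578, 0), (578, 1),
    (579, 0), (582, 0), (582, 1), (583, 0), (585, 0), (586, 0), (588, 1), (594, 0),
    (595, 1), (596, 0), (596, 1), (597, 1), (598, 1), (601, 0), (602, 0), (605, 0),
    (605, 1), (610, 0), (612, 1), (613, 1), (614, 1), (616, 0), (618, 1), (619, 0),
    (623, 1), (624, 0), (624, 1), (627, 0), (628, 1), (629, 0), (630, 0), (631, 1),
    (633, 0), (633, 1), (635, 0), (636, 0), (636, 1), (640, 0), (643, 1), (646, 0),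
    (647, 0), (647, 1), (649, 1), (651, 0), (652, 1), (656, 1), (660, 1), (666, 0),
    (667, 0), (672, 1), (676, 0), (677, 0), (683, 0), (686, 1), (688, 0), (688, 1),
    (689, 0), (689, 1), (694, 1), (697, 0), (706, 1), (707, 0), (708, 0), (709, 1),
    (710, 1), (715, 0), (723, 0), (723, 1), (736, 1), (745, 0), (759, 0), (781, 1)]),
  (8, 8245261, [
    (0, 0), (0, 1), (1, 0), (1, 1), (2, 0), (2, 1), (3, 0), (3, 1), (4, 0), (4, 1), (5, 0),
    (5, 1), (6, 0), (6, 1), (7, 1), (8, 0), (8, 1), (9, 0), (9, 1), (10, 0), (10, 1),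
    (11, 0), (11, 1), (12, 0), (12, 1), (13, 0), (13, 1), (14, 0), (14, 1), (15, 0),
    (15, 1), (16, 0), (16, 1), (17, 0), (17, 1), (18, 0), (18, 1), (19, 0), (19, 1),
    (20, 0), (20, 1), (21, 1), (22, 1), (23, 0), (23, 1), (24, 0), (24, 1), (25, 0),
    (25, 1), (26, 0), (26, 1), (27, 0), (27, 1), (28, 0), (28, 1), (29, 0), (31, 0),
    (31, 1), (32, 0), (32, 1), (33, 0), (33, 1), (34, 0), (34, 1), (35, 0), (35, 1),
    (36, 1), (37, 0), (37, 1), (38, 0), (38, 1), (39, 0), (39, 1), (40, 0), (40, 1),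
    (41, 0), (41, 1), (42, 0), (43, 0), (43, 1), (45, 0), (45, 1), (46, 1), (47, 0),
    (48, 0), (48, 1), (49, 0), (49, 1), (50, 1), (51, 0), (51, 1), (52, 0), (52, 1),
    (53, 0), (53, 1), (54, 0), (54, 1), (55, 0), (56, 0), (56, 1), (57, 0), (58, 0),
    (58, 1), (59, 1), (60, 0), (60, 1), (61, 0), (61, 1), (62, 1), (63, 0), (63, 1),
    (64, 0), (64, 1), (65, 0), (65, 1), (67, 1), (68, 0), (68, 1), (69, 0), (69, 1),
    (70, 0), (71, 0), (71, 1), (72, 0), (72, 1), (73, 0), (73, 1), (74, 1), (75, 1),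
    (76, 0), (76, 1), (77, 0), (78, 1), (80, 0), (80, 1), (81, 0), (81, 1), (83, 0),
    (84, 0), (84, 1), (85, 0), (85, 1), (86, 0), (86, 1), (87, 1), (88, 0), (89, 0),
    (89, 1), (90, 1), (91, 0), (91, 1), (92, 0), (92, 1), (93, 0), (93, 1), (94, 0),
    (95, 0), (95, 1), (96, 1), (97, 0), (97, 1), (98, 1), (99, 0), (99, 1), (100, 0),
    (100, 1), (101, 0), (101, 1), (102, 0), (103, 0), (104, 1), (105, 1), (106, 0),
    (106, 1), (107, 0), (107, 1), (108, 0), (109, 1), (111, 0), (111, 1), (112, 0),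
    (112, 1), (113, 0), (113, 1), (114, 0), (114, 1), (115, 1), (116, 0), (117, 0),
    (118, 0), (118, 1), (119, 0), (120, 0), (121, 1), (122, 0), (123, 1), (124, 0),
    (124, 1), (125, 0), (125, 1), (126, 1), (128, 1), (129, 0), (129, 1), (130, 1),
    (131, 0), (131, 1), (132, 0), (132, 1), (134, 1), (136, 1), (137, 1), (138, 0),
    (139, 0), (140, 0), (140, 1), (141, 1), (142, 0), (142, 1), (143, 1), (144, 1),
    (145, 1), (146, 0), (147, 0), (149, 0), (149, 1), (151, 1), (153, 0), (153, 1),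
    (155, 1), (157, 0), (158, 0), (159, 1), (161, 0), (162, 1), (164, 1), (165, 0),
    (165, 1), (166, 0), (168, 0), (168, 1), (169, 1), (171, 0), (171, 1), (172, 1),
    (173, 1), (174, 0), (174, 1), (175, 1), (178, 0), (179, 0), (180, 0), (181, 1),
    (182, 0), (187, 0), (188, 1), (191, 1), (192, 0), (193, 0), (194, 0), (196, 0),
    (196, 1), (198, 0), (198, 1), (200, 0), (201, 0), (202, 0), (203, 0), (203, 1),
    (205, 1), (207, 0), (207, 1), (208, 0), (208, 1), (210, 0), (210, 1), (211, 0),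
    (211, 1), (212, 0), (213, 0), (216, 0), (216, 1), (217, 1), (218, 0), (219, 0),
    (220, 1), (222, 1), (223, 1), (224, 0), (224, 1), (226, 0), (226, 1), (227, 0),
    (229, 0), (230, 1), (231, 1), (233, 0), (238, 1), (239, 0), (240, 1), (241, 0),
    (246, 0), (247, 0), (249, 1), (253, 1), (255, 1), (259, 0), (260, 1), (261, 1),
    (264, 1), (267, 1), (270, 0), (270, 1), (272, 1), (276, 1), (281, 0), (282, 1),
    (283, 1), (285, 1), (287, 0), (288, 0), (288, 1), (292, 1), (293, 1), (298, 1),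
    (300, 1), (305, 1), (309, 0), (319, 1)]),
  (12, 11472927, [
])]

end H92
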