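import Cfsg.Agent.H94.Perm

/-! Certificate data: stabilisers of an octad with marked points. -/

set_option autoImplicit false

namespace H92

/-- Permutations fixing the marked sets (pqIn). -/
def pqInGens : List ℕ := [
    236836688781565900582877609008179232, 235220707813719255129035772138752032]

/-- Orbit certificates (pqIn). -/
def pqInCls : List (ℕ × ℕ × List (ℕ × ℕ)) := [
  (2, 9347075, [
    (0, 0), (0, 1), (1, 0), (2, 0), (2, 1), (3, 0), (3, 1), (4, 0), (4, 1), (5, 1), (6, 0),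
    (6, 1), (9, 0), (13, 0), (14, 0)]),
  (4, 5902343, [
    (0, 0), (0, 1), (1, 0), (1, 1), (2, 0), (2, 1), (3, 0), (3, 1), (4, 0), (4, 1), (5, 0),
    (5, 1), (6, 0), (7, 0), (8, 0), (8, 1), (9, 0), (9, 1), (10, 0), (10, 1), (11, 0),
    (11, 1), (12, 0), (12, 1), (13, 0), (13, 1), (14, 1), (15, 0), (15, 1), (16, 0),
    (16, 1), (17, 0), (17, 1), (18, 0), (19, 1), (20, 1), (21, 0), (21, 1), (22, 1),
    (23, 0), (23, 1), (24, 0), (25, 0), (27, 0), (27, 1), (29, 1), (30, 1), (31, 0),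
    (31, 1), (32, 1), (33, 0), (35, 0), (35, 1), (40, 0), (42, 0), (43, 0), (45, 1),
    (48, 0), (51, 1)]),
  (8, 5279, [
])]

/-- Permutations fixing the marked sets (pInQOut). -/
def pInQOutGens : List ℕ := [
    551217093030318395469058560577646688, 274766533798763870159764200991273024]

/-- Orbit certificates (pInQOut). -/
def pInQOutCls : List (ℕ × ℕ × List (ℕ × ℕ)) := [
  (2, 13062145, [
    (0, 0), (0, 1), (1, 0), (1, 1), (2, 0), (2, 1), (3, 0), (3, 1), (4, 0), (4, 1), (5, 0),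
    (5, 1), (6, 0), (6, 1), (7, 0), (7, 1), (8, 0), (8, 1), (9, 0), (10, 1), (11, 0),
    (11, 1), (12, 0), (12, 1), (13, 0), (13, 1), (14, 0), (14, 1), (15, 0), (15, 1),
    (16, 1), (17, 0), (17, 1), (18, 0), (19, 0), (20, 0), (20, 1), (21, 0), (22, 0),
    (22, 1), (23, 0), (25, 0), (26, 0), (26, 1), (27, 1), (28, 0), (28, 1), (29, 1),
    (30, 1), (31, 0), (32, 1), (33, 1), (34, 0), (34, 1), (35, 1), (38, 0), (38, 1),
    (39, 1), (40, 1), (41, 0), (43, 0), (46, 0), (46, 1), (48, 0), (49, 0), (50, 0),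
    (51, 1), (54, 0), (57, 1)]),
  (4, 5902343, [
    (0, 0), (0, 1), (1, 0), (1, 1), (2, 0), (2, 1), (3, 0), (3, 1), (4, 0), (4, 1), (5, 0),
    (5, 1), (6, 0), (6, 1), (7, 0), (7, 1), (8, 0), (8, 1), (9, 0), (9, 1), (10, 0),
    (10, 1), (11, 0), (11, 1), (12, 0), (12, 1), (13, 0), (13, 1), (14, 0), (14, 1),
    (15, 1), (16, 0), (16, 1), (17, 0), (17, 1), (18, 0), (18, 1), (19, 0), (19, 1),
    (20, 0), (20, 1), (21, 0), (21, 1), (22, 0), (22, 1), (23, 0), (23, 1), (24, 0),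
    (24, 1), (25, 1), (27, 0), (28, 0), (28, 1), (29, 1), (30, 0), (30, 1), (31, 1),
    (32, 0), (32, 1), (33, 0), (33, 1), (34, 0), (34, 1), (36, 0), (37, 0), (38, 0),
    (38, 1), (39, 0), (39, 1), (40, 1), (42, 1), (43, 0), (44, 0), (44, 1), (45, 0),
    (45, 1), (46, 0), (47, 1), (48, 0), (49, 1), (50, 1), (52, 1), (54, 1), (55, 1),
    (56, 0), (56, 1), (59, 0), (61, 0), (63, 0), (63, 1), (64, 0), (66, 0), (66, 1),
    (67, 0), (69, 1), (70, 1), (72, 1), (74, 1), (78, 0), (79, 0), (80, 1), (87, 0),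
    (90, 1), (93, 0)]),
  (8, 5279, [
])]

/-- Permutations fixing the marked sets (xIn). -/
def xInGens : List ℕ := [
    796588496896267495332444544211232832, 734938647534161998720880213473172576]

/-- Orbit certificates (xIn). -/
def xInCls : List (ℕ × ℕ × List (ℕ × ℕ)) := [
  (2, 13062145, [
    (0, 0), (1, 0), (1, 1), (2, 0), (3, 0), (3, 1), (4, 0), (4, 1), (5, 0), (5, 1), (6, 0),
    (7, 0), (7, 1), (8, 0), (8, 1), (9, 0), (9, 1), (10, 0), (11, 0), (11, 1), (12, 1),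
    (13, 0), (13, 1), (14, 0), (14, 1), (15, 0), (16, 0), (17, 0), (17, 1), (18, 0),
    (18, 1), (19, 0), (19, 1), (20, 0), (20, 1), (21, 0), (21, 1), (22, 0), (22, 1),
    (23, 0), (24, 1), (25, 1), (26, 0), (26, 1), (27, 0), (27, 1), (28, 0), (29, 0),
    (30, 0), (30, 1), (31, 0), (31, 1), (32, 0), (33, 0), (33, 1), (35, 0), (36, 0),
    (36, 1), (37, 0), (38, 0), (38, 1), (39, 1), (40, 0), (40, 1), (41, 0), (41, 1),
    (42, 0), (43, 1), (44, 0), (46, 1), (47, 0), (47, 1), (48, 1), (49, 0), (50, 0),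
    (51, 0), (51, 1), (53, 1), (54, 1), (56, 1), (58, 1), (59, 1), (60, 0), (60, 1),
    (61, 0), (62, 0), (63, 1), (64, 1), (65, 1), (66, 0), (67, 0), (69, 0), (70, 0),
    (71, 0), (73, 0), (73, 1), (75, 0), (76, 0), (78, 0), (79, 0), (79, 1), (84, 0),
    (85, 1), (88, 0), (90, 0), (93, 0), (98, 0), (98, 1), (99, 0), (101, 0), (109, 0)]),
  (4, 5902343, [
    (0, 0), (0, 1), (1, 0), (1, 1), (2, 0), (2, 1), (3, 0), (3, 1), (4, 0), (4, 1), (5, 0),
    (5, 1), (6, 0), (7, 0), (7, 1), (8, 0), (8, 1), (9, 0), (9, 1), (10, 0), (11, 0),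
    (11, 1), (12, 0), (12, 1), (13, 0), (13, 1), (14, 0), (14, 1), (15, 0), (15, 1),
    (16, 0), (16, 1), (18, 0), (18, 1), (19, 1), (20, 1), (21, 0), (21, 1), (22, 0),
    (22, 1), (23, 0), (23, 1), (24, 0), (25, 1), (26, 1), (28, 0), (28, 1), (29, 1),
    (30, 0), (31, 0), (31, 1), (32, 0), (32, 1), (33, 0), (33, 1), (34, 0), (35, 0),
    (36, 0), (36, 1), (37, 0), (37, 1), (38, 1), (39, 0), (39, 1), (40, 0), (41, 0),
    (43, 0), (43, 1), (44, 1), (47, 0), (48, 0), (49, 0), (50, 0), (50, 1), (51, 0),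
    (51, 1), (52, 0), (53, 0), (54, 0), (54, 1), (55, 0), (55, 1), (56, 0), (57, 0),
    (57, 1), (58, 0), (61, 0), (62, 0), (63, 0), (64, 0), (64, 1), (65, 0), (65, 1),
    (66, 1), (68, 0), (68, 1), (69, 0), (70, 1), (71, 1), (73, 1), (74, 0), (75, 1),
    (77, 0), (77, 1), (78, 1), (81, 0), (82, 0), (83, 1), (84, 0), (85, 1), (86, 1),
    (88, 0), (88, 1), (91, 0), (92, 0), (93, 0), (93, 1), (94, 0), (95, 0), (96, 0),
    (97, 1), (98, 0), (98, 1), (100, 0), (101, 0), (102, 0), (102, 1), (104, 0), (105, 0),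
    (107, 0), (108, 1), (111, 1), (114, 0), (121, 0), (121, 1), (122, 1), (123, 0),
    (128, 1), (129, 0)]),
  (8, 5279, [
])]

/-- Permutations fixing the marked sets (xOut). -/
def xOutGens : List ℕ := [
    890743516304616843133712735723031692, 362755221485904948311421578097267015]

/-- Orbit certificates (xOut). -/
def xOutCls : List (ℕ × ℕ × List (ℕ × ℕ)) := [
  (0, 15515712, [
    (0, 1), (1, 0), (1, 1), (2, 1), (3, 0), (3, 1), (4, 0), (4, 1), (5, 0), (5, 1), (6, 1),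
    (8, 0), (8, 1), (10, 0)]),
  (2, 13062145, [
    (0, 0), (0, 1), (1, 0), (1, 1), (2, 0), (2, 1), (3, 0), (3, 1), (4, 0), (4, 1), (5, 0),
    (5, 1), (6, 0), (6, 1), (7, 1), (8, 0), (9, 0), (9, 1), (10, 1), (11, 0), (11, 1),
    (12, 0), (12, 1), (13, 0), (13, 1), (14, 0), (14, 1), (15, 0), (15, 1), (16, 1),
    (17, 0), (17, 1), (18, 0), (18, 1), (19, 0), (19, 1), (20, 1), (21, 0), (21, 1),
    (22, 0), (22, 1), (23, 0), (23, 1), (24, 1), (25, 0), (25, 1), (26, 0), (26, 1),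
    (27, 0), (27, 1), (28, 0), (28, 1), (29, 1), (30, 0), (30, 1), (31, 1), (32, 0),
    (32, 1), (33, 1), (34, 1), (35, 0), (36, 0), (37, 0), (37, 1), (38, 0), (38, 1),
    (39, 1), (40, 0), (40, 1), (41, 0), (41, 1), (42, 0), (42, 1), (43, 0), (43, 1),
    (44, 0), (44, 1), (45, 0), (45, 1), (46, 0), (46, 1), (47, 1), (48, 0), (48, 1),
    (49, 0), (49, 1), (50, 0), (50, 1), (51, 0), (51, 1), (52, 0), (53, 0), (53, 1),
    (54, 0), (54, 1), (55, 0), (56, 0), (57, 0), (57, 1), (58, 0), (58, 1), (59, 0),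
    (60, 0), (61, 0), (61, 1), (62, 0), (63, 0), (63, 1), (64, 0), (64, 1), (65, 0),
    (66, 0), (66, 1), (67, 0), (67, 1), (68, 1), (69, 0), (69, 1), (71, 0), (72, 0),
    (72, 1), (73, 0), (74, 0), (75, 0), (75, 1), (76, 0), (76, 1), (77, 0), (77, 1),
    (78, 0), (78, 1), (80, 0), (81, 0), (81, 1), (82, 0), (82, 1), (83, 0), (84, 0),
    (84, 1), (85, 0), (86, 0), (86, 1), (87, 1), (88, 0), (88, 1), (89, 1), (90, 0),
    (90, 1), (91, 1), (92, 1), (93, 0), (93, 1), (94, 0), (94, 1), (95, 0), (95, 1),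
    (96, 1), (97, 0), (99, 0), (100, 0), (101, 0), (101, 1), (106, 1), (107, 0), (107, 1),
    (108, 0), (109, 0), (110, 0), (110, 1), (111, 1), (112, 0), (112, 1), (113, 0),
    (114, 0), (115, 0), (115, 1), (116, 0), (116, 1), (117, 0), (118, 1), (119, 1),
    (120, 1), (122, 1), (124, 0), (124, 1), (125, 1), (126, 0), (127, 1), (128, 0),
    (128, 1), (129, 1), (131, 1), (133, 0), (133, 1), (134, 1), (135, 1), (137, 1),
    (138, 0), (139, 0), (139, 1), (143, 0), (144, 1), (145, 1), (146, 0), (148, 0),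
    (148, 1), (151, 1), (152, 0), (152, 1), (154, 0), (156, 0), (156, 1), (157, 0),
    (157, 1), (158, 1), (160, 0), (161, 0), (162, 0), (165, 0), (166, 0), (166, 1),
    (167, 0), (168, 1), (169, 0), (169, 1), (170, 0), (170, 1), (171, 1), (172, 1),
    (173, 1), (174, 1), (175, 0), (176, 1), (177, 0), (177, 1), (178, 1), (179, 0),
    (180, 1), (181, 0), (183, 0), (184, 1), (185, 1), (186, 0), (188, 0), (189, 1),
    (190, 1), (191, 0), (192, 0), (193, 0), (193, 1), (194, 1), (195, 1), (198, 0),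
    (200, 1), (201, 1), (202, 0), (202, 1), (203, 0), (205, 1), (208, 0), (210, 0),
    (214, 0), (216, 1), (219, 1), (224, 0), (225, 0), (227, 1), (229, 0), (232, 1),
    (234, 1), (235, 0), (238, 0), (241, 1), (250, 1), (252, 1), (256, 0), (260, 0),
    (262, 0), (264, 0)]),
  (4, 5902343, [
    (0, 0), (0, 1), (1, 0), (1, 1), (2, 0), (2, 1), (3, 0), (3, 1), (4, 0), (4, 1), (5, 0),
    (5, 1), (6, 0), (6, 1), (7, 1), (8, 0), (8, 1), (9, 0), (9, 1), (10, 0), (10, 1),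
    (11, 0), (11, 1), (12, 0), (12, 1), (13, 0), (13, 1), (14, 0), (14, 1), (15, 0),
    (15, 1), (16, 0), (17, 0), (17, 1), (18, 0), (18, 1), (19, 0), (19, 1), (20, 1),
    (21, 0), (21, 1), (22, 1), (23, 0), (23, 1), (24, 0), (24, 1), (25, 0), (25, 1),
    (26, 0), (26, 1), (27, 0), (27, 1), (28, 0), (28, 1), (29, 0), (29, 1), (30, 0),
    (30, 1), (31, 0), (31, 1), (32, 0), (32, 1), (33, 0), (33, 1), (34, 0), (34, 1),
    (35, 1), (36, 0), (37, 0), (37, 1), (38, 0), (38, 1), (39, 0), (39, 1), (40, 0),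
    (41, 1), (42, 0), (42, 1), (43, 0), (43, 1), (44, 0), (44, 1), (45, 0), (45, 1),
    (46, 1), (47, 0), (47, 1), (48, 0), (48, 1), (49, 1), (50, 0), (50, 1), (51, 0),
    (51, 1), (52, 1), (53, 0), (53, 1), (54, 0), (54, 1), (55, 0), (56, 0), (56, 1),
    (57, 0), (58, 1), (60, 1), (61, 1), (62, 0), (62, 1), (63, 0), (63, 1), (64, 0),
    (64, 1), (65, 1), (66, 0), (66, 1), (67, 0), (68, 0), (68, 1), (70, 0), (70, 1),
    (71, 0), (71, 1), (72, 0), (72, 1), (73, 1), (74, 0), (74, 1), (75, 0), (76, 1),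
    (78, 0), (80, 0), (83, 1), (84, 0), (85, 0), (85, 1), (87, 0), (87, 1), (90, 0),
    (92, 0), (93, 0), (94, 1), (95, 1), (96, 1), (97, 1), (98, 0), (98, 1), (99, 0),
    (100, 1), (101, 0), (102, 0), (103, 1), (104, 0), (104, 1), (105, 0), (105, 1),
    (106, 0), (106, 1), (107, 1), (108, 1), (110, 1), (111, 0), (114, 0), (115, 0),
    (115, 1), (116, 1), (117, 1), (118, 0), (120, 1), (121, 0), (121, 1), (122, 0),
    (123, 0), (123, 1), (124, 0), (125, 1), (127, 0), (127, 1), (129, 0), (129, 1),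
    (130, 1), (131, 0), (135, 0), (136, 0), (136, 1), (140, 1), (141, 1), (142, 1),
    (144, 0), (144, 1), (146, 0), (149, 0), (149, 1), (151, 0), (151, 1), (152, 1),
    (154, 1), (155, 0), (161, 1), (164, 1), (166, 0), (172, 1), (174, 1), (176, 1),
    (180, 0), (180, 1), (184, 0), (186, 1), (189, 0), (197, 0)]),
  (8, 5279, [
])]

/-- Permutations fixing the marked sets (pairs). -/
def pairsGens : List ℕ := [
    936255894216719774196967961192925216, 688250783376322303417570016441207840]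

/-- Orbit certificates (pairs). -/
def pairsCls : List (ℕ × ℕ × List (ℕ × ℕ)) := [
  (0, 48, [
    (0, 0), (0, 1), (1, 0), (1, 1), (2, 0), (2, 1), (3, 0), (3, 1), (4, 0), (4, 1), (5, 0),
    (5, 1), (6, 0), (6, 1), (7, 1), (8, 0), (8, 1), (9, 0), (9, 1), (10, 0), (10, 1),
    (11, 0), (11, 1), (12, 0), (12, 1), (13, 0), (13, 1), (14, 0), (15, 0), (15, 1),
    (16, 0), (16, 1), (17, 0), (17, 1), (18, 0), (18, 1), (19, 0), (19, 1), (20, 0),
    (20, 1), (21, 1), (22, 1), (23, 0), (23, 1), (24, 0), (25, 0), (25, 1), (26, 1),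
    (27, 1), (28, 0), (28, 1), (29, 0), (29, 1), (30, 0), (30, 1), (31, 0), (31, 1),
    (32, 0), (33, 0), (33, 1), (34, 0), (34, 1), (35, 1), (36, 0), (36, 1), (37, 0),
    (38, 0), (38, 1), (39, 0), (40, 0), (41, 0), (41, 1), (42, 0), (43, 0), (43, 1),
    (44, 0), (45, 0), (45, 1), (46, 0), (46, 1), (47, 0), (47, 1), (48, 0), (48, 1),
    (49, 0), (49, 1), (50, 0), (50, 1), (51, 0), (52, 0), (52, 1), (53, 0), (53, 1),
    (54, 0), (55, 0), (55, 1), (57, 1), (58, 1), (59, 1), (60, 1), (61, 0), (61, 1),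
    (62, 0), (62, 1), (63, 1), (64, 0), (65, 1), (67, 0), (67, 1), (68, 0), (70, 0),
    (70, 1), (71, 0), (72, 0), (73, 0), (74, 0), (74, 1), (75, 0), (75, 1), (76, 0),
    (78, 0), (79, 0), (80, 0), (82, 0), (82, 1), (83, 0), (83, 1), (84, 1), (85, 0),
    (85, 1), (86, 0), (89, 0), (89, 1), (90, 1), (91, 0), (93, 0), (93, 1), (96, 1),
    (97, 0), (98, 0), (99, 0), (100, 0), (101, 0), (102, 1), (106, 0), (106, 1), (108, 1),
    (110, 0), (111, 0), (116, 1), (120, 0), (121, 1), (123, 0), (126, 0), (128, 1),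
    (131, 0), (136, 1), (139, 0), (147, 1)]),
  (1, 144, [
    (0, 0), (0, 1), (1, 1), (2, 0), (2, 1), (3, 0), (3, 1), (4, 1), (5, 0), (6, 1), (7, 0),
    (8, 0), (8, 1), (9, 1), (10, 0), (10, 1), (11, 1), (12, 1), (13, 0), (14, 0), (14, 1),
    (15, 1), (16, 0), (17, 0), (17, 1), (19, 1), (23, 1), (26, 1), (27, 1)]),
  (11, 20, [
    (0, 0), (0, 1), (1, 1), (2, 0), (2, 1), (3, 0), (3, 1), (4, 1), (5, 0), (5, 1), (6, 1),
    (7, 1), (9, 0), (10, 0), (10, 1), (11, 0), (11, 1), (12, 0), (12, 1), (14, 1), (15, 0),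
    (15, 1), (16, 0), (17, 0), (18, 1), (19, 0), (19, 1), (20, 0), (20, 1), (21, 1),
    (22, 0), (23, 1), (25, 0), (25, 1), (26, 1), (29, 0), (29, 1), (32, 0), (34, 1)])]

end H92
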