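import Cfsg.Agent.H92.OctadBase
import Cfsg.Agent.H92.OctadData

/-!
Orbits on octads of stabilisers of an octad with marked points.
-/

set_option autoImplicit false

noncomputable section

namespace H92

open Cfsg
open scoped Pointwise

theorem smul_point_iff {g : Equiv.Perm GolayPt} (x : Finset GolayPt) (p : GolayPt) {i : ℕ}
    (h : g p = H94.ptN i) : p ∈ g⁻¹ • x ↔ H94.ptN i ∈ x := by rw [mem_inv_smul, h]

theorem card_inter_inv (g : Equiv.Perm GolayPt) (o x : Finset GolayPt) :
    (o ∩ g⁻¹ • x).card = (g • o ∩ x).card := by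
  rw [← card_inter_smul g, smul_inv_smul]

/-- Pulling back an element fixing base marks along a normalising element. -/
theorem pullback {g k : Equiv.Perm GolayPt} (hg : g ∈ M24) (hk : k ∈ M24) :
    g⁻¹ * k * g ∈ M24 := M24.mul_mem (M24.mul_mem (M24.inv_mem hg) hk) hg

theorem pullback_point {g k : Equiv.Perm GolayPt} {p : GolayPt} {i : ℕ} (h : g p = H94.ptN i)
    (hk : k (H94.ptN i) = H94.ptN i) : (g⁻¹ * k * g) p = p := by
  rw [Equiv.Perm.mul_apply, Equiv.Perm.mul_apply, h, hk, ← h, Equiv.Perm.inv_def,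
    Equiv.symm_apply_apply]

theorem pullback_set {g k : Equiv.Perm GolayPt} {x y : Finset GolayPt}
    (h : k • (g • x) = g • y) : (g⁻¹ * k * g) • x = y := by
  rw [mul_smul, mul_smul, h, inv_smul_smul]

/-- Octads through two given points, relative to one of them. -/
theorem octads_two_count {p q : GolayPt} (hpq : p ≠ q) {o : Finset GolayPt} (ho : o ∈ octads)
    (hp : p ∈ o) (hq : q ∈ o) (k : ℕ) :
    {x : Finset GolayPt | x ∈ octads ∧ p ∈ x ∧ q ∈ x ∧ (o ∩ x).card = k}.ncard =
      (objs 8 fun m => H94.bitB m 0 && H94.bitB m 1 &&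
        Nat.beq (H90.popc (H94.baseOctad &&& m)) k).length := by
  obtain ⟨g, hg, hgo, hgp, hgq⟩ := normal_two ho hp hq hpq
  unfold octads
  rw [ncard_transport hg 8 (fun x => p ∈ x ∧ q ∈ x ∧ (o ∩ x).card = k)]
  refine ncard_words_filter 8 _ _ fun m _ => ?_
  rw [smul_point_iff _ _ hgp, smul_point_iff _ _ hgq, card_inter_inv, hgo,
    mem_setOf'_bitB (by norm_num), mem_setOf'_bitB (by norm_num), card_inter_setOf']
  simp [and_assoc]

/-- Octads through `p` and not through `q`, relative to one of them. -/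
theorem octads_in_out_count {p q : GolayPt} {o : Finset GolayPt} (ho : o ∈ octads)
    (hp : p ∈ o) (hq : q ∉ o) (k : ℕ) :
    {x : Finset GolayPt | (x ∈ octads ∧ p ∈ x ∧ q ∉ x) ∧ (o ∩ x).card = k}.ncard =
      (objs 8 fun m => H94.bitB m 0 && !H94.bitB m 5 &&
        Nat.beq (H90.popc (H94.baseOctad &&& m)) k).length := by
  obtain ⟨g, hg, hgo, hgp, hgq⟩ := normal_in_out ho hp hq
  unfold octads
  simp only [and_assoc]
  rw [ncard_transport hg 8 (fun x => p ∈ x ∧ q ∉ x ∧ (o ∩ x).card = k)]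
  refine ncard_words_filter 8 _ _ fun m _ => ?_
  rw [smul_point_iff _ _ hgp, smul_point_iff _ _ hgq, card_inter_inv, hgo,
    mem_setOf'_bitB (by norm_num), mem_setOf'_bitB (by norm_num), card_inter_setOf']
  simp [and_assoc]

theorem octads_in_count {p : GolayPt} {o : Finset GolayPt} (ho : o ∈ octads) (hp : p ∈ o) (k : ℕ) :
    {x : Finset GolayPt | x ∈ octads ∧ p ∈ x ∧ (o ∩ x).card = k}.ncard =
      (objs 8 fun m => H94.bitB m 0 && Nat.beq (H90.popc (H94.baseOctad &&& m)) k).length := by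
  obtain ⟨g, hg, hgo, hgp⟩ := normal_one ho hp
  unfold octads
  rw [ncard_transport hg 8 (fun x => p ∈ x ∧ (o ∩ x).card = k)]
  refine ncard_words_filter 8 _ _ fun m _ => ?_
  rw [smul_point_iff _ _ hgp, card_inter_inv, hgo,
    mem_setOf'_bitB (by norm_num), card_inter_setOf']
  simp

theorem octads_out_count {q : GolayPt} {o : Finset GolayPt} (ho : o ∈ octads) (hq : q ∉ o) (k : ℕ) :
    {x : Finset GolayPt | x ∈ octads ∧ q ∉ x ∧ (o ∩ x).card = k}.ncard =
      (objs 8 fun m => !H94.bitB m 5 && Nat.beq (H90.popc (H94.baseOctad &&& m)) k).length := by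
  obtain ⟨g, hg, hgo, hgq⟩ := normal_out ho hq
  unfold octads
  rw [ncard_transport hg 8 (fun x => q ∉ x ∧ (o ∩ x).card = k)]
  refine ncard_words_filter 8 _ _ fun m _ => ?_
  rw [smul_point_iff _ _ hgq, card_inter_inv, hgo,
    mem_setOf'_bitB (by norm_num), card_inter_setOf']
  simp

/-- Generic transitivity on octads with the same intersection number. -/
theorem octads_conj {g : Equiv.Perm GolayPt} (hg : g ∈ M24) {o : Finset GolayPt}
    (hgo : g • o = H90.setOf' H94.baseOctad) {gens ms : List ℕ}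
    {cls : List (ℕ × ℕ × List (ℕ × ℕ))} {f : ℕ → Bool}
    (hfix : fixB gens ms = true)
    (hc : classB gens cls (fun m => H90.popc (H94.baseOctad &&& m)) (objs 8 f) = true)
    (hbase : H94.baseOctad ∈ ms)
    {x y : Finset GolayPt} (hx : x ∈ octads) (hy : y ∈ octads)
    (hfx : ∀ m < 2 ^ 24, g • x = H90.setOf' m → f m = true)
    (hfy : ∀ m < 2 ^ 24, g • y = H90.setOf' m → f m = true)
    (hxy : (o ∩ x).card = (o ∩ y).card) :
    ∃ k ∈ M24, FixesMasks k ms ∧ (g⁻¹ * k * g) • o = o ∧ (g⁻¹ * k * g) • x = y := by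
  obtain ⟨a, ha, hax⟩ := exists_objs (smul_mem_words hg hx) hfx
  obtain ⟨b, hb, hby⟩ := exists_objs (smul_mem_words hg hy) hfy
  have hval : H90.popc (H94.baseOctad &&& a) = H90.popc (H94.baseOctad &&& b) := by
    rw [← card_inter_setOf', ← card_inter_setOf', ← hgo, ← hax, ← hby, card_inter_smul,
      card_inter_smul, hxy]
  obtain ⟨k, hk, hkf, hks⟩ := conjugate_of_classB hfix hc ha hb hval
  exact ⟨k, hk, hkf, pullback_set (by rw [hgo, hkf _ hbase]),
    pullback_set (by rw [hax, hby, hks])⟩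

theorem pqIn_fix : fixB pqInGens [H94.baseOctad, 1 <<< 0, 1 <<< 1] = true := by decide +kernel

theorem pqIn_cls : classB pqInGens pqInCls (fun m => H90.popc (H94.baseOctad &&& m))
    (objs 8 fun m => H94.bitB m 0 && H94.bitB m 1) = true := by decide +kernel

theorem pInQOut_fix : fixB pInQOutGens [H94.baseOctad, 1 <<< 0, 1 <<< 5] = true := by decide +kernel

theorem pInQOut_cls : classB pInQOutGens pInQOutCls (fun m => H90.popc (H94.baseOctad &&& m))
    (objs 8 fun m => H94.bitB m 0 && !H94.bitB m 5) = true := by decide +kernel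

theorem xIn_fix : fixB xInGens [H94.baseOctad, 1 <<< 0] = true := by decide +kernel

theorem xIn_cls : classB xInGens xInCls (fun m => H90.popc (H94.baseOctad &&& m))
    (objs 8 fun m => H94.bitB m 0) = true := by decide +kernel

theorem xOut_fix : fixB xOutGens [H94.baseOctad, 1 <<< 5] = true := by decide +kernel

theorem xOut_cls : classB xOutGens xOutCls (fun m => H90.popc (H94.baseOctad &&& m))
    (objs 8 fun m => !H94.bitB m 5) = true := by decide +kernel

theorem bit_of_mem {g : Equiv.Perm GolayPt} {x : Finset GolayPt} {p : GolayPt} {i m : ℕ}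
    (hi : i < 24) (h : g p = H94.ptN i) (he : g • x = H90.setOf' m) :
    H94.bitB m i = true ↔ p ∈ x := by
  rw [← mem_setOf'_bitB hi, ← he, ← h, mem_smul_apply]

theorem octads_two_conj {p q : GolayPt} (hpq : p ≠ q) {o x y : Finset GolayPt} (ho : o ∈ octads)
    (hp : p ∈ o) (hq : q ∈ o) (hx : x ∈ octads) (hy : y ∈ octads) (hxp : p ∈ x) (hxq : q ∈ x)
    (hyp : p ∈ y) (hyq : q ∈ y) (hxy : (o ∩ x).card = (o ∩ y).card) :
    ∃ g ∈ M24, g p = p ∧ g q = q ∧ g • o = o ∧ g • x = y := by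
  obtain ⟨g, hg, hgo, hgp, hgq⟩ := normal_two ho hp hq hpq
  obtain ⟨k, hk, hkf, hko, hkx⟩ := octads_conj hg hgo pqIn_fix pqIn_cls (by simp) hx hy
    (fun m _ he => by simp [(bit_of_mem (by norm_num) hgp he).mpr hxp,
      (bit_of_mem (by norm_num) hgq he).mpr hxq])
    (fun m _ he => by simp [(bit_of_mem (by norm_num) hgp he).mpr hyp,
      (bit_of_mem (by norm_num) hgq he).mpr hyq]) hxy
  exact ⟨_, pullback hg hk, pullback_point hgp (fixes_point (by norm_num) (hkf _ (by simp))),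
    pullback_point hgq (fixes_point (by norm_num) (hkf _ (by simp))), hko, hkx⟩

theorem octads_in_out_conj {p q : GolayPt} {o x y : Finset GolayPt} (ho : o ∈ octads)
    (hp : p ∈ o) (hq : q ∉ o) (hx : x ∈ octads) (hy : y ∈ octads) (hxp : p ∈ x) (hxq : q ∉ x)
    (hyp : p ∈ y) (hyq : q ∉ y) (hxy : (o ∩ x).card = (o ∩ y).card) :
    ∃ g ∈ M24, g p = p ∧ g q = q ∧ g • o = o ∧ g • x = y := by
  obtain ⟨g, hg, hgo, hgp, hgq⟩ := normal_in_out ho hp hq
  obtain ⟨k, hk, hkf, hko, hkx⟩ := octads_conj hg hgo pInQOut_fix pInQOut_cls (by simp) hx hy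
    (fun m _ he => by
      simp [(bit_of_mem (by norm_num) hgp he).mpr hxp,
        Bool.eq_false_iff.mpr (mt (bit_of_mem (by norm_num) hgq he).mp hxq)])
    (fun m _ he => by
      simp [(bit_of_mem (by norm_num) hgp he).mpr hyp,
        Bool.eq_false_iff.mpr (mt (bit_of_mem (by norm_num) hgq he).mp hyq)]) hxy
  exact ⟨_, pullback hg hk, pullback_point hgp (fixes_point (by norm_num) (hkf _ (by simp))),
    pullback_point hgq (fixes_point (by norm_num) (hkf _ (by simp))), hko, hkx⟩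

theorem octads_in_conj {p : GolayPt} {o x y : Finset GolayPt} (ho : o ∈ octads) (hp : p ∈ o)
    (hx : x ∈ octads) (hy : y ∈ octads) (hxp : p ∈ x) (hyp : p ∈ y)
    (hxy : (o ∩ x).card = (o ∩ y).card) :
    ∃ g ∈ M24, g p = p ∧ g • o = o ∧ g • x = y := by
  obtain ⟨g, hg, hgo, hgp⟩ := normal_one ho hp
  obtain ⟨k, hk, hkf, hko, hkx⟩ := octads_conj hg hgo xIn_fix xIn_cls (by simp) hx hy
    (fun m _ he => (bit_of_mem (by norm_num) hgp he).mpr hxp)
    (fun m _ he => (bit_of_mem (by norm_num) hgp he).mpr hyp) hxy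
  exact ⟨_, pullback hg hk, pullback_point hgp (fixes_point (by norm_num) (hkf _ (by simp))),
    hko, hkx⟩

theorem octads_out_conj {q : GolayPt} {o x y : Finset GolayPt} (ho : o ∈ octads) (hq : q ∉ o)
    (hx : x ∈ octads) (hy : y ∈ octads) (hxq : q ∉ x) (hyq : q ∉ y)
    (hxy : (o ∩ x).card = (o ∩ y).card) :
    ∃ g ∈ M24, g q = q ∧ g • o = o ∧ g • x = y := by
  obtain ⟨g, hg, hgo, hgq⟩ := normal_out ho hq
  obtain ⟨k, hk, hkf, hko, hkx⟩ := octads_conj hg hgo xOut_fix xOut_cls (by simp) hx hy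
    (fun m _ he => by
      simp [Bool.eq_false_iff.mpr (mt (bit_of_mem (by norm_num) hgq he).mp hxq)])
    (fun m _ he => by
      simp [Bool.eq_false_iff.mpr (mt (bit_of_mem (by norm_num) hgq he).mp hyq)]) hxy
  exact ⟨_, pullback hg hk, pullback_point hgq (fixes_point (by norm_num) (hkf _ (by simp))),
    hko, hkx⟩

/-- There are 176 octads through one point and not through another. -/
theorem octads_in_out_total {p q : GolayPt} (hpq : p ≠ q) :
    {x : Finset GolayPt | x ∈ octads ∧ p ∈ x ∧ q ∉ x}.ncard = 176 := by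
  obtain ⟨a, ha0, ha1, hinj⟩ : ∃ a : ℕ → GolayPt, a 0 = p ∧ a 1 = q ∧
      ∀ i < 2, ∀ j < 2, a i = a j → i = j := ⟨fun i => if i = 0 then p else q, rfl, rfl, by
    intro i hi j hj h
    interval_cases i <;> interval_cases j <;> simp [hpq, Ne.symm hpq] at h ⊢⟩
  obtain ⟨g, hg, hga⟩ := H94.exists_five_images a 2 (by norm_num) hinj
  have hgp : g⁻¹ p = H94.ptN 0 := by
    rw [Equiv.Perm.inv_def, Equiv.symm_apply_eq, hga 0 (by norm_num), ha0]
  have hgq : g⁻¹ q = H94.ptN 1 := by
    rw [Equiv.Perm.inv_def, Equiv.symm_apply_eq, hga 1 (by norm_num), ha1]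
  unfold octads
  rw [ncard_transport (M24.inv_mem hg) 8 (fun x => p ∈ x ∧ q ∉ x),
    ncard_words_filter 8 (fun m => H94.bitB m 0 && !H94.bitB m 1)]
  · decide +kernel
  · intro m _
    rw [smul_point_iff _ _ hgp, smul_point_iff _ _ hgq, mem_setOf'_bitB (by norm_num),
      mem_setOf'_bitB (by norm_num)]
    simp

end H92

end
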