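import Cfsg.Agent.H92.DodBase
import Cfsg.Agent.H92.OctadOrbits
import Cfsg.Agent.H92.DodInData

/-!
Dodecads through a point relative to one of them.
-/

set_option autoImplicit false

noncomputable section

namespace H92

open Cfsg
open scoped Pointwise

/-- A dodecad with one marked point in normal position. -/
theorem normal_dod_one {d : Finset GolayPt} (hd : d ∈ dodecads) {x : GolayPt} (hx : x ∈ d) :
    ∃ g ∈ M24, g • d = H90.setOf' dod0 ∧ g x = H94.ptN 0 := by
  obtain ⟨g, hg, hgd, hgx⟩ := normal_dod_list hd [x] (List.nodup_singleton x) (by simp [hx]) (by simp)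
  exact ⟨g, hg, hgd, hgx 0 (by simp)⟩

theorem dodIn_fix : fixB dodInGens [dod0, 1 <<< 0] = true := by decide +kernel

theorem dodIn_cls : classB dodInGens dodInCls (fun m => H90.popc (dod0 &&& m))
    (objs 12 fun m => H94.bitB m 0) = true := by decide +kernel

theorem dodecads_in_count {x : GolayPt} {d : Finset GolayPt} (hd : d ∈ dodecads) (hx : x ∈ d)
    (k : ℕ) :
    {d' : Finset GolayPt | d' ∈ dodecads ∧ x ∈ d' ∧ (d ∩ d').card = k}.ncard =
      (objs 12 fun m => H94.bitB m 0 && Nat.beq (H90.popc (dod0 &&& m)) k).length := by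
  obtain ⟨g, hg, hgd, hgx⟩ := normal_dod_one hd hx
  unfold dodecads
  rw [ncard_transport hg 12 (fun d' => x ∈ d' ∧ (d ∩ d').card = k)]
  refine ncard_words_filter 12 _ _ fun m _ => ?_
  rw [smul_point_iff _ _ hgx, card_inter_inv, hgd, mem_setOf'_bitB (by norm_num), card_inter_setOf']
  simp

theorem dodecads_in_conj {x : GolayPt} {d a b : Finset GolayPt} (hd : d ∈ dodecads) (hx : x ∈ d)
    (ha : a ∈ dodecads) (hb : b ∈ dodecads) (hxa : x ∈ a) (hxb : x ∈ b)
    (hab : (d ∩ a).card = (d ∩ b).card) :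
    ∃ g ∈ M24, g x = x ∧ g • d = d ∧ g • a = b := by
  obtain ⟨g, hg, hgd, hgx⟩ := normal_dod_one hd hx
  obtain ⟨u, hu, hau⟩ := exists_objs (f := fun m => H94.bitB m 0) (smul_mem_words hg ha)
    fun m _ he => (bit_of_mem (by norm_num) hgx he).mpr hxa
  obtain ⟨v, hv, hbv⟩ := exists_objs (f := fun m => H94.bitB m 0) (smul_mem_words hg hb)
    fun m _ he => (bit_of_mem (by norm_num) hgx he).mpr hxb
  have hval : H90.popc (dod0 &&& u) = H90.popc (dod0 &&& v) := by
    rw [← card_inter_setOf', ← card_inter_setOf', ← hgd, ← hau, ← hbv, card_inter_smul,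
      card_inter_smul, hab]
  obtain ⟨k, hk, hkf, hks⟩ := conjugate_of_classB dodIn_fix dodIn_cls hu hv hval
  exact ⟨_, pullback hg hk, pullback_point hgx (fixes_point (by norm_num) (hkf _ (by simp))),
    pullback_set (by rw [hgd, hkf _ (by simp)]), pullback_set (by rw [hau, hbv, hks])⟩

end H92

end
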