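import Cfsg.Agent.H92.BlockCount
import Cfsg.Agent.H92.DodOrbits

/-!
Maximality of the stabilisers of an octad and of a duum.
-/

set_option autoImplicit false

noncomputable section

namespace H92

open Cfsg
open scoped Pointwise

/-- All words of weight `w`, as a finset. -/
def wordFinset (w : ℕ) : Finset (Finset GolayPt) :=
  (objs w fun _ => true).toFinset.image H90.setOf'

theorem mem_wordFinset {w : ℕ} {x : Finset GolayPt} :
    x ∈ wordFinset w ↔ x ∈ wordsOfWeight (golayCode : Set (GolayPt → ZMod 2)) w := by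
  simp only [wordFinset, Finset.mem_image, List.mem_toFinset]
  constructor
  · rintro ⟨m, hm, rfl⟩
    obtain ⟨⟨n, ⟨hn, hw⟩, rfl⟩, _⟩ := mem_objs.mp hm
    exact H90.mem_wordsOfWeight_iff.mpr ⟨n, hn, hw, rfl⟩
  · intro hx
    obtain ⟨m, hm, rfl⟩ := exists_objs (f := fun _ => true) hx fun _ _ _ => rfl
    exact ⟨m, hm, rfl⟩

theorem wordFinset_card (w : ℕ) : (wordFinset w).card = (objs w fun _ => true).length := by
  rw [wordFinset, Finset.card_image_of_injOn, List.toFinset_card_of_nodup (objs_nodup _ _)]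
  intro a ha b hb hab
  simp only [Finset.mem_coe, List.mem_toFinset] at ha hb
  exact H90.setOf'_injOn (objs_lt (w := w) (f := fun _ => true) ha)
    (objs_lt (w := w) (f := fun _ => true) hb) hab

theorem octad_inter_count {o : Finset GolayPt} (ho : o ∈ octads) (k : ℕ) :
    ((wordFinset 8).filter fun x => (o ∩ x).card = k).card =
      (objs 8 fun m => Nat.beq (H90.popc (H94.baseOctad &&& m)) k).length := by
  classical
  obtain ⟨p, hp⟩ : o.Nonempty := Finset.card_pos.mp (by rw [ho.2]; norm_num)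
  obtain ⟨g, hg, hgo, _⟩ := normal_one ho hp
  rw [← ncard_words_filter 8 _ (fun x => (H90.setOf' H94.baseOctad ∩ x).card = k)
    fun m _ => by rw [card_inter_setOf']; simp]
  have := ncard_transport hg 8 (fun x => (o ∩ x).card = k)
  simp only [card_inter_inv, hgo] at this
  rw [← this, ← Set.ncard_coe_finset]
  congr 1
  ext x
  simp [mem_wordFinset]

theorem octads_vals : (objs 8 fun _ => true).all (fun m =>
    [0, 2, 4, 8].elem (H90.popc (H94.baseOctad &&& m))) = true := by decide +kernel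

theorem octad_inter_vals {o x : Finset GolayPt} (ho : o ∈ octads) (hx : x ∈ octads) :
    (o ∩ x).card ∈ ({0, 2, 4, 8} : Finset ℕ) := by
  obtain ⟨p, hp⟩ : o.Nonempty := Finset.card_pos.mp (by rw [ho.2]; norm_num)
  obtain ⟨g, hg, hgo, _⟩ := normal_one ho hp
  obtain ⟨m, hm, hgx⟩ := exists_objs (f := fun _ => true) (smul_mem_words hg hx) fun _ _ _ => rfl
  rw [← card_inter_smul g, hgo, hgx, card_inter_setOf']
  simpa using List.all_eq_true.mp octads_vals m hm

theorem octad_stab_trans {o x y : Finset GolayPt} (ho : o ∈ octads) (hx : x ∈ octads) (hy : y ∈ octads)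
    (h : (o ∩ x).card = (o ∩ y).card) : ∃ g ∈ M24, g • o = o ∧ g • x = y := by
  by_cases h0 : (o ∩ x).card = 0
  · -- disjoint octads
    obtain ⟨q, hq⟩ : ((o ∪ x)ᶜ).Nonempty := by
      rw [← Finset.card_pos, Finset.card_compl, show Fintype.card GolayPt = 24 by simp [GolayPt]]
      have := Finset.card_union_le o x
      rw [ho.2, hx.2] at this
      omega
    obtain ⟨r, hr⟩ : ((o ∪ y)ᶜ).Nonempty := by
      rw [← Finset.card_pos, Finset.card_compl, show Fintype.card GolayPt = 24 by simp [GolayPt]]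
      have := Finset.card_union_le o y
      rw [ho.2, hy.2] at this
      omega
    simp only [Finset.mem_compl, Finset.mem_union, not_or] at hq hr
    obtain ⟨g, hg, hgo, hgq⟩ := normal_out ho hq.1
    obtain ⟨g', hg', hgo', hgr⟩ := normal_out ho hr.1
    obtain ⟨u, hu, hux⟩ := exists_objs (f := fun m => !H94.bitB m 5) (smul_mem_words hg hx)
      fun m _ he => by simp [Bool.eq_false_iff.mpr (mt (bit_of_mem (by norm_num) hgq he).mp hq.2)]
    obtain ⟨v, hv, hvy⟩ := exists_objs (f := fun m => !H94.bitB m 5) (smul_mem_words hg' hy)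
      fun m _ he => by simp [Bool.eq_false_iff.mpr (mt (bit_of_mem (by norm_num) hgr he).mp hr.2)]
    have hval : H90.popc (H94.baseOctad &&& u) = H90.popc (H94.baseOctad &&& v) := by
      rw [← card_inter_setOf', ← card_inter_setOf']
      conv_lhs => rw [← hgo, ← hux, card_inter_smul]
      conv_rhs => rw [← hgo', ← hvy, card_inter_smul]
      exact h
    obtain ⟨k, hk, hkf, hks⟩ := conjugate_of_classB xOut_fix xOut_cls hu hv hval
    refine ⟨g'⁻¹ * k * g, M24.mul_mem (M24.mul_mem (M24.inv_mem hg') hk) hg, ?_, ?_⟩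
    · rw [mul_smul, mul_smul, hgo, hkf _ (by simp), ← hgo', inv_smul_smul]
    · rw [mul_smul, mul_smul, hux, hks, ← hvy, inv_smul_smul]
  · obtain ⟨p, hp⟩ : (o ∩ x).Nonempty := Finset.card_pos.mp (Nat.pos_of_ne_zero h0)
    obtain ⟨r, hr⟩ : (o ∩ y).Nonempty := Finset.card_pos.mp (Nat.pos_of_ne_zero (h ▸ h0))
    rw [Finset.mem_inter] at hp hr
    obtain ⟨g, hg, hgo, hgp⟩ := normal_one ho hp.1
    obtain ⟨g', hg', hgo', hgr⟩ := normal_one ho hr.1
    obtain ⟨u, hu, hux⟩ := exists_objs (f := fun m => H94.bitB m 0) (smul_mem_words hg hx)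
      fun m _ he => (bit_of_mem (by norm_num) hgp he).mpr hp.2
    obtain ⟨v, hv, hvy⟩ := exists_objs (f := fun m => H94.bitB m 0) (smul_mem_words hg' hy)
      fun m _ he => (bit_of_mem (by norm_num) hgr he).mpr hr.2
    have hval : H90.popc (H94.baseOctad &&& u) = H90.popc (H94.baseOctad &&& v) := by
      rw [← card_inter_setOf', ← card_inter_setOf']
      conv_lhs => rw [← hgo, ← hux, card_inter_smul]
      conv_rhs => rw [← hgo', ← hvy, card_inter_smul]
      exact h
    obtain ⟨k, hk, hkf, hks⟩ := conjugate_of_classB xIn_fix xIn_cls hu hv hval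
    refine ⟨g'⁻¹ * k * g, M24.mul_mem (M24.mul_mem (M24.inv_mem hg') hk) hg, ?_, ?_⟩
    · rw [mul_smul, mul_smul, hgo, hkf _ (by simp), ← hgo', inv_smul_smul]
    · rw [mul_smul, mul_smul, hux, hks, ← hvy, inv_smul_smul]

theorem isCoatom_octad {o : Finset GolayPt} (ho : o ∈ octads) :
    IsCoatom (MulAction.stabilizer M24 o) := by
  refine isCoatom_of_suborbits o (wordFinset 8) ?_ (fun x => (o ∩ x).card) {0, 2, 4, 8}
    (fun k => [30, 0, 448, 0, 280, 0, 0, 0, 1].getD k 0)
    (fun x hx => octad_inter_vals ho (mem_wordFinset.mp hx)) ?_ ?_ ?_ ?_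
  · ext x
    rw [Finset.mem_coe, mem_wordFinset]
    constructor
    · intro hx
      obtain ⟨p, hp⟩ : o.Nonempty := Finset.card_pos.mp (by rw [ho.2]; norm_num)
      obtain ⟨q, hq⟩ : x.Nonempty := Finset.card_pos.mp (by rw [hx.2]; norm_num)
      obtain ⟨g, hg, hgo, _⟩ := normal_one ho hp
      obtain ⟨h, hh, hhx, _⟩ := normal_one (show x ∈ octads from hx) hq
      exact ⟨⟨h⁻¹ * g, M24.mul_mem (M24.inv_mem hh) hg⟩,
        show (h⁻¹ * g) • o = x by rw [mul_smul, hgo, ← hhx, inv_smul_smul]⟩
    · rintro ⟨g, rfl⟩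
      exact smul_mem_words g.2 ho
  · intro k hk
    rw [octad_inter_count ho k]
    fin_cases hk <;> decide +kernel
  · intro x hx y hy h
    obtain ⟨g, hg, h1, h2⟩ := octad_stab_trans ho (mem_wordFinset.mp hx) (mem_wordFinset.mp hy) h
    exact ⟨⟨g, hg⟩, h1, h2⟩
  · rw [wordFinset_card]; decide +kernel
  · have hcard : (wordFinset 8).card = 759 := by rw [wordFinset_card]; decide +kernel
    rw [hcard]
    have hval : (o ∩ o).card = 8 := by rw [Finset.inter_self, ho.2]
    simp only [hval]
    decide +kernel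

end H92

end
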