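import Cfsg.Agent.H43.Wall
import Cfsg.Agent.H43.Bridge
import Cfsg.Prelude.Def_SporadicB

/-! Reflections of an orthogonal group over the field of two elements as 3-transpositions. -/

set_option autoImplicit false
set_option linter.unusedSectionVars false

namespace H92

open H43 Matrix

variable {V : Type*} [AddCommGroup V] [Module (ZMod 2) V] [FiniteDimensional (ZMod 2) V]
  {Q : QuadraticForm (ZMod 2) V}

omit [FiniteDimensional (ZMod 2) V] in
theorem qval_eq_one {v : V} (h : Q v ≠ 0) : Q v = 1 := by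
  have e : ∀ a : ZMod 2, a ≠ 0 → a = 1 := by decide
  exact e _ h

omit [FiniteDimensional (ZMod 2) V] in
theorem refl_two_apply {v : V} (h : Q v = 1) (x : V) :
    (refl Q v).1 x = x + polB Q x v • v := by
  rw [refl_apply, h, inv_one, one_mul, sub_eq_add_neg, ← neg_smul]
  congr 2
  exact ZMod.neg_eq_self_mod_two _

theorem refl_ne_one (hQ : (polB Q).Nondegenerate) {v : V} (h : Q v ≠ 0) : refl Q v ≠ 1 := by
  have hv : v ≠ 0 := by rintro rfl; simp at h
  obtain ⟨y, hy⟩ := exists_polB_ne_zero hQ hv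
  intro he
  have h2 : (refl Q v).1 y = y := by rw [he]; rfl
  rw [refl_two_apply (qval_eq_one h), add_eq_left, smul_eq_zero, polB_comm] at h2
  tauto

theorem refl_orderOf (hQ : (polB Q).Nondegenerate) {v : V} (h : Q v ≠ 0) :
    orderOf (refl Q v) = 2 :=
  orderOf_eq_prime (by rw [pow_two, refl_sq]) (refl_ne_one hQ h)

theorem refl_pair {v w : V} (hv : Q v ≠ 0) (hw : Q w ≠ 0) :
    (refl Q v * refl Q w) ^ 2 = 1 ∨ (refl Q v * refl Q w) ^ 3 = 1 := by
  have hv1 := qval_eq_one hv
  have hw1 := qval_eq_one hw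
  have e : ∀ a : ZMod 2, a = 0 ∨ a = 1 := by decide
  rcases e (polB Q v w) with h | h
  · left
    have hc : refl Q v * refl Q w = refl Q w * refl Q v := by
      apply orth_ext; intro x
      simp only [orth_mul_apply, refl_two_apply hv1, refl_two_apply hw1, map_add, map_smul,
        LinearMap.add_apply, LinearMap.smul_apply, smul_eq_mul, polB_comm w v, h]
      module
    rw [pow_two, mul_assoc, ← mul_assoc (refl Q w), ← hc, mul_assoc, refl_sq, mul_one, refl_sq]
  · right
    have h1 : refl Q v * refl Q w * refl Q v = refl Q (w + v) := by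
      have := refl_conj (refl Q v) w
      rw [refl_inv, refl_two_apply hv1, polB_comm, h, one_smul] at this
      exact this
    have h2 : refl Q w * refl Q v * refl Q w = refl Q (w + v) := by
      have := refl_conj (refl Q w) v
      rw [refl_inv, refl_two_apply hw1, h, one_smul, add_comm] at this
      exact this
    calc (refl Q v * refl Q w) ^ 3
        = (refl Q v * refl Q w * refl Q v) * (refl Q w * refl Q v * refl Q w) := by
          simp only [pow_succ, pow_zero, one_mul, mul_assoc]
      _ = 1 := by rw [h1, h2, refl_sq]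

theorem reflSet_three_transp (hQ : (polB Q).Nondegenerate) (hd : Module.finrank (ZMod 2) V ≠ 4)
    (hex : ∃ v, Q v ≠ 0) : Cfsg.IsThreeTranspositionClass (reflSet Q) := by
  obtain ⟨v₀, hv₀⟩ := hex
  refine ⟨⟨?_, ?_⟩, ⟨refl Q v₀, ⟨v₀, hv₀, rfl⟩, ?_⟩, closure_reflSet hQ (Or.inr hd)⟩
  · rintro _ ⟨v, hv, rfl⟩; exact refl_orderOf hQ hv
  · rintro _ ⟨v, hv, rfl⟩ _ ⟨w, hw, rfl⟩; exact refl_pair hv hw
  · ext g
    simp only [conjugatesOf, Set.mem_ofPred_eq, isConj_iff]
    constructor
    · rintro ⟨v, hv, rfl⟩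
      obtain ⟨g, hg⟩ := exists_orth_map hQ (x := v₀) (y := v)
        (by rintro rfl; simp at hv₀) (by rintro rfl; simp at hv)
        (by rw [qval_eq_one hv₀, qval_eq_one hv])
      exact ⟨g, by rw [refl_conj, hg]⟩
    · rintro ⟨c, rfl⟩
      exact ⟨c.1 v₀, by rwa [orth_qmap], refl_conj c v₀⟩

theorem mem_reflSet_iff (hQ : (polB Q).Nondegenerate) (g : orthGroup Q) :
    g ∈ reflSet Q ↔ Module.finrank (ZMod 2) (resid g) = 1 := by
  constructor
  · rintro ⟨v, hv, rfl⟩
    have h1 := qval_eq_one hv
    have hv0 : v ≠ 0 := by rintro rfl; simp at hv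
    have hr : resid (refl Q v) = Submodule.span (ZMod 2) {v} := by
      apply le_antisymm
      · rintro _ ⟨x, rfl⟩
        rw [resMap_apply, refl_two_apply h1, sub_add_eq_sub_sub, sub_self, zero_sub]
        exact Submodule.neg_mem _ (Submodule.smul_mem _ _ (Submodule.mem_span_singleton_self v))
      · rw [Submodule.span_singleton_le_iff_mem]
        obtain ⟨y, hy⟩ := exists_polB_eq hQ hv0 1
        refine ⟨-y, ?_⟩
        rw [resMap_apply, refl_two_apply h1, map_neg, LinearMap.neg_apply, polB_comm, hy,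
          neg_smul, one_smul]
        abel
    rw [hr, finrank_span_singleton hv0]
  · intro h
    obtain ⟨u, hu0, hspan⟩ := finrank_eq_one_iff'.mp h
    have e : ∀ a : ZMod 2, a = 0 ∨ a = 1 := by decide
    have hval : ∀ x, g.1 x = x ∨ g.1 x = x - (u : V) := by
      intro x
      obtain ⟨c, hc⟩ := hspan ⟨_, resMap_mem g x⟩
      have hc' : c • (u : V) = resMap g x := congrArg Subtype.val hc
      rw [resMap_apply] at hc'
      rcases e c with rfl | rfl
      · left; rw [zero_smul, eq_comm, sub_eq_zero] at hc'; exact hc'.symm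
      · right; rw [one_smul] at hc'; rw [hc', sub_sub_cancel]
    have hB : ∀ x, g.1 x ≠ x → polB Q x (u : V) = Q (u : V) := by
      intro x hx
      have := g.2 x
      rw [(hval x).resolve_left hx, qmap_sub] at this
      linear_combination -this
    have hfix : ∀ x, g.1 x = x → polB Q x (u : V) = 0 := fun x hx => polB_fixed_resid hx u.2
    have hQu : Q (u : V) ≠ 0 := by
      intro hz
      apply hu0
      apply Subtype.ext
      apply eq_zero_of_polB_eq_zero hQ
      intro y
      rw [polB_comm]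
      by_cases hy : g.1 y = y
      · exact hfix y hy
      · rw [hB y hy, hz]
    refine ⟨u, hQu, orth_ext fun x => ?_⟩
    rw [refl_two_apply (qval_eq_one hQu)]
    by_cases hx : g.1 x = x
    · rw [hfix x hx, zero_smul, add_zero, hx]
    · rw [hB x hx, qval_eq_one hQu, one_smul, (hval x).resolve_left hx, sub_eq_add_neg]
      congr 1
      rw [← neg_one_smul (ZMod 2) (u : V), show (-1 : ZMod 2) = 1 by decide, one_smul]

theorem three_transp_comap {G H : Type*} [Group G] [Group H] (e : G ≃* H) {D : Set H}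
    (hD : Cfsg.IsThreeTranspositionClass D) : Cfsg.IsThreeTranspositionClass (e ⁻¹' D) := by
  obtain ⟨⟨h2, h3⟩, ⟨d, hd, hconj⟩, hgen⟩ := hD
  refine ⟨⟨fun x hx => ?_, fun x hx y hy => ?_⟩, ⟨e.symm d, by simpa using hd, ?_⟩, ?_⟩
  · rw [← orderOf_injective e.toMonoidHom e.injective]; exact h2 _ hx
  · rcases h3 _ hx _ hy with h | h
    · left; apply e.injective; simpa using h
    · right; apply e.injective; simpa using h
  · ext x
    simp only [Set.mem_preimage, conjugatesOf, Set.mem_ofPred_eq, isConj_iff]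
    rw [hconj]
    simp only [conjugatesOf, Set.mem_ofPred_eq, isConj_iff]
    constructor
    · rintro ⟨c, hc⟩; exact ⟨e.symm c, by rw [← map_inv, ← map_mul, ← map_mul, hc, e.symm_apply_apply]⟩
    · rintro ⟨c, rfl⟩; exact ⟨e c, by simp⟩
  · have him : (e ⁻¹' D) = (e.symm.toMonoidHom '' D) := by
      ext x
      simp only [Set.mem_preimage, Set.mem_image]
      exact ⟨fun hx => ⟨e x, hx, e.symm_apply_apply x⟩, by rintro ⟨y, hy, rfl⟩; simpa using hy⟩
    rw [him, ← MonoidHom.map_closure, hgen,
      Subgroup.map_top_of_surjective _ e.symm.surjective]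

theorem isometry_three_transp {ι : Type} [Fintype ι] [DecidableEq ι]
    (Q : QuadraticForm (ZMod 2) (ι → ZMod 2)) (hQ : (polB Q).Nondegenerate)
    (hd : Fintype.card ι ≠ 4) (hex : ∃ v, Q v ≠ 0) {f : (ι → ZMod 2) → ZMod 2} (hf : ⇑Q = f) :
    Cfsg.IsThreeTranspositionClass {g : ↥(Cfsg.isometryGroup (ZMod 2) f) |
      (((g : GL ι (ZMod 2)) : Matrix ι ι (ZMod 2)) - 1).rank = 1} := by
  subst hf
  have h := three_transp_comap (toOrth Q)
    (reflSet_three_transp hQ (by rwa [Module.finrank_fintype_fun_eq_card]) hex)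
  convert h using 1
  ext g
  rw [Set.mem_preimage, mem_reflSet_iff hQ, Set.mem_ofPred_eq, Matrix.rank]
  have hr : resid (toOrth Q g) =
      LinearMap.range (((g : GL ι (ZMod 2)) : Matrix ι ι (ZMod 2)) - 1).mulVecLin := by
    apply le_antisymm <;> rintro _ ⟨x, rfl⟩
    · exact ⟨-x, by rw [Matrix.mulVecLin_apply, Matrix.sub_mulVec, Matrix.one_mulVec,
        Matrix.mulVec_neg, resMap_apply, toOrth_apply]; abel⟩
    · exact ⟨-x, by rw [Matrix.mulVecLin_apply, Matrix.sub_mulVec, Matrix.one_mulVec,
        resMap_apply, toOrth_apply, Matrix.mulVec_neg]; abel⟩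
  rw [hr]

end H92
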