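/- The automorphism group of the Higman–Sims graph. -/
import Cfsg.Agent.H91.HSGraph
import Cfsg.Agent.H91.DerivedAut

set_option autoImplicit false

noncomputable section

namespace H92.HSA

open Cfsg Finset

variable {α : Type*} [Fintype α] [DecidableEq α] {B : Set (Finset α)}

local notation "Γ" => Cfsg.pointBlockGraph B

theorem blocks_nonempty (hB : IsSteinerSystem 3 6 B) : ∀ b ∈ B, (b : Finset α).Nonempty :=
  fun b hb => card_pos.mp (by rw [hB.1 b hb]; norm_num)

theorem transitive (hα : Fintype.card α = 22) (hB : IsSteinerSystem 3 6 B)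
    (x y : Option (α ⊕ B)) : ∃ f : Γ ≃g Γ, f x = y := by
  classical
  haveI : Fintype B := Fintype.ofFinite _
  have hfin : H96.HS100.pts.Finite :=
    (H95.leechLike.finite_norm (Or.inl rfl)).subset fun x hx => hx.1
  haveI : Fintype ↥H96.HS100.pts := hfin.fintype
  obtain ⟨a⟩ := H91.Srg.srg100_iso_model (H91.pointBlockGraph_srg hα hB)
  obtain ⟨b⟩ := H91.Srg.srg100_iso_model H91.HSG.hsGraph_srg
  let e : H91.HSG.hsGraph ≃g Γ := b.trans a.symm
  have key : ∀ z : Option (α ⊕ B), ∃ f : Γ ≃g Γ, f z = e ⟨_, H96.HS100.base_mem⟩ := by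
    intro z
    obtain ⟨g, hg, hgz⟩ := H91.HSG.move_to_base (e.symm z).2
    refine ⟨(e.symm.trans (H91.HSG.actGraph ⟨g, hg⟩)).trans e, ?_⟩
    show e (H91.HSG.actGraph ⟨g, hg⟩ (e.symm z)) = e _
    exact congrArg e (Subtype.ext hgz)
  obtain ⟨f, hf⟩ := key x
  obtain ⟨f', hf'⟩ := key y
  exact ⟨f.trans f'.symm, by show f'.symm (f x) = y; rw [hf, ← hf', RelIso.symm_apply_apply]⟩

/-- An automorphism of the system as a bijection on the blocks. -/
def blockPerm (σ : setSystemAut B) : B ≃ B :=
  ((Equiv.Set.image _ B (Finset.image_injective σ.1.injective))).trans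
    (Equiv.setCongr (H90.mem_setSystemAut_iff.mp σ.2))

theorem blockPerm_coe (σ : setSystemAut B) (b : B) :
    ((blockPerm σ b : B) : Finset α) = (b : Finset α).image σ.1 := rfl

/-- An automorphism of the system as an automorphism of the graph. -/
def liftAut (hne : ∀ b ∈ B, (b : Finset α).Nonempty) (σ : setSystemAut B) : Γ ≃g Γ where
  toEquiv := Equiv.optionCongr (Equiv.sumCongr σ.1 (blockPerm σ))
  map_rel_iff' := by
    intro x y
    show (Γ).Adj (Option.map _ x) (Option.map _ y) ↔ (Γ).Adj x y
    rcases x with _ | a | b <;> rcases y with _ | a' | b' <;>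
      simp only [Option.map_none, Option.map_some, Equiv.sumCongr_apply, Sum.map_inl, Sum.map_inr]
    · exact iff_of_true (by simp [Cfsg.pointBlockGraph, Cfsg.pointBlockRel])
        (by simp [Cfsg.pointBlockGraph, Cfsg.pointBlockRel])
    · exact iff_of_false (by simp [Cfsg.pointBlockGraph, Cfsg.pointBlockRel])
        (by simp [Cfsg.pointBlockGraph, Cfsg.pointBlockRel])
    · exact iff_of_true (by simp [Cfsg.pointBlockGraph, Cfsg.pointBlockRel])
        (by simp [Cfsg.pointBlockGraph, Cfsg.pointBlockRel])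
    · exact iff_of_false (by simp [Cfsg.pointBlockGraph, Cfsg.pointBlockRel])
        (by simp [Cfsg.pointBlockGraph, Cfsg.pointBlockRel])
    · rw [(H91.Srg.pointBlock_adj hne (σ.1 a) (σ.1 a) (blockPerm σ b') (blockPerm σ b')).2.2.2.2.2.1,
        (H91.Srg.pointBlock_adj hne a a b' b').2.2.2.2.2.1, blockPerm_coe,
        σ.1.injective.mem_finset_image]
    · exact iff_of_false (by simp [Cfsg.pointBlockGraph, Cfsg.pointBlockRel])
        (by simp [Cfsg.pointBlockGraph, Cfsg.pointBlockRel])
    · rw [(H91.Srg.pointBlock_adj hne (σ.1 a') (σ.1 a') (blockPerm σ b) (blockPerm σ b)).2.2.2.2.2.2.1,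
        (H91.Srg.pointBlock_adj hne a' a' b b).2.2.2.2.2.2.1, blockPerm_coe,
        σ.1.injective.mem_finset_image]
    · obtain ⟨p, -⟩ := hne b b.2
      rw [(H91.Srg.pointBlock_adj hne (σ.1 p) (σ.1 p) (blockPerm σ b) (blockPerm σ b')).2.2.2.2.2.2.2,
        (H91.Srg.pointBlock_adj hne p p b b').2.2.2.2.2.2.2, blockPerm_coe, blockPerm_coe,
        disjoint_image σ.1.injective]

theorem card_fix_none (hα : Fintype.card α = 22) (hB : IsSteinerSystem 3 6 B) :
    Nat.card {f : Γ ≃g Γ // f none = none} = 887040 := by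
  classical
  have hne := blocks_nonempty hB
  obtain ⟨a0⟩ : Nonempty α := Fintype.card_pos_iff.mp (by omega)
  let F : setSystemAut B → {f : Γ ≃g Γ // f none = none} := fun σ => ⟨liftAut hne σ, rfl⟩
  rw [← (H91.Derived.s22_aut hα hB).1]
  refine (Nat.card_eq_of_bijective F ⟨fun σ τ h => ?_, fun f => ?_⟩).symm
  · refine Subtype.ext (Equiv.ext fun a => ?_)
    have h1 := congrArg (fun g : {f : Γ ≃g Γ // f none = none} => g.1 (some (Sum.inl a))) h
    exact Sum.inl.inj (Option.some.inj h1)
  · obtain ⟨f, hf⟩ := f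
    -- the neighbours of the extra vertex are the points
    have hpt : ∀ a, ∃ a', f (some (Sum.inl a)) = some (Sum.inl a') := by
      intro a
      have hadj : (Γ).Adj none (f (some (Sum.inl a))) := by
        rw [← hf, f.map_rel_iff]; simp [Cfsg.pointBlockGraph, Cfsg.pointBlockRel]
      rcases h : f (some (Sum.inl a)) with _ | a' | b
      · rw [h] at hadj; exact absurd rfl hadj.ne
      · exact ⟨a', rfl⟩
      · rw [h] at hadj
        exact absurd hadj (by simp [Cfsg.pointBlockGraph, Cfsg.pointBlockRel])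
    choose s hs using hpt
    have sinj : Function.Injective s := fun a a' e =>
      Sum.inl.inj (Option.some.inj (f.injective (by rw [hs, hs, e])))
    let σ : Equiv.Perm α := Equiv.ofBijective s ⟨sinj, Finite.surjective_of_injective sinj⟩
    have hbl : ∀ b : B, ∃ b' : B, f (some (Sum.inr b)) = some (Sum.inr b') ∧
        (b : Finset α).image σ = (b' : Finset α) := by
      intro b
      rcases h : f (some (Sum.inr b)) with _ | a' | b'
      · exact absurd (f.injective (h.trans hf.symm)) (by simp)
      · obtain ⟨a, ha⟩ := Finite.surjective_of_injective sinj a'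
        rw [← ha, ← hs] at h
        exact absurd (f.injective h) (by simp)
      · refine ⟨b', rfl, ?_⟩
        ext a'
        obtain ⟨a, rfl⟩ := σ.surjective a'
        rw [σ.injective.mem_finset_image,
          ← (H91.Srg.pointBlock_adj hne a a b b).2.2.2.2.2.1,
          ← (H91.Srg.pointBlock_adj hne (σ a) (σ a) b' b').2.2.2.2.2.1, ← f.map_rel_iff, h, hs]
        rfl
    have hσ : σ ∈ setSystemAut B := by
      rw [H90.mem_setSystemAut_iff]
      refine Set.eq_of_subset_of_ncard_le ?_
        (by rw [Set.ncard_image_of_injective _ (Finset.image_injective σ.injective)]) (Set.toFinite _)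
      rintro _ ⟨b, hb, rfl⟩
      obtain ⟨b', -, e⟩ := hbl ⟨b, hb⟩
      show b.image σ ∈ B
      rw [show b.image σ = (b' : Finset α) from e]
      exact b'.2
    let σ' : setSystemAut B := ⟨σ, hσ⟩
    refine ⟨σ', Subtype.ext (RelIso.ext fun x => ?_)⟩
    rcases x with _ | a | b
    · exact hf.symm
    · exact (hs a).symm
    · obtain ⟨b', hb', e⟩ := hbl b
      rw [hb']
      have hbp : blockPerm σ' b = b' := Subtype.ext ((blockPerm_coe σ' b).trans e)
      exact congrArg (fun c : B => (some (Sum.inr c) : Option (α ⊕ B))) hbp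

theorem card_aut (hα : Fintype.card α = 22) (hB : IsSteinerSystem 3 6 B) :
    Nat.card (Γ ≃g Γ) = 88704000 := by
  classical
  haveI : Fintype B := Fintype.ofFinite _
  let act : MulAction (Γ ≃g Γ) (Option (α ⊕ B)) :=
    { smul := fun f x => f x, one_smul := fun _ => rfl, mul_smul := fun _ _ _ => rfl }
  haveI : MulAction.IsPretransitive (Γ ≃g Γ) (Option (α ⊕ B)) := ⟨transitive hα hB⟩
  haveI : Finite (Γ ≃g Γ) := Finite.of_injective _ DFunLike.coe_injective
  have h := (MulAction.stabilizer (Γ ≃g Γ) (none : Option (α ⊕ B))).card_mul_index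
  have hs : Nat.card (MulAction.stabilizer (Γ ≃g Γ) (none : Option (α ⊕ B))) = 887040 :=
    card_fix_none hα hB
  have hv : Nat.card (Option (α ⊕ B)) = 100 := by
    rw [Nat.card_eq_fintype_card]; exact (H91.pointBlockGraph_srg hα hB).card
  rw [MulAction.index_stabilizer_of_transitive, hs, hv] at h
  omega

end H92.HSA
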