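import Cfsg.Agent.H94.Perm

/-! Certificate data: local subgroups of a two-point stabiliser. -/

set_option autoImplicit false

namespace H92

/-- Powers of an element of order eleven fixing positions 9 and 12. -/
def elevenPows : List ℕ := [
  984818244535754528103549039458486304, 147503486080379314491624875330906564,
  6790949431600750939541812189217382, 177079405474861877221292344659347170,
  273069854128050123813185355895617642, 103462093632980981079464693451803664,
  443339340989673722743224765757545601, 690788871137744110625423033401117902,
  50972886015826071976973387878039635, 599161440682936834352022344106086743,
  804143597173491341709072783559596547]

/-- Powers of an element of order five normalising it. -/
def fivePows : List ℕ := [
  984818244535754528103549039458486304, 604142245801904551696261883384433729,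
  816711178964004064580119485601550434, 267021378977836757303578851616522371,
  671808489073658833683456878353384452]

/-- An element of order four normalising the second one. -/
def fourElt : ℕ := 630113965223992054228080598941995072

end H92
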