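import Cfsg.Agent.H92.M11Base
import Cfsg.Agent.H92.TwoPointData

/-!
Kernel checks for local subgroups of a two-point stabiliser.
-/

set_option autoImplicit false

noncomputable section

namespace H92

/-- Pruning for elements carrying each power `m` of a permutation to the power `k * m`. -/
def normFilter (pw : List ℕ) (n k l Q : ℕ) : Bool :=
  (List.range (l + 1)).all fun i => (List.range n).all fun m =>
    Nat.blt l (H94.pap (pw.getD m 0) i) ||
      Nat.beq (H94.pap Q (H94.pap (pw.getD m 0) i)) (H94.pap (pw.getD (k * m % n) 0) (H94.pap Q i))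

/-- Candidates for the normaliser of a cyclic group inside the base group. -/
def normList (pw : List ℕ) (n : ℕ) : List ℕ :=
  (List.range n).flatMap fun k => if Nat.beq k 0 then [] else
    (H94.search (normFilter pw n k)).filter fun Q =>
      Nat.beq (H94.pap Q 9) 9 && Nat.beq (H94.pap Q 12) 12 &&
        H94.peq (H94.pmul Q (pw.getD 1 0)) (H94.pmul (pw.getD k 0) Q)

/-- The list consists of the powers. -/
def powsB (pw : List ℕ) (n : ℕ) : Bool :=
  Nat.beq pw.length n && H94.memB (pw.getD 1 0) && Nat.beq (H94.pap (pw.getD 1 0) 9) 9 &&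
    Nat.beq (H94.pap (pw.getD 1 0) 12) 12 && !H94.peq (pw.getD 1 0) H94.pone &&
    H94.peq (ppow (pw.getD 1 0) n) H94.pone &&
    (List.range n).all fun m => H94.peq (pw.getD m 0) (ppow (pw.getD 1 0) m)

theorem eleven_check : powsB elevenPows 11 = true := by decide +kernel
theorem five_check : powsB fivePows 5 = true := by decide +kernel
theorem eleven_norm : Nat.ble (normList elevenPows 11).length 55 = true := by decide +kernel
theorem five_norm : Nat.ble (normList fivePows 5).length 20 = true := by decide +kernel

theorem four_check : (H94.memB fourElt && Nat.beq (H94.pap fourElt 9) 9 &&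
    Nat.beq (H94.pap fourElt 12) 12 &&
    ((List.range 11).any fun k => H94.peq (H94.pmul (fivePows.getD 1 0) (elevenPows.getD 1 0))
      (H94.pmul (elevenPows.getD k 0) (fivePows.getD 1 0))) &&
    ((List.range 5).any fun k => H94.peq (H94.pmul fourElt (fivePows.getD 1 0))
      (H94.pmul (fivePows.getD k 0) fourElt)) &&
    H94.peq (ppow (H94.pmul (elevenPows.getD 1 0) (H94.pmul fourElt (fivePows.getD 1 0))) 7)
      H94.pone &&
    !H94.peq (H94.pmul (elevenPows.getD 1 0) (H94.pmul fourElt (fivePows.getD 1 0))) H94.pone) =
      true := by decide +kernel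

end H92

end
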