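import Cfsg.Agent.H92.M11Base
import Cfsg.Agent.H92.TwoPointChecks
import Cfsg.Agent.H90.Group

/-!
The stabiliser of two points has no subgroups of index 56 or 210.
-/

set_option autoImplicit false

noncomputable section

namespace H92

open Cfsg
open scoped Pointwise

/-- The stabiliser of two points. -/
abbrev twoPt (p q : GolayPt) : Subgroup M24 :=
  MulAction.stabilizer M24 p ⊓ MulAction.stabilizer M24 q

/-- The base group. -/
abbrev twoPt0 : Subgroup M24 := twoPt (H94.ptN 9) (H94.ptN 12)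

theorem mem_twoPt {p q : GolayPt} {g : M24} :
    g ∈ twoPt p q ↔ (g : Equiv.Perm GolayPt) p = p ∧ (g : Equiv.Perm GolayPt) q = q := Iff.rfl

theorem trans_two {p q p' q' : GolayPt} (h : p ≠ q) (h' : p' ≠ q') :
    ∃ g : M24, (g : Equiv.Perm GolayPt) p = p' ∧ (g : Equiv.Perm GolayPt) q = q' := by
  have key : ∀ u v : GolayPt, u ≠ v →
      ∃ g ∈ M24, g (H94.ptN 0) = u ∧ g (H94.ptN 1) = v := by
    intro u v huv
    obtain ⟨g, hg, hga⟩ := H94.exists_five_images (fun i => if i = 0 then u else v) 2 (by norm_num) (by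
      intro i hi j hj he
      interval_cases i <;> interval_cases j <;> simp at he ⊢
      · exact huv he
      · exact huv he.symm)
    exact ⟨g, hg, hga 0 (by norm_num), hga 1 (by norm_num)⟩
  obtain ⟨g, hg, g0, g1⟩ := key p q h
  obtain ⟨k, hk, k0, k1⟩ := key p' q' h'
  exact ⟨⟨k, hk⟩ * ⟨g, hg⟩⁻¹,
    by show (k * g⁻¹) p = p'; rw [← g0, Equiv.Perm.mul_apply, Equiv.Perm.inv_def, Equiv.symm_apply_apply, k0],
    by show (k * g⁻¹) q = q'; rw [← g1, Equiv.Perm.mul_apply, Equiv.Perm.inv_def, Equiv.symm_apply_apply, k1]⟩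

theorem twoPt0_card : Nat.card twoPt0 = 443520 := by
  classical
  have h912 : H94.ptN 9 ≠ H94.ptN 12 := fun h => by
    have := H94.ptN_inj (by norm_num) (by norm_num) h; omega
  have hP : H94.ptN 9 ≠ H94.ptN 12 := h912
  have h1 : Nat.card (MulAction.stabilizer M24 (H94.ptN 9)) * 24 = 244823040 := by
    have := card_inf_stab (⊤ : Subgroup M24) (H94.ptN 9)
    rw [top_inf_eq, Subgroup.card_top, H90.natCard_M24] at this
    have horb : MulAction.orbit (⊤ : Subgroup M24) (H94.ptN 9) = Set.univ := by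
      ext y
      simp only [Set.mem_univ, iff_true]
      by_cases hy : y = H94.ptN 9
      · subst hy; exact MulAction.mem_orbit_self _
      · obtain ⟨g, hg, -⟩ := trans_two h912 (p' := y) (q' := H94.ptN 9) hy
        exact ⟨⟨g, Subgroup.mem_top g⟩, hg⟩
    rw [horb, Nat.card_coe_set_eq, Set.ncard_univ,
      show Nat.card GolayPt = 24 by rw [Nat.card_eq_fintype_card]; rfl] at this
    rw [mul_comm]; exact this
  have h2 := card_inf_stab (MulAction.stabilizer M24 (H94.ptN 9)) (H94.ptN 12)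
  have horb : MulAction.orbit (MulAction.stabilizer M24 (H94.ptN 9)) (H94.ptN 12) =
      {y | y ≠ H94.ptN 9} := by
    ext y
    constructor
    · rintro ⟨k, rfl⟩ hk
      exact h912 (((k : M24) : Equiv.Perm GolayPt).injective (hk.trans k.2.symm)).symm
    · intro hy
      obtain ⟨g, hg9, hg12⟩ := trans_two hP (p' := H94.ptN 9) (q' := y) (Ne.symm hy)
      exact ⟨⟨g, hg9⟩, hg12⟩
  rw [horb, Nat.card_coe_set_eq, show {y | y ≠ H94.ptN 9} = ({H94.ptN 9} : Set GolayPt)ᶜ from rfl,
    Set.ncard_compl, Set.ncard_singleton,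
    show Nat.card GolayPt = 24 by rw [Nat.card_eq_fintype_card]; rfl] at h2
  have h3 : (24 - 1) * Nat.card twoPt0 = Nat.card (MulAction.stabilizer M24 (H94.ptN 9)) := h2
  omega

theorem twoPt0_exists {l : ℕ} (h : (H94.memB l && Nat.beq (H94.pap l 9) 9 &&
    Nat.beq (H94.pap l 12) 12) = true) :
    ∃ g : twoPt0, H94.Reps l ((g : M24) : Equiv.Perm GolayPt) := by
  simp only [Bool.and_eq_true] at h
  obtain ⟨g, hg, hR⟩ := H94.exists_perm_of_memB h.1.1
  refine ⟨⟨⟨g, hg⟩, mem_twoPt.mpr ⟨?_, ?_⟩⟩, hR⟩ <;> apply H94.idxN_injective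
  · show H94.idxN (g (H94.ptN 9)) = _
    rw [← hR 9 (by norm_num), Nat.eq_of_beq_eq_true h.1.2, H94.idxN_ptN (by norm_num)]
  · show H94.idxN (g (H94.ptN 12)) = _
    rw [← hR 12 (by norm_num), Nat.eq_of_beq_eq_true h.2, H94.idxN_ptN (by norm_num)]

theorem exists_pow_elt {pw : List ℕ} {n : ℕ} (hn : n.Prime) (h : powsB pw n = true) :
    ∃ a : twoPt0, orderOf a = n ∧
      ∀ m < n, H94.Reps (pw.getD m 0) (((a ^ m : twoPt0) : M24) : Equiv.Perm GolayPt) := by
  simp only [powsB, Bool.and_eq_true] at h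
  obtain ⟨⟨⟨⟨⟨⟨_, hm⟩, h9⟩, h12⟩, hne⟩, h1⟩, hp⟩ := h
  obtain ⟨a, hR⟩ := twoPt0_exists (l := pw.getD 1 0) (by rw [hm, h9, h12]; rfl)
  haveI := Fact.mk hn
  refine ⟨a, orderOf_eq_prime (ext_of_peq (x := a ^ n) (y := 1) (by simpa using reps_pow hR n)
    (by simpa using H94.reps_one) h1) fun he => ?_, fun m hm' i hi => ?_⟩
  · subst he
    rw [hR.peq_of_eq (by simpa using H94.reps_one)] at hne
    exact Bool.noConfusion hne
  · rw [Nat.eq_of_beq_eq_true (List.all_eq_true.mp
      (List.all_eq_true.mp hp m (List.mem_range.mpr hm')) i (List.mem_range.mpr hi))]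
    simpa using reps_pow hR m i hi

theorem card_normalizer_le {pw : List ℕ} {n : ℕ} (a : twoPt0) (ho : orderOf a = n) (h1 : 1 < n)
    (hp : ∀ m < n, H94.Reps (pw.getD m 0) (((a ^ m : twoPt0) : M24) : Equiv.Perm GolayPt)) :
    Nat.card (Subgroup.normalizer ((Subgroup.zpowers a : Subgroup twoPt0) : Set twoPt0)) ≤
      (normList pw n).length := by
  have hex : ∀ g : Subgroup.normalizer ((Subgroup.zpowers a : Subgroup twoPt0) : Set twoPt0),
      ∃ i : Fin (normList pw n).length,
        H94.Reps ((normList pw n)[i.1]) (((g : twoPt0) : M24) : Equiv.Perm GolayPt) := by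
    intro g
    obtain ⟨g, hg⟩ := g
    have h := (Subgroup.mem_normalizer_iff.mp hg a).mp (Subgroup.mem_zpowers a)
    obtain ⟨k', hk⟩ := (mem_powers_iff_mem_zpowers.mpr h : g * a * g⁻¹ ∈ Submonoid.powers a)
    have hk' : a ^ (k' % n) = g * a * g⁻¹ := by rw [← ho, pow_mod_orderOf]; exact hk
    obtain ⟨k, hkdef⟩ : ∃ k, k' % n = k := ⟨_, rfl⟩
    rw [hkdef] at hk'
    have hkn : k < n := hkdef ▸ Nat.mod_lt _ (by omega)
    have hk0 : k ≠ 0 := by
      intro h0
      rw [h0, pow_zero] at hk'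
      have : a = 1 := conj_eq_one_iff.mp hk'.symm
      rw [this, orderOf_one] at ho
      omega
    have hmul : ∀ m, g * a ^ m = a ^ (k * m % n) * g := by
      intro m
      rw [← ho, pow_mod_orderOf, pow_mul, hk', conj_pow, inv_mul_cancel_right]
    obtain ⟨σ, hσ⟩ : ∃ σ, σ = ((g : M24) : Equiv.Perm GolayPt) := ⟨_, rfl⟩
    obtain ⟨Q, hQ, hQR⟩ := H94.search_complete (normFilter pw n k) (g := σ) (hσ ▸ (g : M24).2) (by
      intro l hl Q hag
      rw [normFilter, List.all_eq_true]
      intro i hi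
      have hi' := List.mem_range.mp hi
      rw [List.all_eq_true]
      intro m hm
      have hm' := List.mem_range.mp hm
      rw [Bool.or_eq_true]
      by_cases hb : Nat.blt l (H94.pap (pw.getD m 0) i) = true
      · exact Or.inl hb
      right
      have hle : H94.pap (pw.getD m 0) i < l + 1 := by
        rw [Nat.blt, Nat.ble_eq] at hb; omega
      rw [hag _ hle, hag i hi', hp m hm' i (by omega), H94.ptN_idxN,
        hp _ (Nat.mod_lt _ (by omega)) _ (H94.idxN_lt _), H94.ptN_idxN]
      have := congrArg (fun z : twoPt0 => ((z : M24) : Equiv.Perm GolayPt) (H94.ptN i)) (hmul m)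
      rw [hσ]
      rw [Nat.beq_eq]
      exact congrArg H94.idxN this)
    have hmem : Q ∈ normList pw n := by
      rw [normList, List.mem_flatMap]
      refine ⟨k, List.mem_range.mpr hkn, ?_⟩
      rw [if_neg (by rw [Nat.beq_eq]; exact hk0), List.mem_filter]
      refine ⟨hQ, ?_⟩
      obtain ⟨g9, g12⟩ := mem_twoPt.mp g.2
      simp only [Bool.and_eq_true]
      refine ⟨⟨?_, ?_⟩, ?_⟩
      · rw [hQR 9 (by norm_num), hσ, g9, H94.idxN_ptN (by norm_num), Nat.beq_eq]
      · rw [hQR 12 (by norm_num), hσ, g12, H94.idxN_ptN (by norm_num), Nat.beq_eq]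
      · have h2 := hQR.mul (hp 1 h1)
        have h3 := (hp k hkn).mul hQR
        rw [hσ] at h2 h3
        refine h2.peq_of_eq ?_
        have e := congrArg (fun z : twoPt0 => ((z : M24) : Equiv.Perm GolayPt)) (hmul 1)
        rw [mul_one, Nat.mod_eq_of_lt hkn] at e
        simp only [Subgroup.coe_mul] at e
        rw [e]
        exact h3
    obtain ⟨i, hi, rfl⟩ := List.getElem_of_mem hmem
    exact ⟨⟨i, hi⟩, hσ ▸ hQR⟩
  refine le_trans (Nat.card_le_card_of_injective (fun g => (hex g).choose) fun g g' he => ?_)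
    (le_of_eq (Nat.card_fin _))
  have h1' := (hex g).choose_spec
  have h2' := (hex g').choose_spec
  simp only at he
  rw [he] at h1'
  exact Subtype.ext (Subtype.ext (Subtype.ext (h1'.unique h2')))

theorem mem_normalizer_zpowers {G : Type*} [Group G] [Finite G] {g a : G}
    (h : g * a * g⁻¹ ∈ Subgroup.zpowers a) :
    g ∈ Subgroup.normalizer ((Subgroup.zpowers a : Subgroup G) : Set G) := by
  refine Subgroup.mem_normalizer_iff.mpr fun y => ?_
  have hfw : ∀ z ∈ Subgroup.zpowers a, g * z * g⁻¹ ∈ Subgroup.zpowers a := by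
    intro z hz
    obtain ⟨i, rfl⟩ := Subgroup.mem_zpowers_iff.mp hz
    rw [← conj_zpow]
    exact zpow_mem h _
  refine ⟨hfw y, fun hy => ?_⟩
  let f : Subgroup.zpowers a → Subgroup.zpowers a := fun z => ⟨g * z * g⁻¹, hfw z z.2⟩
  have hf : Function.Injective f := fun u v he => Subtype.ext (by
    have := congrArg Subtype.val he
    simpa [f] using this)
  obtain ⟨z, hz⟩ := (Finite.injective_iff_surjective.mp hf) ⟨_, hy⟩
  have : (z : G) = y := by simpa [f] using congrArg Subtype.val hz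
  exact this ▸ z.2

/-- The normaliser inside `H` of a subgroup of order `p`, against the one in the whole group. -/
theorem local_count {G : Type*} [Group G] [Finite G] (H : Subgroup G) (a : H) {p c : ℕ}
    [Fact p.Prime] (ho : orderOf a = p)
    (hle : Nat.card (Subgroup.normalizer ((Subgroup.zpowers (a : G) : Subgroup G) : Set G)) ≤ c)
    (hdvd : p ∣ Nat.card H) (hsq : ¬ p ^ 2 ∣ Nat.card H) :
    ∃ d ≤ c, d ∣ Nat.card H ∧ (Nat.card H / d) % p = 1 ∧
      (d = c → Subgroup.normalizer ((Subgroup.zpowers (a : G) : Subgroup G) : Set G) ≤ H) := by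
  have hcard : Nat.card (Subgroup.zpowers a) = p := by rw [Nat.card_zpowers, ho]
  have hfac : (Nat.card H).factorization p = 1 := by
    have h1 := ((Fact.out : p.Prime).pow_dvd_iff_le_factorization Nat.card_pos.ne').not.mp hsq
    have h2 := (Fact.out : p.Prime).factorization_pos_of_dvd Nat.card_pos.ne' hdvd
    omega
  let P : Sylow p H := Sylow.ofCard (Subgroup.zpowers a) (by rw [hcard, hfac, pow_one])
  have hP : (P : Subgroup H) = Subgroup.zpowers a := rfl
  obtain ⟨N, hN⟩ : ∃ N, N = Subgroup.normalizer ((Subgroup.zpowers (a : G) : Subgroup G) : Set G) :=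
    ⟨_, rfl⟩
  obtain ⟨M, hM⟩ : ∃ M, M = Subgroup.normalizer ((Subgroup.zpowers a : Subgroup H) : Set H) :=
    ⟨_, rfl⟩
  rw [← hN] at hle ⊢
  have hmap : M.map H.subtype ≤ N := by
    rintro _ ⟨h, hh, rfl⟩
    rw [hN]
    refine mem_normalizer_zpowers ?_
    rw [hM] at hh
    obtain ⟨i, hi⟩ := Subgroup.mem_zpowers_iff.mp
      ((Subgroup.mem_normalizer_iff.mp hh a).mp (Subgroup.mem_zpowers a))
    exact Subgroup.mem_zpowers_iff.mpr ⟨i, by simpa using congrArg (H.subtype) hi⟩
  have h2 : Nat.card (Sylow p H) = Nat.card H / Nat.card M := by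
    rw [P.card_eq_index_normalizer,
      show Subgroup.normalizer (P : Set H) = M by rw [hM]; rfl,
      ← M.index_mul_card, Nat.mul_div_cancel _ Nat.card_pos]
  refine ⟨Nat.card M, ?_, Subgroup.card_subgroup_dvd_card M, ?_, fun hMc g hg => ?_⟩
  · rw [← Subgroup.card_map_of_injective H.subtype_injective]
    exact le_trans (Nat.le_of_dvd Nat.card_pos (Subgroup.card_dvd_of_le hmap)) hle
  · rw [← h2]
    have := card_sylow_modEq_one p H
    rwa [Nat.ModEq, Nat.one_mod_eq_one.mpr (Fact.out : p.Prime).ne_one] at this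
  · have heq : M.map H.subtype = N := Subgroup.eq_of_le_of_card_ge hmap (by
      rw [Subgroup.card_map_of_injective H.subtype_injective, hMc]; exact hle)
    rw [← heq] at hg
    obtain ⟨h, -, rfl⟩ := hg
    exact h.2

theorem twoPt0_no_index (H : Subgroup twoPt0) : H.index ≠ 56 ∧ H.index ≠ 210 := by
  haveI : Fact (Nat.Prime 11) := ⟨by norm_num⟩
  haveI : Fact (Nat.Prime 5) := ⟨by norm_num⟩
  haveI : Fact (Nat.Prime 7) := ⟨by norm_num⟩
  obtain ⟨a, hao, hap⟩ := exists_pow_elt (by norm_num) eleven_check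
  obtain ⟨x, hxo, hxp⟩ := exists_pow_elt (by norm_num) five_check
  have hac := (card_normalizer_le a hao (by norm_num) hap).trans (Nat.le_of_ble_eq_true eleven_norm)
  have hxc := (card_normalizer_le x hxo (by norm_num) hxp).trans (Nat.le_of_ble_eq_true five_norm)
  have hconj : ∀ {n}, H.index = n → 11 ∣ Nat.card H → ∃ H' : Subgroup twoPt0,
      Nat.card H' = Nat.card H ∧ a ∈ H' := by
    intro n _ h11
    obtain ⟨y, hy⟩ := exists_prime_orderOf_dvd_card' 11 h11
    have hcard : ∀ z : twoPt0, orderOf z = 11 → Nat.card (Subgroup.zpowers z) =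
        11 ^ (Nat.card twoPt0).factorization 11 := by
      intro z hz
      rw [Nat.card_zpowers, hz, twoPt0_card]
      have : (443520 : ℕ).factorization 11 = 1 := by
        refine le_antisymm ?_ ((Nat.Prime.factorization_pos_of_dvd (by norm_num) (by norm_num)
          (by norm_num)))
        by_contra h
        have := ((Nat.Prime.pow_dvd_iff_le_factorization (by norm_num) (by norm_num)).mpr
          (not_le.mp h) : 11 ^ 2 ∣ 443520)
        norm_num at this
      rw [this, pow_one]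
    have hy' : orderOf (y : twoPt0) = 11 := by rw [Subgroup.orderOf_coe, hy]
    obtain ⟨g, hg⟩ := MulAction.exists_smul_eq twoPt0
      (Sylow.ofCard (Subgroup.zpowers (y : twoPt0)) (hcard _ hy'))
      (Sylow.ofCard (Subgroup.zpowers a) (hcard _ hao))
    refine ⟨H.map (MulAut.conj g).toMonoidHom, Subgroup.card_map_of_injective (MulAut.conj g).injective, ?_⟩
    have h1 := congrArg (fun P : Sylow 11 twoPt0 => a ∈ (P : Subgroup twoPt0)) hg
    simp only [Sylow.coe_subgroup_smul, Subgroup.mem_pointwise_smul_iff_inv_smul_mem] at h1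
    have h2 : (MulAut.conj g)⁻¹ • a ∈ Subgroup.zpowers (y : twoPt0) := by
      rw [show (Sylow.ofCard (Subgroup.zpowers a) (hcard _ hao) : Subgroup twoPt0) =
        Subgroup.zpowers a from rfl] at h1
      exact h1.mpr (Subgroup.mem_zpowers a)
    refine ⟨(MulAut.conj g).symm a, ?_, by simp [mul_assoc]⟩
    exact (Subgroup.zpowers_le.mpr y.2) h2
  have hidx : ∀ {n}, H.index = n → Nat.card H * n = 443520 := fun h => by
    rw [← h, Subgroup.card_mul_index, twoPt0_card]
  refine ⟨fun h => ?_, fun h => ?_⟩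
  · have hH : Nat.card H = 7920 := by have := hidx h; omega
    obtain ⟨K, hK, haK⟩ := hconj h (by rw [hH]; norm_num)
    rw [hH] at hK
    have hc := four_check
    simp only [Bool.and_eq_true, List.any_eq_true, List.mem_range] at hc
    obtain ⟨⟨⟨⟨⟨⟨f1, f2⟩, f3⟩, ⟨k, hk, fk⟩⟩, ⟨j, hj, fj⟩⟩, f7⟩, f1'⟩ := hc
    obtain ⟨c, hcR⟩ := twoPt0_exists (l := fourElt) (by rw [f1, f2, f3]; rfl)
    have hR1 : ∀ {z : twoPt0} {P : ℕ}, H94.Reps P (((z ^ 1 : twoPt0) : M24) : Equiv.Perm GolayPt) →
        H94.Reps P ((z : M24) : Equiv.Perm GolayPt) := fun h => by simpa using h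
    have hxa : x * a * x⁻¹ = a ^ k := by
      rw [mul_inv_eq_iff_eq_mul]
      exact ext_of_peq ((hR1 (hxp 1 (by norm_num))).mul (hR1 (hap 1 (by norm_num))))
        ((hap k hk).mul (hR1 (hxp 1 (by norm_num)))) fk
    have hcx : c * x * c⁻¹ = x ^ j := by
      rw [mul_inv_eq_iff_eq_mul]
      exact ext_of_peq (hcR.mul (hR1 (hxp 1 (by norm_num)))) ((hxp j hj).mul hcR) fj
    obtain ⟨d, hd, hd1, hd2, hNa⟩ := local_count (p := 11) K ⟨a, haK⟩
      (by rw [Subgroup.orderOf_mk, hao]) hac (by rw [hK]; norm_num) (by rw [hK]; norm_num)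
    rw [hK] at hd1 hd2
    specialize hNa (by interval_cases d <;> omega)
    have hxK : x ∈ K := hNa (mem_normalizer_zpowers (hxa ▸ Subgroup.pow_mem _ (Subgroup.mem_zpowers a) k))
    obtain ⟨e, he, he1, he2, hNx⟩ := local_count (p := 5) K ⟨x, hxK⟩
      (by rw [Subgroup.orderOf_mk, hxo]) hxc (by rw [hK]; norm_num) (by rw [hK]; norm_num)
    rw [hK] at he1 he2
    specialize hNx (by interval_cases e <;> omega)
    have hcK : c ∈ K := hNx (mem_normalizer_zpowers (hcx ▸ Subgroup.pow_mem _ (Subgroup.mem_zpowers x) j))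
    have hw : orderOf (a * (c * x)) = 7 := by
      have hR : H94.Reps (H94.pmul (elevenPows.getD 1 0) (H94.pmul fourElt (fivePows.getD 1 0)))
          (((a * (c * x) : twoPt0) : M24) : Equiv.Perm GolayPt) :=
        (hR1 (hap 1 (by norm_num))).mul (hcR.mul (hR1 (hxp 1 (by norm_num))))
      refine orderOf_eq_prime (ext_of_peq (x := (a * (c * x)) ^ 7) (y := 1)
        (by simpa using reps_pow hR 7) (by simpa using H94.reps_one) f7) fun he => ?_
      rw [he] at hR
      rw [hR.peq_of_eq (by simpa using H94.reps_one)] at f1'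
      exact Bool.noConfusion f1'
    have h7 := Subgroup.orderOf_dvd_natCard K (K.mul_mem haK (K.mul_mem hcK hxK))
    rw [hw, hK] at h7
    norm_num at h7
  · have hH : Nat.card H = 2112 := by have := hidx h; omega
    obtain ⟨K, hK, haK⟩ := hconj h (by rw [hH]; norm_num)
    rw [hH] at hK
    obtain ⟨d, hd, hd1, hd2, -⟩ := local_count (p := 11) K ⟨a, haK⟩
      (by rw [Subgroup.orderOf_mk, hao]) hac (by rw [hK]; norm_num) (by rw [hK]; norm_num)
    rw [hK] at hd1 hd2
    interval_cases d <;> omega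

theorem twoPt_no_index {p q : GolayPt} (hpq : p ≠ q) (H : Subgroup (twoPt p q)) :
    H.index ≠ 56 ∧ H.index ≠ 210 := by
  obtain ⟨g, hgp, hgq⟩ := trans_two hpq (p' := H94.ptN 9) (q' := H94.ptN 12)
    (fun h => by have := H94.ptN_inj (by norm_num) (by norm_num) h; omega)
  let e : twoPt p q ≃* twoPt0 := conjSubEquiv g fun k => by
    simp only [twoPt, twoPt0, Subgroup.mem_inf]
    rw [conj_mem_stab (x := p) g k hgp, conj_mem_stab (x := q) g k hgq]
  rw [← Subgroup.index_map_equiv H e]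
  exact twoPt0_no_index _

end H92

end
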