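/- PSL(2,23) and 23:11 inside the Mathieu groups. -/
import Cfsg.Agent.H90.NormCycle
import Cfsg.Agent.H90.SimpleTwo
import Cfsg.Agent.H90.Orbits
import Cfsg.Agent.H92.TwoPoint

set_option autoImplicit false

noncomputable section

namespace H92.L23

open Cfsg H90
open scoped Pointwise

/-- The two groups. -/
def affGrp : Subgroup (Equiv.Perm GolayPt) := Subgroup.closure {genT, mulTwo}

def pslGrp : Subgroup (Equiv.Perm GolayPt) := Subgroup.closure {genT, mulTwo, projInv}

/-- Powers of `genT`, encoded. -/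
def tPow : ℕ → ℕ
  | 0 => idN
  | k + 1 => compN genTN (tPow k)

theorem repr_tPow : ∀ k, Repr (genT ^ k) (tPow k)
  | 0 => repr_one
  | k + 1 => by rw [pow_succ']; exact repr_genT.mul (repr_tPow k)

theorem genT_aff : genT ∈ affGrp := Subgroup.subset_closure (Or.inl rfl)
theorem mulTwo_aff : mulTwo ∈ affGrp := Subgroup.subset_closure (Or.inr rfl)
theorem genT_psl : genT ∈ pslGrp := Subgroup.subset_closure (Or.inl rfl)
theorem projInv_psl : projInv ∈ pslGrp := Subgroup.subset_closure (Or.inr (Or.inr rfl))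

theorem aff_le_psl : affGrp ≤ pslGrp :=
  Subgroup.closure_mono fun x hx => hx.elim Or.inl fun h => Or.inr (Or.inl h)

theorem genT_pow23 : genT ^ 23 = 1 := by rw [← orderOf_genT]; exact pow_orderOf_eq_one _
theorem mulTwo_pow11 : mulTwo ^ 11 = 1 := by rw [← orderOf_mulTwo]; exact pow_orderOf_eq_one _

theorem mulTwo_genT : mulTwo * genT = genT ^ 2 * mulTwo :=
  (repr_mulTwo.mul repr_genT).unique (by
    rw [show compN mulTwoN genTN = compN (tPow 2) mulTwoN by decide +kernel]
    exact (repr_tPow 2).mul repr_mulTwo)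

theorem aff_le_fix : affGrp ≤ fixNone := by
  rw [affGrp, Subgroup.closure_le]
  rintro x (rfl | rfl)
  · exact genT_mem_fixNone
  · exact (mem_fixTwo.mp mulTwo_mem).1

theorem psl_le : pslGrp ≤ M24 := by
  rw [pslGrp, Subgroup.closure_le]
  rintro x (rfl | rfl | rfl)
  · exact genT_mem
  · exact (aff_le_fix mulTwo_aff).1
  · exact H90.projInv_mem

/-- The base element of order 23 in the point stabiliser. -/
def cT : fixNone := ⟨genT, genT_mem_fixNone⟩

theorem aff_sub : affGrp.subgroupOf fixNone =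
    Subgroup.normalizer ((Subgroup.zpowers cT : Subgroup fixNone) : Set fixNone) := by
  haveI : Finite fixNone := inferInstance
  refine Subgroup.eq_of_le_of_card_ge ?_ ?_
  · rw [← Subgroup.map_le_map_iff_of_injective fixNone.subtype_injective,
      Subgroup.subgroupOf_map_subtype, inf_eq_left.mpr aff_le_fix, affGrp, Subgroup.closure_le]
    rintro x (rfl | rfl)
    · exact ⟨cT, (normalizer_zpowers_iff cT cT).mpr ⟨1, by simp⟩, rfl⟩
    · refine ⟨⟨mulTwo, (mem_fixTwo.mp mulTwo_mem).1⟩,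
        (normalizer_zpowers_iff cT _).mpr ⟨2, Subtype.ext ?_⟩, rfl⟩
      show mulTwo * genT * mulTwo⁻¹ = genT ^ 2
      rw [mulTwo_genT, mul_inv_cancel_right]
  · rw [show cT = ⟨genT, genT_mem_fixNone⟩ from rfl, norm23_card,
      Nat.card_congr (Subgroup.subgroupOfEquivOfLe aff_le_fix).toEquiv]
    refine Nat.le_of_dvd Nat.card_pos ?_
    refine (show Nat.Coprime 23 11 by norm_num).mul_dvd_of_dvd_of_dvd ?_ ?_
    · rw [← orderOf_genT]; exact Subgroup.orderOf_dvd_natCard _ genT_aff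
    · rw [← orderOf_mulTwo]; exact Subgroup.orderOf_dvd_natCard _ mulTwo_aff

theorem card_aff : Nat.card affGrp = 253 := by
  rw [← Nat.card_congr (Subgroup.subgroupOfEquivOfLe aff_le_fix).toEquiv, aff_sub,
    show cT = ⟨genT, genT_mem_fixNone⟩ from rfl, norm23_card]

theorem card_fixNone : Nat.card fixNone = 10200960 := by
  rw [← natCard_stab_point (none : GolayPt)]
  exact Nat.card_congr
    { toFun := fun g => ⟨⟨g.1, g.2.1⟩, g.2.2⟩
      invFun := fun g => ⟨g.1.1, g.1.2, g.2⟩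
      left_inv := fun _ => rfl
      right_inv := fun _ => rfl }

/-- Sylow counting for a cyclic subgroup of prime order. -/
theorem sylow_count {G : Type*} [Group G] [Finite G] (H : Subgroup G) {a : G} (ha : a ∈ H) {p : ℕ}
    [Fact p.Prime] (ho : orderOf a = p) (hsq : ¬ p ^ 2 ∣ Nat.card H) :
    ∀ N, N = Subgroup.normalizer ((Subgroup.zpowers a : Subgroup G) : Set G) →
      Nat.card ↥(H ⊓ N) ∣ Nat.card H ∧ (Nat.card H / Nat.card ↥(H ⊓ N)) % p = 1 := by
  intro N hN
  refine ⟨Subgroup.card_dvd_of_le inf_le_left, ?_⟩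
  have ho' : orderOf (⟨a, ha⟩ : H) = p := by rw [← Subgroup.orderOf_coe]; exact ho
  have hcard : Nat.card (Subgroup.zpowers (⟨a, ha⟩ : H)) = p := by rw [Nat.card_zpowers, ho']
  have hfac : (Nat.card H).factorization p = 1 := by
    have h1 := ((Fact.out : p.Prime).pow_dvd_iff_le_factorization Nat.card_pos.ne').not.mp hsq
    have h2 := (Fact.out : p.Prime).factorization_pos_of_dvd Nat.card_pos.ne'
      (ho' ▸ orderOf_dvd_natCard (⟨a, ha⟩ : H))
    omega
  let P : Sylow p H := Sylow.ofCard (Subgroup.zpowers (⟨a, ha⟩ : H)) (by rw [hcard, hfac, pow_one])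
  obtain ⟨M, hM⟩ : ∃ M, M = Subgroup.normalizer
      ((Subgroup.zpowers (⟨a, ha⟩ : H) : Subgroup H) : Set H) := ⟨_, rfl⟩
  have hmap : M.map H.subtype = H ⊓ N := by
    ext g
    constructor
    · rintro ⟨h, hh, rfl⟩
      refine ⟨h.2, ?_⟩
      rw [hN]
      rw [hM] at hh
      replace hh := (normalizer_zpowers_iff _ h).mp hh
      obtain ⟨k, hk⟩ := hh
      exact (normalizer_zpowers_iff a _).mpr ⟨k, congrArg H.subtype hk⟩
    · rintro ⟨hg, hg'⟩
      rw [hN] at hg'
      obtain ⟨k, hk⟩ := (normalizer_zpowers_iff a g).mp hg'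
      refine ⟨⟨g, hg⟩, ?_, rfl⟩
      rw [hM]
      exact (normalizer_zpowers_iff _ _).mpr ⟨k, Subtype.ext hk⟩
  have h2 : Nat.card (Sylow p H) = Nat.card H / Nat.card M := by
    rw [P.card_eq_index_normalizer,
      show Subgroup.normalizer (P : Set H) = M by rw [hM]; rfl,
      ← M.index_mul_card, Nat.mul_div_cancel _ Nat.card_pos]
  rw [← hmap, Subgroup.card_map_of_injective H.subtype_injective, ← h2]
  have := card_sylow_modEq_one p H
  rwa [Nat.ModEq, Nat.one_mod_eq_one.mpr (Fact.out : p.Prime).ne_one] at this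

theorem m2_fixNone : mulTwo ∈ fixNone := (mem_fixTwo.mp mulTwo_mem).1

theorem norm11_fix : ∀ N, N = Subgroup.normalizer
    ((Subgroup.zpowers (⟨mulTwo, m2_fixNone⟩ : fixNone) : Subgroup fixNone) : Set fixNone) →
    Nat.card N ∣ 55 := by
  intro N hN
  rw [← norm22_card, ← Subgroup.card_map_of_injective fixNone.subtype_injective,
    ← Subgroup.card_map_of_injective fixTwo.subtype_injective]
  refine Subgroup.card_dvd_of_le ?_
  rintro _ ⟨⟨σ, hσ⟩, hh, rfl⟩
  rw [hN] at hh
  obtain ⟨k, hk⟩ := (normalizer_zpowers_iff _ _).mp hh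
  have hk' : σ * mulTwo * σ⁻¹ = mulTwo ^ k := congrArg fixNone.subtype hk
  have h0 : σ (some 0) = some 0 := by
    have hfix : mulTwo (σ⁻¹ (some 0)) = σ⁻¹ (some 0) := by
      have h1 : (mulTwo ^ k) (some 0) = some 0 := by rw [mulTwo_pow_apply, mul_zero]
      rw [← hk', Equiv.Perm.mul_apply, Equiv.Perm.mul_apply] at h1
      exact σ.injective (h1.trans (by simp))
    rcases h : σ⁻¹ (some 0) with _ | y
    · have : σ (σ⁻¹ (some 0)) = σ none := by rw [h]
      rw [(mem_fixNone.mp hσ).2] at this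
      simp at this
    · rw [h, mulTwo_apply, Option.some.injEq] at hfix
      have hy : y = 0 := by linear_combination hfix
      have : σ (σ⁻¹ (some 0)) = σ (some y) := by rw [h]
      rw [hy] at this
      simpa using this.symm
  refine ⟨⟨σ, mem_fixTwo.mpr ⟨mem_fixNone.mp hσ, h0⟩⟩, ?_, rfl⟩
  exact (normalizer_zpowers_iff _ _).mpr ⟨k, Subtype.ext hk'⟩

theorem divisor_facts : ∀ n ∈ Nat.divisors 40320, n % 23 = 1 →
    n = 1 ∨ n = 40320 ∨ ((23 * n) % 11 ≠ 1 ∧ ¬ (5 ∣ n ∧ 23 * (n / 5) % 11 = 1)) := by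
  decide +kernel

/-- `23:11` is maximal in the point stabiliser. -/
theorem aff_maximal {H : Subgroup (Equiv.Perm GolayPt)} (h1 : affGrp ≤ H) (h2 : H ≤ fixNone) :
    H = affGrp ∨ H = fixNone := by
  haveI : Fact (Nat.Prime 23) := ⟨by norm_num⟩
  haveI : Fact (Nat.Prime 11) := ⟨by norm_num⟩
  set H' := H.subgroupOf fixNone with hH'
  have hH : Nat.card H' = Nat.card H := Nat.card_congr (Subgroup.subgroupOfEquivOfLe h2).toEquiv
  have hdvd : Nat.card H' ∣ 10200960 := card_fixNone ▸ Subgroup.card_subgroup_dvd_card H'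
  have hsq : ∀ p : ℕ, ¬ p ^ 2 ∣ 10200960 → ¬ p ^ 2 ∣ Nat.card H' := fun p hp h => hp (h.trans hdvd)
  have hK : affGrp.subgroupOf fixNone ≤ H' := fun x hx => h1 hx
  obtain ⟨h23a, h23b⟩ := sylow_count H' (a := cT) (show cT ∈ H' from h1 genT_aff) (p := 23)
    (by rw [← Subgroup.orderOf_coe]; exact orderOf_genT) (hsq 23 (by norm_num)) _ rfl
  rw [← aff_sub, inf_eq_right.mpr hK,
    Nat.card_congr (Subgroup.subgroupOfEquivOfLe aff_le_fix).toEquiv, card_aff] at h23a h23b
  obtain ⟨n, hn⟩ := h23a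
  rw [hn, Nat.mul_div_cancel_left _ (by norm_num)] at h23b
  have hn' : n ∈ Nat.divisors 40320 := by
    rw [Nat.mem_divisors]
    refine ⟨?_, by norm_num⟩
    rw [hn, show 10200960 = 253 * 40320 by norm_num] at hdvd
    exact Nat.dvd_of_mul_dvd_mul_left (by norm_num) hdvd
  rcases divisor_facts n hn' h23b with rfl | rfl | ⟨ha, hb⟩
  · exact Or.inl (Subgroup.eq_of_le_of_card_ge h1 (by rw [card_aff, ← hH, hn])).symm
  · exact Or.inr (Subgroup.eq_of_le_of_card_ge h2 (by rw [card_fixNone, ← hH, hn]))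
  · exfalso
    have hm : (⟨mulTwo, m2_fixNone⟩ : fixNone) ∈ H' := h1 mulTwo_aff
    have ho : orderOf (⟨mulTwo, m2_fixNone⟩ : fixNone) = 11 := by
      rw [← Subgroup.orderOf_coe]; exact orderOf_mulTwo
    obtain ⟨N, hN⟩ : ∃ N, N = Subgroup.normalizer
      ((Subgroup.zpowers (⟨mulTwo, m2_fixNone⟩ : fixNone) : Subgroup fixNone) : Set fixNone) :=
      ⟨_, rfl⟩
    obtain ⟨hd, hmod⟩ := sylow_count H' hm ho (hsq 11 (by norm_num)) N hN
    have h55 : Nat.card ↥(H' ⊓ N) ∣ 55 :=
      (Subgroup.card_dvd_of_le inf_le_right).trans (norm11_fix N hN)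
    have h11 : 11 ∣ Nat.card ↥(H' ⊓ N) := by
      rw [← ho]
      refine Subgroup.orderOf_dvd_natCard _ ⟨hm, ?_⟩
      rw [hN]
      exact (normalizer_zpowers_iff _ _).mpr ⟨1, by rw [pow_one, mul_inv_cancel_right]⟩
    obtain ⟨c, hc⟩ := h11
    rw [hc] at h55 hd hmod
    have hc5 : c ∣ 5 := Nat.dvd_of_mul_dvd_mul_left (show 0 < 11 by norm_num) h55
    rcases (Nat.dvd_prime (by norm_num)).mp hc5 with rfl | rfl
    · apply ha
      rw [hn, show 253 * n = 11 * 1 * (23 * n) by ring, Nat.mul_div_cancel_left _ (by norm_num)] at hmod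
      exact hmod
    · have h5 : 5 ∣ n := by
        have : 5 ∣ 253 * n := by rw [← hn]; exact (dvd_mul_left 5 11).trans hd
        exact (show Nat.Coprime 5 253 by norm_num).dvd_of_dvd_mul_left this
      obtain ⟨e, rfl⟩ := h5
      refine hb ⟨dvd_mul_right 5 e, ?_⟩
      rw [hn, show 253 * (5 * e) = 11 * 5 * (23 * e) by ring,
        Nat.mul_div_cancel_left _ (by norm_num)] at hmod
      rw [Nat.mul_div_cancel_left _ (by norm_num)]
      exact hmod

/-! ### The projective group -/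

/-- Exponents in `w t^a w = t^b w t^c m^i`. -/
def bTab : List ℕ := [0, 22, 11, 15, 17, 9, 19, 13, 20, 5, 16, 2, 21, 7, 18, 3, 10, 4, 14, 6, 8, 12, 1]
def iTab : List ℕ :=
  [0, 0, 2, 5, 4, 1, 7, 8, 6, 10, 3, 9, 9, 3, 10, 6, 8, 7, 1, 4, 5, 2, 0]

theorem bruhat_identity (a : ℕ) (ha : a < 23) (h0 : a ≠ 0) :
    ∃ b < 23, ∃ k ∈ affGrp, projInv * genT ^ a * projInv = genT ^ b * projInv * k := by
  have hchk : ∀ a : Fin 23, a.val ≠ 0 → bTab.getD a.val 0 < 23 ∧
      compN (compN genSN (tPow a.val)) genSN =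
        compN (compN (tPow (bTab.getD a.val 0)) genSN)
          (compN (tPow (23 - a.val)) (mulTwoPow (iTab.getD a.val 0))) := by decide +kernel
  obtain ⟨hb, he⟩ := hchk ⟨a, ha⟩ h0
  refine ⟨_, hb, genT ^ (23 - a) * mulTwo ^ iTab.getD a 0,
    mul_mem (pow_mem genT_aff _) (pow_mem mulTwo_aff _),
    ((repr_projInv.mul (repr_tPow a)).mul repr_projInv).unique ?_⟩
  rw [he]
  exact ((repr_tPow _).mul repr_projInv).mul ((repr_tPow _).mul (repr_mulTwoPow _))

/-- The Bruhat set. -/
def InCells (g : Equiv.Perm GolayPt) : Prop :=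
  g ∈ affGrp ∨ ∃ a < 23, ∃ k ∈ affGrp, g = genT ^ a * projInv * k

theorem mulTwo_projInv : mulTwo * projInv = projInv * mulTwo ^ 10 :=
  (repr_mulTwo.mul repr_projInv).unique (by
    rw [show compN mulTwoN genSN = compN genSN (mulTwoPow 10) by decide +kernel]
    exact repr_projInv.mul (repr_mulTwoPow 10))

theorem projInv_sq : projInv * projInv = 1 :=
  (repr_projInv.mul repr_projInv).unique (by
    rw [show compN genSN genSN = idN by decide +kernel]
    exact repr_one)

theorem mulTwo_genT_pow (a : ℕ) : mulTwo * genT ^ a = genT ^ (2 * a) * mulTwo := by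
  induction a with
  | zero => simp
  | succ a ih =>
    rw [pow_succ, ← mul_assoc, ih, mul_assoc, mulTwo_genT, ← mul_assoc, ← pow_add]
    ring_nf

theorem pow_t_mod (a : ℕ) : genT ^ a = genT ^ (a % 23) := by
  conv_lhs => rw [← Nat.div_add_mod a 23, pow_add, pow_mul, genT_pow23, one_pow, one_mul]

theorem cells_step {x g : Equiv.Perm GolayPt}
    (hx : x = genT ∨ x = mulTwo ∨ x = projInv) (hg : InCells g) : InCells (x * g) := by
  rcases hg with hk | ⟨a, ha, k, hk, rfl⟩
  · rcases hx with rfl | rfl | rfl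
    · exact Or.inl (mul_mem genT_aff hk)
    · exact Or.inl (mul_mem mulTwo_aff hk)
    · exact Or.inr ⟨0, by norm_num, g, hk, by simp⟩
  · rcases hx with rfl | rfl | rfl
    · refine Or.inr ⟨(a + 1) % 23, Nat.mod_lt _ (by norm_num), k, hk, ?_⟩
      rw [← pow_t_mod, pow_succ', mul_assoc, mul_assoc, mul_assoc]
    · refine Or.inr ⟨(2 * a) % 23, Nat.mod_lt _ (by norm_num), mulTwo ^ 10 * k,
        mul_mem (pow_mem mulTwo_aff _) hk, ?_⟩
      rw [← pow_t_mod, ← mul_assoc, ← mul_assoc, mulTwo_genT_pow, mul_assoc _ mulTwo projInv,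
        mulTwo_projInv, ← mul_assoc]
      simp only [mul_assoc]
    · by_cases h0 : a = 0
      · subst h0
        refine Or.inl ?_
        rwa [pow_zero, one_mul, ← mul_assoc, projInv_sq, one_mul]
      · obtain ⟨b, hb, k', hk', e⟩ := bruhat_identity a ha h0
        refine Or.inr ⟨b, hb, k' * k, mul_mem hk' hk, ?_⟩
        rw [← mul_assoc, ← mul_assoc, e, mul_assoc]

theorem cells_all {g : Equiv.Perm GolayPt} (hg : g ∈ pslGrp) : InCells g := by
  rw [pslGrp] at hg
  induction hg using Subgroup.closure_induction_left with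
  | one => exact Or.inl (one_mem _)
  | mul_left x hx y _ hy =>
    refine cells_step ?_ hy
    simpa using hx
  | inv_mul_cancel x hx y _ hy =>
    have hpow : ∀ n : ℕ, InCells (x ^ n * y) := by
      intro n
      induction n with
      | zero => simpa using hy
      | succ n ih =>
        rw [pow_succ', mul_assoc]
        exact cells_step (by simpa using hx) ih
    obtain ⟨n, hn⟩ := mem_powers_iff_mem_zpowers.mpr
      (inv_mem (Subgroup.mem_zpowers x) : x⁻¹ ∈ Subgroup.zpowers x)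
    exact hn ▸ hpow n

theorem card_psl_le : Nat.card pslGrp ≤ 6072 := by
  have hsub : ∀ g : pslGrp, ∃ z : Option (Fin 23) × affGrp,
      (g : Equiv.Perm GolayPt) = (z.1.elim 1 fun a => genT ^ a.val * projInv) * z.2 := by
    intro g
    rcases cells_all g.2 with hk | ⟨a, ha, k, hk, e⟩
    · exact ⟨(none, ⟨_, hk⟩), by simp⟩
    · exact ⟨(some ⟨a, ha⟩, ⟨k, hk⟩), e⟩
  choose f hf using hsub
  refine le_trans (Nat.card_le_card_of_injective f fun g h e => Subtype.ext ?_) ?_
  · rw [hf g, hf h, e]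
  · rw [Nat.card_prod, card_aff, Nat.card_eq_fintype_card, Fintype.card_option, Fintype.card_fin]

theorem card_eq_stab_mul {H : Subgroup (Equiv.Perm GolayPt)} (ht : genT ∈ H) (hw : projInv ∈ H) :
    Nat.card ↥(H ⊓ MulAction.stabilizer (Equiv.Perm GolayPt) (none : GolayPt)) * 24 = Nat.card H := by
  have h := natCard_inf_stabilizer H (none : GolayPt) Set.univ fun q => by
    refine iff_of_true (Set.mem_univ q) ?_
    rcases q with _ | x
    · exact ⟨1, one_mem H, rfl⟩
    · refine ⟨genT ^ x.val * projInv, mul_mem (pow_mem ht _) hw, ?_⟩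
      show (genT ^ x.val) (projInv none) = some x
      rw [show projInv none = some 0 from rfl, genT_pow_some, zero_add, ZMod.natCast_zmod_val]
  rwa [Set.ncard_univ, Nat.card_eq_fintype_card (α := GolayPt), H90.card_golayPt] at h

theorem aff_le_inf {H : Subgroup (Equiv.Perm GolayPt)} (h : affGrp ≤ H) :
    affGrp ≤ H ⊓ MulAction.stabilizer (Equiv.Perm GolayPt) (none : GolayPt) :=
  le_inf h fun _ hg => (aff_le_fix hg).2

theorem card_psl : Nat.card pslGrp = 6072 := by
  refine le_antisymm card_psl_le ?_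
  rw [← card_eq_stab_mul genT_psl projInv_psl, show 6072 = 253 * 24 by norm_num, ← card_aff]
  exact Nat.mul_le_mul_right _ (Subgroup.card_le_of_le (aff_le_inf aff_le_psl))

/-- `PSL(2,23)` is maximal. -/
theorem psl_maximal {H : Subgroup (Equiv.Perm GolayPt)} (h1 : pslGrp ≤ H) (h2 : H ≤ M24) :
    H = pslGrp ∨ H = M24 := by
  have hc := card_eq_stab_mul (h1 genT_psl) (h1 projInv_psl)
  rcases aff_maximal (H := H ⊓ MulAction.stabilizer (Equiv.Perm GolayPt) (none : GolayPt))
    (aff_le_inf (aff_le_psl.trans h1)) (inf_le_inf_right _ h2) with e | e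
  · rw [e, card_aff] at hc
    exact Or.inl (Subgroup.eq_of_le_of_card_ge h1 (by rw [card_psl, ← hc])).symm
  · rw [e, card_fixNone] at hc
    exact Or.inr (Subgroup.eq_of_le_of_card_ge h2 (by rw [H90.natCard_M24, ← hc]))

theorem isCoatom_of_ambient {G : Type*} [Group G] [Finite G] {K A : Subgroup G} (hK : K ≤ A)
    (hne : K ≠ A) (h : ∀ H, K ≤ H → H ≤ A → H = K ∨ H = A) : IsCoatom (K.subgroupOf A) := by
  constructor
  · intro e
    exact hne (le_antisymm hK fun x hx => (show (⟨x, hx⟩ : A) ∈ K.subgroupOf A by rw [e]; trivial))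
  · intro H hH
    rcases h (H.map A.subtype) (fun x hx => ⟨⟨x, hK hx⟩, hH.le hx, rfl⟩)
      (Subgroup.map_subtype_le H) with e | e
    · exfalso
      refine hH.ne (le_antisymm hH.le fun x hx => ?_)
      show (x : G) ∈ K
      rw [← e]; exact ⟨x, hx, rfl⟩
    · refine eq_top_iff.mpr fun x _ => ?_
      obtain ⟨y, hy, hyx⟩ := (e.symm ▸ x.2 : (x : G) ∈ H.map A.subtype)
      exact (Subtype.ext hyx : y = x) ▸ hy

theorem squares_two : ∀ v : ZMod 23, v ≠ 0 → ∃ i : Fin 11, v * v = (2 : ZMod 23) ^ i.val := by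
  decide +kernel

theorem sq_perm {u : (ZMod 23)ˣ} (hu : IsSquare u) :
    ∃ i : ℕ, Equiv.optionCongr (Units.mulLeft u) = mulTwo ^ i := by
  obtain ⟨v, rfl⟩ := hu
  haveI : Fact (Nat.Prime 23) := ⟨by norm_num⟩
  obtain ⟨i, hi⟩ := squares_two v v.ne_zero
  refine ⟨i.val, Equiv.ext fun x => ?_⟩
  cases x with
  | none =>
    have : ∀ j : ℕ, (mulTwo ^ j) none = none := by
      intro j; induction j with
      | zero => rfl
      | succ j ih => rw [pow_succ', Equiv.Perm.mul_apply, ih]; rfl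
    rw [this]; rfl
  | some x =>
    rw [mulTwo_pow_apply]
    show some (((v * v : (ZMod 23)ˣ) : ZMod 23) * x) = _
    rw [Units.val_mul, hi]

theorem closure_sq (s : Set (Equiv.Perm GolayPt)) :
    Subgroup.closure (s ∪ {g : Equiv.Perm GolayPt |
      ∃ u : (ZMod 23)ˣ, IsSquare u ∧ g = Equiv.optionCongr (Units.mulLeft u)}) =
    Subgroup.closure (s ∪ {mulTwo}) := by
  refine le_antisymm ((Subgroup.closure_le _).mpr ?_) (Subgroup.closure_mono ?_)
  · rintro x (hx | ⟨u, hu, rfl⟩)
    · exact Subgroup.subset_closure (Or.inl hx)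
    · obtain ⟨i, hi⟩ := sq_perm hu
      rw [hi]
      have h2 : mulTwo ∈ Subgroup.closure (s ∪ {mulTwo}) := Subgroup.subset_closure (Or.inr rfl)
      exact pow_mem h2 i
  · rintro x (hx | rfl)
    · exact Or.inl hx
    · refine Or.inr ⟨⟨2, 12, by decide +kernel, by decide +kernel⟩, ?_, rfl⟩
      exact ⟨⟨5, 14, by decide +kernel, by decide +kernel⟩, by decide +kernel⟩

theorem final :
    (pslGrp ≤ M24 ∧ Nat.card pslGrp = 6072 ∧ IsCoatom (pslGrp.subgroupOf M24)) ∧
    (affGrp ≤ M24 ⊓ MulAction.stabilizer (Equiv.Perm GolayPt) (none : GolayPt) ∧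
      Nat.card affGrp = 253 ∧
      IsCoatom ((affGrp.subgroupOf M24).subgroupOf
        (MulAction.stabilizer M24 (none : GolayPt)))) := by
  refine ⟨⟨psl_le, card_psl, isCoatom_of_ambient psl_le (fun e => ?_) fun H => psl_maximal⟩,
    aff_le_fix, card_aff, ?_⟩
  · have := card_psl
    rw [e, H90.natCard_M24] at this
    norm_num at this
  · refine isCoatom_of_ambient (fun g hg => (aff_le_fix hg).2) (fun e => ?_) fun H h1 h2 => ?_
    · have h3 := Nat.card_congr (Subgroup.subgroupOfEquivOfLe (fun g hg => (aff_le_fix hg).1 :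
        affGrp ≤ M24)).toEquiv
      rw [e, natCard_stab_point, card_aff] at h3
      norm_num at h3
    · have hA : affGrp ≤ M24 := fun g hg => (aff_le_fix hg).1
      have hmap : (MulAction.stabilizer M24 (none : GolayPt)).map M24.subtype = fixNone := by
        ext σ
        exact ⟨fun ⟨g, hg, e⟩ => e ▸ ⟨g.2, hg⟩, fun h => ⟨⟨σ, h.1⟩, h.2, rfl⟩⟩
      rcases aff_maximal (H := H.map M24.subtype) (fun g hg => ⟨⟨g, hA hg⟩, h1 hg, rfl⟩)
          (hmap ▸ Subgroup.map_mono h2) with e | e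
      · refine Or.inl (Subgroup.map_injective M24.subtype_injective ?_)
        rw [e, Subgroup.subgroupOf_map_subtype, inf_eq_left.mpr hA]
      · exact Or.inr (Subgroup.map_injective M24.subtype_injective (e.trans hmap.symm))

end H92.L23
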