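import Mathlib

/-! Maximality of a point stabiliser from suborbit lengths. -/

set_option autoImplicit false

namespace H92

variable {G α : Type*} [Group G] [MulAction G α]

/-- If the point stabiliser is transitive on each fibre of `val` in the orbit `X`, and no sum of
fibre sizes containing the fibre of `a` properly divides the orbit length, the stabiliser is
maximal. -/
theorem isCoatom_of_suborbits [Finite G] (a : α) (X : Finset α) (hX : (X : Set α) = MulAction.orbit G a)
    (val : α → ℕ) (vals : Finset ℕ) (size : ℕ → ℕ)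
    (hvals : ∀ x ∈ X, val x ∈ vals)
    (hsize : ∀ k ∈ vals, (X.filter fun x => val x = k).card = size k)
    (htrans : ∀ x ∈ X, ∀ y ∈ X, val x = val y → ∃ g : G, g • a = a ∧ g • x = y)
    (hone : 1 < X.card)
    (hsums : ∀ S ∈ vals.powerset, val a ∈ S → (∑ k ∈ S, size k) ∣ X.card →
      (∑ k ∈ S, size k) = 1 ∨ (∑ k ∈ S, size k) = X.card) :
    IsCoatom (MulAction.stabilizer G a) := by
  classical
  have hidx : (MulAction.stabilizer G a).index = X.card := by
    rw [MulAction.index_stabilizer, ← hX, Set.ncard_coe_finset]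
  refine ⟨fun h => ?_, fun K hK => ?_⟩
  · rw [h, Subgroup.index_top] at hidx; omega
  have hTfin : (MulAction.orbit K a).Finite := Finite.finite_mulAction_orbit a
  set T := hTfin.toFinset with hT
  have hTX : T ⊆ X := by
    intro x hx
    rw [hT, Set.Finite.mem_toFinset] at hx
    obtain ⟨k, rfl⟩ := hx
    rw [← Finset.mem_coe, hX]
    exact ⟨(k : G), rfl⟩
  have hTcard : T.card = (MulAction.stabilizer G a).relIndex K := by
    have h1 : T.card = (MulAction.orbit K a).ncard := (Set.ncard_eq_toFinset_card _ hTfin).symm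
    rw [h1, ← MulAction.index_stabilizer, Subgroup.relIndex]
    congr 1
  have hrel := Subgroup.relIndex_mul_index hK.le
  have hTeq : T = X.filter fun x => val x ∈ T.image val := by
    ext x
    rw [Finset.mem_filter, Finset.mem_image]
    refine ⟨fun hx => ⟨hTX hx, x, hx, rfl⟩, ?_⟩
    rintro ⟨hxX, y, hy, hyx⟩
    obtain ⟨g, hga, hgy⟩ := htrans y (hTX hy) x hxX hyx
    rw [hT, Set.Finite.mem_toFinset] at hy ⊢
    obtain ⟨k, hk⟩ := hy
    exact ⟨(⟨g, hK.le hga⟩ : K) * k, by
      rw [← hgy, ← hk]; exact mul_smul (⟨g, hK.le hga⟩ : K) k a⟩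
  have hSsub : T.image val ⊆ vals := fun k hk => by
    obtain ⟨x, hx, rfl⟩ := Finset.mem_image.mp hk
    exact hvals x (hTX hx)
  have hsum : T.card = ∑ k ∈ T.image val, size k := by
    rw [Finset.card_eq_sum_card_image val T]
    refine Finset.sum_congr rfl fun k hk => ?_
    rw [← hsize k (hSsub hk)]
    congr 1
    ext x
    simp only [Finset.mem_filter]
    refine ⟨fun h => ⟨hTX h.1, h.2⟩, fun h => ⟨?_, h.2⟩⟩
    rw [hTeq, Finset.mem_filter]
    exact ⟨h.1, h.2 ▸ hk⟩
  have haT : val a ∈ T.image val :=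
    Finset.mem_image_of_mem val (by rw [hT, Set.Finite.mem_toFinset]; exact MulAction.mem_orbit_self a)
  rcases hsums _ (Finset.mem_powerset.mpr hSsub) haT
      (by rw [← hsum, hTcard, ← hidx, ← hrel]; exact Dvd.intro _ rfl) with h | h
  · rw [← hsum, hTcard, Subgroup.relIndex_eq_one] at h
    exact absurd h hK.not_ge
  · rw [← hsum, hTcard] at h
    rw [hidx, h] at hrel
    exact Subgroup.index_eq_one.mp ((mul_eq_left₀ (by omega)).mp hrel)

end H92
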