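import Cfsg.Agent.H94.Perm

/-! Certificate data: stabilisers of marked sets. -/

set_option autoImplicit false

namespace H92

/-- Permutations fixing the marked sets (dodTriple). -/
def dodTripleGens : List ℕ := [
    760324650742359323582828628885473312, 508244999121296822284750306877704224]

/-- Orbit certificates (dodTriple). -/
def dodTripleCls : List (ℕ × ℕ × List (ℕ × ℕ)) := [
  (0, 32, [
    (0, 0), (0, 1), (1, 0), (1, 1), (2, 0), (2, 1), (3, 0), (3, 1), (4, 1), (5, 0), (9, 1)])]

end H92
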