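import Cfsg.Agent.H92.DodOrbits
import Cfsg.Agent.H92.DodTripleData

/-!
Stabilisers of a dodecad with marked points.
-/

set_option autoImplicit false

noncomputable section

namespace H92

open Cfsg
open scoped Pointwise

/-- Membership in a stabiliser inside `M24`, on point sets. -/
theorem mem_stab_set {g : M24} {x : Finset GolayPt} :
    g ∈ MulAction.stabilizer M24 x ↔ (g : Equiv.Perm GolayPt) • x = x := Iff.rfl

/-- Membership in a stabiliser inside `M24`, on points. -/
theorem mem_stab_point {g : M24} {p : GolayPt} :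
    g ∈ MulAction.stabilizer M24 p ↔ (g : Equiv.Perm GolayPt) p = p := Iff.rfl

/-- Two elements agreeing on a dodecad and five of its points are equal. -/
theorem dod_five_ext {d : Finset GolayPt} (hd : d ∈ dodecads) {a : ℕ → GolayPt}
    (hinj : ∀ i < 5, ∀ j < 5, a i = a j → i = j) (ha : ∀ i < 5, a i ∈ d)
    {k k' : Equiv.Perm GolayPt} (hk : k ∈ M24) (hk' : k' ∈ M24) (hset : k • d = k' • d)
    (hpts : ∀ i < 5, k (a i) = k' (a i)) : k = k' := by
  obtain ⟨g, hg, hgd, hga⟩ := normal_dod hd a hinj ha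
  have key : k * g⁻¹ = k' * g⁻¹ := by
    refine dod_ext (M24.mul_mem hk (M24.inv_mem hg)) (M24.mul_mem hk' (M24.inv_mem hg)) ?_ fun i hi => ?_
    · rw [← hgd, mul_smul, mul_smul, inv_smul_smul, hset]
    · rw [← hga i hi, Equiv.Perm.mul_apply, Equiv.Perm.mul_apply, Equiv.Perm.inv_def,
        Equiv.symm_apply_apply, hpts i hi]
  exact mul_right_cancel key

/-- The stabiliser of a dodecad is five-fold transitive on it. -/
theorem dod_five_move {d : Finset GolayPt} (hd : d ∈ dodecads) {a b : ℕ → GolayPt}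
    (hai : ∀ i < 5, ∀ j < 5, a i = a j → i = j) (hbi : ∀ i < 5, ∀ j < 5, b i = b j → i = j)
    (ha : ∀ i < 5, a i ∈ d) (hb : ∀ i < 5, b i ∈ d) :
    ∃ k ∈ M24, k • d = d ∧ ∀ i < 5, k (a i) = b i := by
  obtain ⟨g, hg, hgd, hga⟩ := normal_dod hd a hai ha
  obtain ⟨h, hh, hhd, hhb⟩ := normal_dod hd b hbi hb
  refine ⟨h⁻¹ * g, M24.mul_mem (M24.inv_mem hh) hg, by rw [mul_smul, hgd, ← hhd, inv_smul_smul],
    fun i hi => ?_⟩
  rw [Equiv.Perm.mul_apply, hga i hi, Equiv.Perm.inv_def, Equiv.symm_apply_eq]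
  exact (hhb i hi).symm

theorem dodTriple_fix : fixB dodTripleGens [dod0, 1 <<< 0, 1 <<< 1, 1 <<< 2] = true := by decide +kernel

theorem dodTriple_cls : classB dodTripleGens dodTripleCls (fun _ => 0)
    (((List.range 24).filter fun i => !H94.bitB dod0 i).map (1 <<< ·)) = true := by decide +kernel

theorem dodTriple_card {d : Finset GolayPt} (hd : d ∈ dodecads) {p q r : GolayPt} (hp : p ∈ d)
    (hq : q ∈ d) (hr : r ∈ d) (hpq : p ≠ q) (hpr : p ≠ r) (hqr : q ≠ r) :
    Nat.card ↥(MulAction.stabilizer M24 d ⊓ MulAction.stabilizer M24 p ⊓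
      MulAction.stabilizer M24 q ⊓ MulAction.stabilizer M24 r) = 72 := by
  classical
  obtain ⟨a, hinj, hmem, hal⟩ := extend_five hd [p, q, r] (by simp [hpq, hpr, hqr])
    (by simp [hp, hq, hr]) (by simp)
  have a0 : a 0 = p := hal 0 (by simp)
  have a1 : a 1 = q := hal 1 (by simp)
  have a2 : a 2 = r := hal 2 (by simp)
  let S : Finset GolayPt := d \ {p, q, r}
  have hSmem : ∀ x, x ∈ S ↔ x ∈ d ∧ x ≠ p ∧ x ≠ q ∧ x ≠ r := by
    intro x; simp [S, not_or]
  set H := MulAction.stabilizer M24 d ⊓ MulAction.stabilizer M24 p ⊓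
      MulAction.stabilizer M24 q ⊓ MulAction.stabilizer M24 r with hH
  have hHmem : ∀ k : M24, k ∈ H ↔ (k : Equiv.Perm GolayPt) • d = d ∧ (k : Equiv.Perm GolayPt) p = p ∧
      (k : Equiv.Perm GolayPt) q = q ∧ (k : Equiv.Perm GolayPt) r = r := by
    intro k
    simp only [hH, Subgroup.mem_inf, and_assoc]
    exact Iff.rfl
  have himg : ∀ k : H, ∀ i < 5, ((k : M24) : Equiv.Perm GolayPt) (a i) ∈ d := by
    intro k i hi
    have h1 := ((hHmem k).mp k.2).1
    have h2 := (mem_smul_apply ((k : M24) : Equiv.Perm GolayPt) d (a i)).mpr (hmem i hi)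
    rwa [h1] at h2
  have hoff : ∀ k : H, ∀ i, 3 ≤ i → i < 5 → ((k : M24) : Equiv.Perm GolayPt) (a i) ∈ S := by
    intro k i h3 h5
    obtain ⟨-, kp, kq, kr⟩ := (hHmem k).mp k.2
    refine (hSmem _).mpr ⟨himg k i h5, ?_, ?_, ?_⟩ <;> intro h
    · rw [← kp] at h
      have := hinj i h5 0 (by norm_num) (((k : M24) : Equiv.Perm GolayPt).injective h |>.trans a0.symm)
      omega
    · rw [← kq] at h
      have := hinj i h5 1 (by norm_num) (((k : M24) : Equiv.Perm GolayPt).injective h |>.trans a1.symm)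
      omega
    · rw [← kr] at h
      have := hinj i h5 2 (by norm_num) (((k : M24) : Equiv.Perm GolayPt).injective h |>.trans a2.symm)
      omega
  let f : H → {z : GolayPt × GolayPt // z ∈ S.offDiag} := fun k =>
    ⟨(((k : M24) : Equiv.Perm GolayPt) (a 3), ((k : M24) : Equiv.Perm GolayPt) (a 4)),
      Finset.mem_offDiag.mpr ⟨hoff k 3 le_rfl (by norm_num), hoff k 4 (by norm_num) (by norm_num),
        fun h => absurd (hinj 3 (by norm_num) 4 (by norm_num)
          (((k : M24) : Equiv.Perm GolayPt).injective h)) (by norm_num)⟩⟩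
  have hf : Function.Bijective f := by
    constructor
    · intro k k' h
      have h' := congrArg Subtype.val h
      simp only [f, Prod.mk.injEq] at h'
      obtain ⟨kd, kp, kq, kr⟩ := (hHmem k).mp k.2
      obtain ⟨kd', kp', kq', kr'⟩ := (hHmem k').mp k'.2
      refine Subtype.ext (Subtype.ext (dod_five_ext hd hinj hmem (k : M24).2 (k' : M24).2
        (kd.trans kd'.symm) fun i hi => ?_))
      interval_cases i
      · rw [a0, kp, kp']
      · rw [a1, kq, kq']
      · rw [a2, kr, kr']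
      · exact h'.1
      · exact h'.2
    · rintro ⟨⟨u, v⟩, huv⟩
      obtain ⟨hu, hv, hne⟩ := Finset.mem_offDiag.mp huv
      rw [hSmem] at hu hv
      obtain ⟨k, hk, hkd, hka⟩ := dod_five_move hd hinj (b := fun i => [p, q, r, u, v].getD i p)
        (by intro i hi j hj h; interval_cases i <;> interval_cases j <;> simp at h ⊢ <;> grind)
        hmem (by intro i hi; interval_cases i <;> simp [hp, hq, hr, hu.1, hv.1])
      have k0 := hka 0 (by norm_num)
      have k1 := hka 1 (by norm_num)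
      have k2 := hka 2 (by norm_num)
      rw [a0] at k0
      rw [a1] at k1
      rw [a2] at k2
      exact ⟨⟨⟨k, hk⟩, (hHmem _).mpr ⟨hkd, k0, k1, k2⟩⟩,
        Subtype.ext (Prod.ext (hka 3 (by norm_num)) (hka 4 (by norm_num)))⟩
  rw [Nat.card_eq_of_bijective f hf, Nat.card_eq_fintype_card, Fintype.card_coe, Finset.offDiag_card]
  have h9 : S.card = 9 := by
    rw [Finset.card_sdiff_of_subset, hd.2, Finset.card_eq_three.mpr ⟨p, q, r, hpq, hpr, hqr, rfl⟩]
    simp [Finset.insert_subset_iff, hp, hq, hr]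
  rw [h9]

theorem dodTriple_trans {d : Finset GolayPt} (hd : d ∈ dodecads) {p q r : GolayPt} (hp : p ∈ d)
    (hq : q ∈ d) (hr : r ∈ d) (hpq : p ≠ q) (hpr : p ≠ r) (hqr : q ≠ r) {x y : GolayPt}
    (hx : x ∉ d) (hy : y ∉ d) :
    ∃ g ∈ M24, g • d = d ∧ g p = p ∧ g q = q ∧ g r = r ∧ g x = y := by
  obtain ⟨g, hg, hgd, hgl⟩ := normal_dod_list hd [p, q, r] (by simp [hpq, hpr, hqr])
    (by simp [hp, hq, hr]) (by simp)
  have hgp : g p = H94.ptN 0 := hgl 0 (by simp)
  have hgq : g q = H94.ptN 1 := hgl 1 (by simp)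
  have hgr : g r = H94.ptN 2 := hgl 2 (by simp)
  have hout : ∀ z ∉ d, (1 <<< H94.idxN (g z)) ∈
      (((List.range 24).filter fun i => !H94.bitB dod0 i).map (1 <<< ·)) := by
    intro z hz
    refine List.mem_map.mpr ⟨_, List.mem_filter.mpr ⟨List.mem_range.mpr (H94.idxN_lt _), ?_⟩, rfl⟩
    rw [Bool.not_eq_true', Bool.eq_false_iff]
    intro hb
    apply hz
    rw [← mem_smul_apply g d z, hgd, ← H94.ptN_idxN (g z), mem_setOf'_bitB (H94.idxN_lt _)]
    exact hb
  obtain ⟨k, hk, hkf, hks⟩ := conjugate_of_classB dodTriple_fix dodTriple_cls (hout x hx) (hout y hy) rfl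
  rw [setOf'_single (H94.idxN_lt _), setOf'_single (H94.idxN_lt _), H94.ptN_idxN, H94.ptN_idxN,
    Finset.smul_finset_singleton, Finset.singleton_inj, Equiv.Perm.smul_def] at hks
  refine ⟨g⁻¹ * k * g, pullback hg hk, pullback_set (by rw [hgd, hkf _ (by simp)]),
    pullback_point hgp (fixes_point (by norm_num) (hkf _ (by simp))),
    pullback_point hgq (fixes_point (by norm_num) (hkf _ (by simp))),
    pullback_point hgr (fixes_point (by norm_num) (hkf _ (by simp))), ?_⟩
  rw [Equiv.Perm.mul_apply, Equiv.Perm.mul_apply, hks, Equiv.Perm.inv_def, Equiv.symm_apply_apply]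

end H92

end
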