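import Mathlib
import Cfsg.Prelude.Def_SporadicCombinatorics

/-! The hexacode over any field with four elements, computed on a table model of the field. -/

set_option autoImplicit false
set_option linter.constructorNameAsVariable false

namespace H92

open Cfsg

/-- Addition table of the four-element field on `0, 1, ω, ω²`. -/
def qAdd (a b : Fin 4) : Fin 4 :=
  ![![0, 1, 2, 3], ![1, 0, 3, 2], ![2, 3, 0, 1], ![3, 2, 1, 0]] a b

/-- Multiplication table of the four-element field on `0, 1, ω, ω²`. -/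
def qMul (a b : Fin 4) : Fin 4 :=
  ![![0, 0, 0, 0], ![0, 1, 2, 3], ![0, 2, 3, 1], ![0, 3, 1, 2]] a b

/-- The generators of the hexacode in the table model. -/
def qGen : Fin 3 → Fin 6 → Fin 4 :=
  ![![2, 3, 3, 2, 3, 2], ![3, 2, 2, 3, 3, 2], ![3, 2, 3, 2, 2, 3]]

/-- Coefficient triples. -/
abbrev QTriple : Type := Fin 4 × Fin 4 × Fin 4

/-- The word with given coefficients. -/
def qWord (v : QTriple) (i : Fin 6) : Fin 4 :=
  qAdd (qAdd (qMul v.1 (qGen 0 i)) (qMul v.2.1 (qGen 1 i))) (qMul v.2.2 (qGen 2 i))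

/-- Recover coefficients from the first three entries. -/
def qCoef (w : Fin 6 → Fin 4) : QTriple :=
  (qAdd (qMul (w 0) 2) (qMul (w 1) 3),
   qAdd (qAdd (qMul (w 0) 3) (qMul (w 1) 3)) (w 2),
   qAdd (w 1) (w 2))

/-- Membership test of the table model. -/
def qMem (w : Fin 6 → Fin 4) : Prop := ∀ i, qWord (qCoef w) i = w i

instance qMemDecidable (w : Fin 6 → Fin 4) : Decidable (qMem w) :=
  inferInstanceAs (Decidable (∀ i, qWord (qCoef w) i = w i))

theorem qCoef_qWord : ∀ v : QTriple, qCoef (qWord v) = v := by decide +kernel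

theorem qWord_qCoef_qWord (v : QTriple) : qWord (qCoef (qWord v)) = qWord v := by
  rw [qCoef_qWord]

/-- Number of nonzero entries. -/
def qWeight (w : Fin 6 → Fin 4) : ℕ := (Finset.univ.filter fun i => w i ≠ 0).card

theorem qWeights : ∀ v : QTriple, v = 0 ∨ qWeight (qWord v) = 4 ∨ qWeight (qWord v) = 6 := by
  decide +kernel

section Field

variable {F : Type*} [Field F] (ω : F)

/-- The identification of the table model with the field. -/
def qPhi : Fin 4 → F := ![0, 1, ω, ω ^ 2]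

theorem four_field_two_eq_zero [Fintype F] (hF : Fintype.card F = 4) : (2 : F) = 0 := by
  have h4 : ((Fintype.card F : ℕ) : F) = 0 := Nat.cast_card_eq_zero F
  rw [hF] at h4
  have h : (2 : F) * 2 = 0 := by
    rw [show (2 : F) * 2 = ((4 : ℕ) : F) by norm_num]
    exact h4
  exact mul_self_eq_zero.mp h

variable {ω}

theorem qPhi_ring (h2 : (2 : F) = 0) (hω : ω ^ 2 + ω + 1 = 0) (a b : Fin 4) :
    qPhi ω (qAdd a b) = qPhi ω a + qPhi ω b ∧ qPhi ω (qMul a b) = qPhi ω a * qPhi ω b := by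
  have e : ω ^ 2 = ω + 1 := by linear_combination hω - (ω + 1) * h2
  fin_cases a <;> fin_cases b <;> simp [qPhi, qAdd, qMul] <;>
    (try constructor) <;> grind

theorem qPhi_bijective [Fintype F] (hF : Fintype.card F = 4) (hω : ω ^ 2 + ω + 1 = 0) :
    Function.Bijective (qPhi ω) := by
  have h2 := four_field_two_eq_zero hF
  have h0 : ω ≠ 0 := by
    rintro rfl
    simp at hω
  have h1 : ω ≠ 1 := by
    rintro rfl
    apply one_ne_zero (α := F)
    linear_combination hω - h2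
  rw [Fintype.bijective_iff_injective_and_card]
  refine ⟨fun a b hab => ?_, by simp [hF]⟩
  fin_cases a <;> fin_cases b <;> simp [qPhi] at hab ⊢ <;>
    grind

theorem qPhi_zero : qPhi ω 0 = 0 := rfl

theorem qPhi_qWord (h2 : (2 : F) = 0) (hω : ω ^ 2 + ω + 1 = 0) (v : QTriple) :
    qPhi ω ∘ qWord v =
      qPhi ω v.1 • ![ω, ω ^ 2, ω ^ 2, ω, ω ^ 2, ω] +
      qPhi ω v.2.1 • ![ω ^ 2, ω, ω, ω ^ 2, ω ^ 2, ω] +
      qPhi ω v.2.2 • ![ω ^ 2, ω, ω ^ 2, ω, ω, ω ^ 2] := by
  funext i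
  show qPhi ω (qWord v i) = _
  rw [qWord, (qPhi_ring h2 hω _ _).1, (qPhi_ring h2 hω _ _).1, (qPhi_ring h2 hω _ _).2,
    (qPhi_ring h2 hω _ _).2, (qPhi_ring h2 hω _ _).2]
  fin_cases i <;> rfl

theorem mem_hexacode_iff [Fintype F] (hF : Fintype.card F = 4) (hω : ω ^ 2 + ω + 1 = 0)
    {x : Fin 6 → F} : x ∈ hexacode F ω ↔ ∃ v, qPhi ω ∘ qWord v = x := by
  have h2 := four_field_two_eq_zero hF
  rw [hexacode, Submodule.mem_span_triple]
  constructor
  · rintro ⟨a, b, c, rfl⟩
    obtain ⟨a', rfl⟩ := (qPhi_bijective hF hω).2 a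
    obtain ⟨b', rfl⟩ := (qPhi_bijective hF hω).2 b
    obtain ⟨c', rfl⟩ := (qPhi_bijective hF hω).2 c
    exact ⟨(a', b', c'), qPhi_qWord h2 hω _⟩
  · rintro ⟨v, rfl⟩
    exact ⟨_, _, _, (qPhi_qWord h2 hω v).symm⟩

theorem qPhi_comp_mem_iff [Fintype F] (hF : Fintype.card F = 4) (hω : ω ^ 2 + ω + 1 = 0)
    {w : Fin 6 → Fin 4} : qPhi ω ∘ w ∈ hexacode F ω ↔ qMem w := by
  rw [mem_hexacode_iff hF hω]
  constructor
  · rintro ⟨v, hv⟩
    have : qWord v = w := funext fun i => (qPhi_bijective hF hω).1 (congrFun hv i)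
    subst this
    exact congrFun (qWord_qCoef_qWord v)
  · intro h
    exact ⟨qCoef w, by rw [funext h]⟩

theorem hexacode_natCard [Fintype F] (hF : Fintype.card F = 4) (hω : ω ^ 2 + ω + 1 = 0) :
    Nat.card ↥(hexacode F ω) = 64 := by
  have e : QTriple ≃ ↥(hexacode F ω) :=
    Equiv.ofBijective (fun v => ⟨qPhi ω ∘ qWord v, (mem_hexacode_iff hF hω).mpr ⟨v, rfl⟩⟩)
      ⟨fun v v' h => Function.LeftInverse.injective qCoef_qWord
        ((qPhi_bijective hF hω).1.comp_left (congrArg Subtype.val h)),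
       fun x => by
        obtain ⟨v, hv⟩ := (mem_hexacode_iff hF hω).mp x.2
        exact ⟨v, Subtype.ext hv⟩⟩
  rw [← Nat.card_congr e]
  simp [QTriple]

theorem weight_qPhi_comp [Fintype F] [DecidableEq F] (hF : Fintype.card F = 4)
    (hω : ω ^ 2 + ω + 1 = 0) (w : Fin 6 → Fin 4) :
    (Finset.univ.filter fun i => (qPhi ω ∘ w) i ≠ 0).card = qWeight w := by
  unfold qWeight
  congr 1
  refine Finset.filter_congr fun i _ => ?_
  exact not_congr ⟨fun h => (qPhi_bijective hF hω).1 (h.trans qPhi_zero.symm),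
    fun h => by simp [h, qPhi_zero]⟩

theorem hexacode_card_weight [Fintype F] [DecidableEq F] (hF : Fintype.card F = 4)
    (hω : ω ^ 2 + ω + 1 = 0) (n : ℕ) :
    {x : Fin 6 → F | x ∈ hexacode F ω ∧ (Finset.univ.filter fun i => x i ≠ 0).card = n}.ncard
      = (Finset.univ.filter fun v => qWeight (qWord v) = n).card := by
  have hinj : Function.Injective fun v => qPhi ω ∘ qWord v :=
    (qPhi_bijective hF hω).1.comp_left.comp (Function.LeftInverse.injective qCoef_qWord)
  rw [← Set.ncard_coe_finset (Finset.univ.filter fun v => qWeight (qWord v) = n),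
    ← Set.ncard_image_of_injective _ hinj]
  congr 1
  ext x
  simp only [Set.mem_image, Finset.coe_filter, Finset.mem_univ, true_and, Set.mem_ofPred_eq]
  constructor
  · rintro ⟨hx, hc⟩
    obtain ⟨v, rfl⟩ := (mem_hexacode_iff hF hω).mp hx
    exact ⟨v, (weight_qPhi_comp hF hω _).symm.trans hc, rfl⟩
  · rintro ⟨v, hc, rfl⟩
    exact ⟨(mem_hexacode_iff hF hω).mpr ⟨v, rfl⟩, (weight_qPhi_comp hF hω _).trans hc⟩

theorem hexacode_weight [Fintype F] [DecidableEq F] (hF : Fintype.card F = 4)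
    (hω : ω ^ 2 + ω + 1 = 0) {x : Fin 6 → F} (hx : x ∈ hexacode F ω) (h0 : x ≠ 0) :
    (Finset.univ.filter fun i => x i ≠ 0).card = 4 ∨
      (Finset.univ.filter fun i => x i ≠ 0).card = 6 := by
  obtain ⟨v, rfl⟩ := (mem_hexacode_iff hF hω).mp hx
  rw [weight_qPhi_comp hF hω]
  rcases qWeights v with h | h
  · subst h
    refine absurd (funext fun i => ?_) h0
    have hz : ∀ i, qWord (0 : QTriple) i = 0 := by decide +kernel
    show qPhi ω (qWord 0 i) = 0
    rw [hz, qPhi_zero]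
  · exact h

end Field

end H92
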