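import Cfsg.Agent.H92.Hexacode

/-! The monomial automorphisms of the hexacode. -/

set_option autoImplicit false
set_option linter.constructorNameAsVariable false

namespace H92

open Cfsg

/-- A monomial map in the table model, from the inverse permutation. -/
def qMono (σ : Fin 6 → Fin 6) (c : Fin 6 → Fin 4) (w : Fin 6 → Fin 4) : Fin 6 → Fin 4 :=
  fun i => qMul (c i) (w (σ i))

/-- The table-model monomial map preserves the three basis words. -/
def qPres (σ : Fin 6 → Fin 6) (c : Fin 6 → Fin 4) : Prop :=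
  qMem (qMono σ c (qWord (1, 0, 0))) ∧ qMem (qMono σ c (qWord (0, 1, 0))) ∧
    qMem (qMono σ c (qWord (0, 0, 1)))

instance qPresDecidable (σ : Fin 6 → Fin 6) (c : Fin 6 → Fin 4) : Decidable (qPres σ c) :=
  inferInstanceAs (Decidable (_ ∧ _ ∧ _))

/-- Scalars used for the lifts of the three-cycles. -/
def qLifts : List (Fin 6 → Fin 4) :=
  [![1, 2, 3, 3, 3, 3], ![1, 3, 2, 2, 2, 2], ![1, 1, 1, 1, 2, 3], ![1, 1, 1, 1, 3, 2],
   ![1, 1, 2, 3, 1, 1], ![1, 1, 3, 2, 1, 1], ![1, 3, 2, 3, 1, 2], ![1, 2, 3, 2, 3, 1],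
   ![1, 2, 2, 3, 1, 3], ![1, 3, 3, 2, 2, 1], ![1, 3, 1, 2, 2, 3], ![1, 2, 3, 1, 3, 2],
   ![1, 2, 1, 3, 2, 3], ![1, 3, 2, 1, 3, 2]]

theorem qLifts_spec : ∀ a b d : Fin 6, a ≠ b → a ≠ d → b ≠ d →
    ∃ c ∈ qLifts, qPres (⇑((Equiv.swap a b * Equiv.swap a d : Equiv.Perm (Fin 6)).symm)) c ∧
      ∀ i, c i ≠ 0 := by decide +kernel

theorem qScalar : ∀ c1 c2 c3 c4 c5 c6 : Fin 4, c1 ≠ 0 → c2 ≠ 0 → c3 ≠ 0 → c4 ≠ 0 → c5 ≠ 0 →
    c6 ≠ 0 → qPres id ![c1, c2, c3, c4, c5, c6] → c1 = c2 ∧ c2 = c3 ∧ c3 = c4 ∧ c4 = c5 ∧ c5 = c6 := by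
  decide +kernel

theorem qNoSwap : ∀ c1 c2 c3 c4 c5 c6 : Fin 4, c1 ≠ 0 → c2 ≠ 0 → c3 ≠ 0 → c4 ≠ 0 → c5 ≠ 0 →
    c6 ≠ 0 → ¬ qPres (⇑((Equiv.swap (0 : Fin 6) 1).symm)) ![c1, c2, c3, c4, c5, c6] := by
  decide +kernel

theorem monomialMap_comp {α F : Type*} [Field F] (σ τ : Equiv.Perm α) (c d : α → Fˣ) (x : α → F) :
    monomialMap σ c (monomialMap τ d x) = monomialMap (σ * τ) (fun i => c i * d (σ.symm i)) x := by
  funext i
  simp only [monomialMap, Units.val_mul, mul_assoc, Equiv.Perm.mul_def, Equiv.symm_trans_apply]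

section Field

variable {F : Type*} [Field F] [Fintype F] {ω : F}

/-- The monomial pairs preserving the hexacode. -/
def HexPres (ω : F) (σ : Equiv.Perm (Fin 6)) (c : Fin 6 → Fˣ) : Prop :=
  ∀ x ∈ hexacode F ω, monomialMap σ c x ∈ hexacode F ω

theorem hexPres_iff (hF : Fintype.card F = 4) (hω : ω ^ 2 + ω + 1 = 0) (σ : Equiv.Perm (Fin 6))
    (c : Fin 6 → Fˣ) (c' : Fin 6 → Fin 4) (hc : ∀ i, qPhi ω (c' i) = c i) :
    HexPres ω σ c ↔ qPres σ.symm c' := by
  have h2 := four_field_two_eq_zero hF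
  have hmap : ∀ w, monomialMap σ c (qPhi ω ∘ w) = qPhi ω ∘ qMono σ.symm c' w := fun w => funext fun i => by
    simp only [monomialMap, Function.comp_apply, qMono, (qPhi_ring h2 hω _ _).2, hc]
  constructor
  · intro h
    have key : ∀ v, qMem (qMono σ.symm c' (qWord v)) := fun v => by
      have := h _ ((mem_hexacode_iff hF hω).mpr ⟨v, rfl⟩)
      rwa [hmap, qPhi_comp_mem_iff hF hω] at this
    exact ⟨key _, key _, key _⟩
  · rintro ⟨hA, hB, hC⟩ x hx
    obtain ⟨v, rfl⟩ := (mem_hexacode_iff hF hω).mp hx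
    rw [qPhi_qWord h2 hω]
    have key : ∀ v, qMem (qMono σ.symm c' (qWord v)) →
        monomialMap σ c (qPhi ω ∘ qWord v) ∈ hexacode F ω := fun v hv => by
      rw [hmap]; exact (qPhi_comp_mem_iff hF hω).mpr hv
    have e1 := qPhi_qWord h2 hω (1, 0, 0)
    have e2 := qPhi_qWord h2 hω (0, 1, 0)
    have e3 := qPhi_qWord h2 hω (0, 0, 1)
    have hq : qPhi ω 1 = 1 := rfl
    simp only [hq, qPhi_zero, one_smul, zero_smul, add_zero, zero_add] at e1 e2 e3
    have m1 := key _ hA
    have m2 := key _ hB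
    have m3 := key _ hC
    rw [e1] at m1
    rw [e2] at m2
    rw [e3] at m3
    have hlin3 : ∀ (a b d : F) (y z u : Fin 6 → F), monomialMap σ c (a • y + b • z + d • u) =
        a • monomialMap σ c y + b • monomialMap σ c z + d • monomialMap σ c u :=
      fun a b d y z u => funext fun i => by
        simp only [monomialMap, Pi.add_apply, Pi.smul_apply, smul_eq_mul]; ring
    rw [hlin3]
    exact add_mem (add_mem (Submodule.smul_mem _ _ m1) (Submodule.smul_mem _ _ m2))
      (Submodule.smul_mem _ _ m3)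

theorem exists_table_scalars (hF : Fintype.card F = 4) (hω : ω ^ 2 + ω + 1 = 0)
    (c : Fin 6 → Fˣ) : ∃ c' : Fin 6 → Fin 4, (∀ i, qPhi ω (c' i) = c i) ∧ ∀ i, c' i ≠ 0 := by
  choose c' hc' using fun i => (qPhi_bijective hF hω).2 (c i : F)
  exact ⟨c', hc', fun i h => (c i).ne_zero (by rw [← hc', h, qPhi_zero])⟩

theorem hexPres_scalar (hF : Fintype.card F = 4) (hω : ω ^ 2 + ω + 1 = 0) (c : Fin 6 → Fˣ)
    (h : HexPres ω 1 c) (i j : Fin 6) : c i = c j := by
  obtain ⟨c', hc, h0⟩ := exists_table_scalars hF hω c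
  have hp := (hexPres_iff hF hω 1 c c' hc).mp h
  have e : c' = ![c' 0, c' 1, c' 2, c' 3, c' 4, c' 5] := funext fun k => by fin_cases k <;> rfl
  rw [e] at hp
  obtain ⟨e1, e2, e3, e4, e5⟩ :=
    qScalar _ _ _ _ _ _ (h0 0) (h0 1) (h0 2) (h0 3) (h0 4) (h0 5) hp
  have hall : ∀ k, c' k = c' 0 := by
    intro k; fin_cases k
    · rfl
    · exact e1.symm
    · exact (e1.trans e2).symm
    · exact (e1.trans (e2.trans e3)).symm
    · exact (e1.trans (e2.trans (e3.trans e4))).symm
    · exact (e1.trans (e2.trans (e3.trans (e4.trans e5)))).symm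
  apply Units.ext
  rw [← hc, ← hc, hall i, hall j]

/-- The permutations which lift to automorphisms of the hexacode. -/
def hexPerms (ω : F) : Subgroup (Equiv.Perm (Fin 6)) :=
  { toSubmonoid :=
      { carrier := {σ | ∃ c : Fin 6 → Fˣ, HexPres ω σ c}
        one_mem' := ⟨fun _ => 1, fun x hx => by
          have : monomialMap (1 : Equiv.Perm (Fin 6)) (fun _ => (1 : Fˣ)) x = x :=
            funext fun i => by
              simp [monomialMap]; rfl
          rwa [this]⟩
        mul_mem' := by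
          rintro σ τ ⟨c, hc⟩ ⟨d, hd⟩
          exact ⟨_, fun x hx => monomialMap_comp σ τ c d x ▸ hc _ (hd x hx)⟩ }
    inv_mem' := by
      rintro σ ⟨c, hc⟩
      refine ⟨fun i => (c (σ i))⁻¹, fun x hx => ?_⟩
      have hinj : Function.Injective (monomialMap σ c) := by
        intro y z hyz
        funext i
        have h := congrFun hyz (σ i)
        simpa [monomialMap] using h
      have hmaps : Set.MapsTo (monomialMap σ c) ↑(hexacode F ω) ↑(hexacode F ω) := hc
      have himg : monomialMap σ c '' ↑(hexacode F ω) = ↑(hexacode F ω) :=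
        Set.eq_of_subset_of_ncard_le hmaps.image_subset
          (by rw [Set.ncard_image_of_injective _ hinj]) (Set.toFinite _)
      rw [← SetLike.mem_coe, ← himg] at hx
      obtain ⟨y, hy, rfl⟩ := hx
      have : monomialMap σ⁻¹ (fun i => (c (σ i))⁻¹) (monomialMap σ c y) = y := funext fun i => by
        have e1 : (σ⁻¹).symm i = σ i := rfl
        simp only [monomialMap, e1, ← mul_assoc, Units.val_inv_eq_inv_val, ne_eq, Units.ne_zero,
          not_false_eq_true, inv_mul_cancel₀, one_mul, Equiv.symm_apply_apply]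
      rwa [this] }

theorem hexPerms_eq (hF : Fintype.card F = 4) (hω : ω ^ 2 + ω + 1 = 0) :
    hexPerms ω = alternatingGroup (Fin 6) := by
  have hA : alternatingGroup (Fin 6) ≤ hexPerms ω := by
    rw [← Equiv.Perm.closure_three_cycles_eq_alternating, Subgroup.closure_le]
    intro σ hσ
    obtain ⟨a, ha⟩ : ∃ a, σ a ≠ a := by
      by_contra hn
      simp only [not_exists, not_not] at hn
      have : σ = 1 := Equiv.ext hn
      subst this
      exact absurd hσ (by simp [Equiv.Perm.IsThreeCycle])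
    have hform : ∀ σ : Equiv.Perm (Fin 6), σ.IsThreeCycle → ∀ a, σ a ≠ a →
        σ = Equiv.swap a (σ (σ a)) * Equiv.swap a (σ a) ∨
        σ = Equiv.swap a (σ a) * Equiv.swap a (σ (σ a)) := by
      intro σ hσ a ha
      have hsup : σ.support.card = 3 := hσ.card_support
      have h3 : orderOf σ = 3 := hσ.orderOf
      have hp : σ (σ (σ a)) = a := by
        have h := pow_orderOf_eq_one σ
        rw [h3] at h
        exact Equiv.ext_iff.mp h a
      have hne : σ (σ a) ≠ a := fun hh => ha (by rw [hh] at hp; exact hp)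
      have hsub : ({a, σ a, σ (σ a)} : Finset (Fin 6)) ⊆ σ.support := by
        intro x hx
        simp only [Finset.mem_insert, Finset.mem_singleton] at hx
        rcases hx with rfl | rfl | rfl <;> simp [ha]
      have hc : ({a, σ a, σ (σ a)} : Finset (Fin 6)).card = 3 :=
        Finset.card_eq_three.mpr ⟨a, σ a, σ (σ a), Ne.symm ha, Ne.symm hne,
          fun h => ha (σ.injective h.symm), rfl⟩
      have heq := Finset.eq_of_subset_of_card_le hsub (hsup.le.trans hc.ge)
      left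
      apply Equiv.ext
      intro x
      by_cases hx : x ∈ σ.support
      · rw [← heq] at hx
        simp only [Finset.mem_insert, Finset.mem_singleton] at hx
        have n1 : σ (σ a) ≠ σ a := fun h => ha (σ.injective h)
        rcases hx with rfl | rfl | rfl
        · simp [Equiv.swap_apply_of_ne_of_ne ha n1.symm]
        · simp
        · rw [hp]; simp [Equiv.swap_apply_of_ne_of_ne hne n1]
      · have hx' : σ x = x := Equiv.Perm.notMem_support.mp hx
        rw [← heq] at hx
        simp only [Finset.mem_insert, Finset.mem_singleton, not_or] at hx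
        rw [hx', Equiv.Perm.mul_apply, Equiv.swap_apply_of_ne_of_ne hx.1 hx.2.1,
          Equiv.swap_apply_of_ne_of_ne hx.1 hx.2.2]
    have h3 : orderOf σ = 3 := Equiv.Perm.IsThreeCycle.orderOf hσ
    have hp : σ (σ (σ a)) = a := by
      have h := pow_orderOf_eq_one σ
      rw [h3] at h
      exact Equiv.ext_iff.mp h a
    have hne : σ (σ a) ≠ a := fun hh => ha (by rw [hh] at hp; exact hp)
    have hlift : ∀ b d : Fin 6, a ≠ b → a ≠ d → b ≠ d →
        (Equiv.swap a b * Equiv.swap a d) ∈ hexPerms ω := by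
      intro b d h1 h2 h3
      obtain ⟨c', -, hp, h0⟩ := qLifts_spec a b d h1 h2 h3
      have hu : ∀ i, qPhi ω (c' i) ≠ 0 := fun i h => h0 i ((qPhi_bijective hF hω).1 (h.trans qPhi_zero.symm))
      exact ⟨fun i => Units.mk0 _ (hu i), (hexPres_iff hF hω _ _ c' fun i => rfl).mpr hp⟩
    rcases hform σ hσ a ha with h | h
    · rw [h]; exact hlift _ _ (Ne.symm hne) (Ne.symm ha) (fun h => ha (σ.injective h))
    · rw [h]; exact hlift _ _ (Ne.symm ha) (Ne.symm hne) (fun h => ha (σ.injective h.symm))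
  refine le_antisymm (fun σ hσ => ?_) hA
  rw [Equiv.Perm.mem_alternatingGroup]
  by_contra hs
  have hodd : Equiv.Perm.sign σ = -1 := (Int.units_eq_one_or _).resolve_left hs
  have hm : σ⁻¹ * Equiv.swap (0 : Fin 6) 1 ∈ hexPerms ω := hA (by
    rw [Equiv.Perm.mem_alternatingGroup, map_mul, map_inv, hodd, Equiv.Perm.sign_swap (by decide)]
    rfl)
  have := mul_mem hσ hm
  rw [mul_inv_cancel_left] at this
  obtain ⟨c, hc⟩ := this
  obtain ⟨c', hc', h0⟩ := exists_table_scalars hF hω c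
  have hp := (hexPres_iff hF hω _ c c' hc').mp hc
  have e : c' = ![c' 0, c' 1, c' 2, c' 3, c' 4, c' 5] := funext fun k => by fin_cases k <;> rfl
  rw [e] at hp
  exact qNoSwap _ _ _ _ _ _ (h0 0) (h0 1) (h0 2) (h0 3) (h0 4) (h0 5) hp

theorem hexPres_card (hF : Fintype.card F = 4) (hω : ω ^ 2 + ω + 1 = 0) :
    Nat.card {f : Equiv.Perm (Fin 6) × (Fin 6 → Fˣ) // HexPres ω f.1 f.2} = 1080 := by
  classical
  have hs : ∀ σ : ↥(hexPerms ω), ∃ c, HexPres ω σ.1 c := fun σ => σ.2
  choose s hs using hs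
  have hmul : ∀ (σ : Equiv.Perm (Fin 6)) (c : Fin 6 → Fˣ) (t : Fˣ), HexPres ω σ c →
      HexPres ω σ (fun i => t * c i) := by
    intro σ c t h x hx
    have : monomialMap σ (fun i => t * c i) x = (t : F) • monomialMap σ c x := funext fun i => by
      simp [monomialMap, mul_assoc]
    rw [this]; exact Submodule.smul_mem _ _ (h x hx)
  let g : ↥(hexPerms ω) × Fˣ → {f : Equiv.Perm (Fin 6) × (Fin 6 → Fˣ) // HexPres ω f.1 f.2} :=
    fun p => ⟨(p.1.1, fun i => p.2 * s p.1 i), hmul _ _ _ (hs p.1)⟩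
  have hg : Function.Bijective g := by
    constructor
    · rintro ⟨σ, t⟩ ⟨σ', t'⟩ h
      have h' := congrArg Subtype.val h
      simp only [g, Prod.mk.injEq] at h'
      have : σ = σ' := Subtype.ext h'.1
      subst this
      have := congrFun h'.2 0
      rw [mul_right_cancel this]
    · rintro ⟨⟨σ, c⟩, hc⟩
      have hmem : σ ∈ hexPerms ω := ⟨c, hc⟩
      obtain ⟨d, hd⟩ := inv_mem hmem
      have h1 : HexPres ω 1 (fun i => c i * d (σ.symm i)) := fun x hx => by
        have := hc _ (hd x hx)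
        rwa [monomialMap_comp, mul_inv_cancel] at this
      have h2 : HexPres ω 1 (fun i => s ⟨σ, hmem⟩ i * d (σ.symm i)) := fun x hx => by
        have := hs ⟨σ, hmem⟩ _ (hd x hx)
        rwa [monomialMap_comp, mul_inv_cancel] at this
      refine ⟨(⟨σ, hmem⟩, c 0 * (s ⟨σ, hmem⟩ 0)⁻¹), ?_⟩
      apply Subtype.ext
      refine Prod.ext rfl (funext fun i => ?_)
      have a1 := hexPres_scalar hF hω _ h1 i 0
      have a2 := hexPres_scalar hF hω _ h2 i 0
      show c 0 * (s ⟨σ, hmem⟩ 0)⁻¹ * s ⟨σ, hmem⟩ i = c i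
      rw [eq_mul_inv_of_mul_eq a1, eq_mul_inv_of_mul_eq a2]
      simp [mul_assoc, mul_left_comm]
  rw [← Nat.card_congr (Equiv.ofBijective g hg), Nat.card_prod, hexPerms_eq hF hω,
    Nat.card_units, Nat.card_eq_fintype_card (α := F), hF]
  rw [Nat.card_eq_fintype_card (α := ↥(alternatingGroup (Fin 6))),
    card_alternatingGroup (α := Fin 6), Fintype.card_fin]
  rfl

end Field

end H92
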