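import Mathlib

/-! Classes modulo 2 of short vectors of an even positive form with no vectors of norm 2. -/

set_option autoImplicit false

namespace H92

open Matrix

variable {n : ℕ} {B : Matrix (Fin n) (Fin n) ℤ}

/-- The value of the form. -/
def bq (B : Matrix (Fin n) (Fin n) ℤ) (x y : Fin n → ℤ) : ℤ := x ⬝ᵥ (B *ᵥ y)

theorem bq_comm (hs : B.IsSymm) (x y : Fin n → ℤ) : bq B x y = bq B y x := by
  unfold bq
  rw [dotProduct_mulVec, dotProduct_comm, ← mulVec_transpose, hs.eq]

theorem bq_add_left (x y z : Fin n → ℤ) : bq B (x + y) z = bq B x z + bq B y z := add_dotProduct _ _ _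

theorem bq_smul_left (a : ℤ) (x z : Fin n → ℤ) : bq B (a • x) z = a * bq B x z := by
  show (a • x) ⬝ᵥ _ = _
  rw [smul_dotProduct, smul_eq_mul]
  rfl

theorem bq_expand (hs : B.IsSymm) (x z : Fin n → ℤ) (a : ℤ) :
    bq B (x + a • z) (x + a • z) = bq B x x + 2 * a * bq B x z + a ^ 2 * bq B z z := by
  have hr : ∀ u v w : Fin n → ℤ, bq B u (v + w) = bq B u v + bq B u w := fun u v w => by
    rw [bq_comm hs, bq_add_left, bq_comm hs v, bq_comm hs w]
  have hsr : ∀ u v : Fin n → ℤ, bq B u (a • v) = a * bq B u v := fun u v => by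
    rw [bq_comm hs, bq_smul_left, bq_comm hs v]
  rw [bq_add_left, hr, hr, hsr, hsr, bq_smul_left, bq_smul_left, bq_comm hs z x]
  ring

/-- The hypotheses on the form. -/
structure EvenRootless (B : Matrix (Fin n) (Fin n) ℤ) : Prop where
  symm : B.IsSymm
  pos : ∀ x : Fin n → ℤ, x ≠ 0 → 0 < x ⬝ᵥ (B *ᵥ x)
  even : ∀ x : Fin n → ℤ, (2 : ℤ) ∣ x ⬝ᵥ (B *ᵥ x)
  noTwo : ∀ x : Fin n → ℤ, x ⬝ᵥ (B *ᵥ x) ≠ 2

variable (hB : EvenRootless B)

include hB

theorem bq_small {x : Fin n → ℤ} (h : bq B x x < 4) : x = 0 := by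
  by_contra h0
  have h1 : 0 < bq B x x := hB.pos x h0
  obtain ⟨k, hk⟩ := hB.even x
  have h3 : bq B x x ≠ 2 := hB.noTwo x
  change bq B x x = _ at hk
  omega

theorem bq_class_pair {x y : Fin n → ℤ} (hc : ∀ i, (2 : ℤ) ∣ (x - y) i) :
    y = x ∨ y = -x ∨ (16 ≤ bq B x x + bq B y y ∧
      (bq B x x + bq B y y = 16 → bq B x y = 0)) := by
  choose z hz using hc
  have hy : y = x + (-2 : ℤ) • z := funext fun i => by
    have := hz i
    simp only [Pi.sub_apply, Pi.add_apply, Pi.smul_apply, smul_eq_mul] at this ⊢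
    omega
  by_cases hz0 : z = 0
  · left; rw [hy, hz0]; simp
  by_cases hw0 : x - z = 0
  · right; left
    rw [sub_eq_zero] at hw0
    rw [hy, ← hw0]
    funext i; simp; ring
  right; right
  have hzz : 4 ≤ bq B z z := by
    by_contra h; exact hz0 (bq_small hB (by omega))
  have hww : 4 ≤ bq B (x - z) (x - z) := by
    by_contra h; exact hw0 (bq_small hB (by omega))
  have e1 := bq_expand hB.symm x z (-1)
  rw [show x + (-1 : ℤ) • z = x - z by rw [neg_one_zsmul, sub_eq_add_neg]] at e1
  have e2 := bq_expand hB.symm x z (-2)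
  rw [← hy] at e2
  refine ⟨by linarith, fun h16 => ?_⟩
  have hxy : bq B x y = bq B x x - 2 * bq B x z := by
    rw [bq_comm hB.symm x y, hy, bq_add_left, bq_smul_left, bq_comm hB.symm z x]; ring
  linarith

omit hB in
/-- Reduction modulo 2. -/
def redTwo (x : Fin n → ℤ) : Fin n → ZMod 2 := fun i => (x i : ZMod 2)

omit hB in
theorem redTwo_eq_iff {x y : Fin n → ℤ} : redTwo x = redTwo y ↔ ∀ i, (2 : ℤ) ∣ (x - y) i := by
  simp only [funext_iff, redTwo, Pi.sub_apply]
  refine forall_congr' fun i => ?_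
  rw [eq_comm, ZMod.intCast_eq_intCast_iff_dvd_sub]
  rfl

omit hB in
theorem redTwo_neg (x : Fin n → ℤ) : redTwo (-x) = redTwo x := by
  rw [redTwo_eq_iff]; intro i; exact ⟨-x i, by simp; ring⟩

theorem card_fiber_le {S : Finset (Fin n → ℤ)} (hS : ∀ y ∈ S, bq B y y = 8)
    (hcl : ∀ y ∈ S, ∀ y' ∈ S, redTwo y = redTwo y') : S.card ≤ 2 * n := by
  classical
  let key : (Fin n → ℤ) → Finset (Fin n → ℤ) := fun y => {y, -y}
  have h1 : S.card ≤ 2 * (S.image key).card := by
    apply Finset.card_le_mul_card_image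
    intro k hk
    obtain ⟨y, hy, rfl⟩ := Finset.mem_image.mp hk
    refine (Finset.card_le_card (t := key y) ?_).trans (Finset.card_le_two)
    intro z hz
    rw [← (Finset.mem_filter.mp hz).2]
    exact Finset.mem_insert_self _ _
  have hrep : ∀ k : ↥(S.image key), ∃ y ∈ S, key y = k := fun k => Finset.mem_image.mp k.2
  choose g hg hgk using hrep
  have horth : ∀ k l, k ≠ l → bq B (g k) (g l) = 0 := by
    intro k l hkl
    rcases bq_class_pair hB (redTwo_eq_iff.mp (hcl _ (hg k) _ (hg l))) with h | h | h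
    · exact absurd (Subtype.ext (by rw [← hgk k, ← hgk l, h])) hkl
    · refine absurd (Subtype.ext ?_) hkl
      rw [← hgk k, ← hgk l]
      show ({g k, -g k} : Finset (Fin n → ℤ)) = {g l, -g l}
      rw [h, neg_neg, Finset.pair_comm]
    · exact h.2 (by rw [hS _ (hg k), hS _ (hg l)]; norm_num)
  have hli : LinearIndependent ℤ g := by
    rw [Fintype.linearIndependent_iff]
    intro a ha k
    have h := congrArg (fun v => bq B v (g k)) ha
    have hsum : ∀ s : Finset ↥(S.image key),
        bq B (∑ i ∈ s, a i • g i) (g k) = ∑ i ∈ s, a i * bq B (g i) (g k) := by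
      intro s
      induction s using Finset.induction with
      | empty => simp [bq]
      | insert i s his ih => rw [Finset.sum_insert his, Finset.sum_insert his, bq_add_left,
          bq_smul_left, ih]
    simp only [hsum] at h
    rw [Finset.sum_eq_single k (fun i _ hik => by rw [horth i k hik, mul_zero])
      (fun hk => absurd (Finset.mem_univ k) hk), hS _ (hg k)] at h
    have : bq B (0 : Fin n → ℤ) (g k) = 0 := by simp [bq]
    rw [this] at h
    omega
  have h2 := hli.fintype_card_le_finrank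
  rw [Fintype.card_coe, Module.finrank_pi, Fintype.card_fin] at h2
  omega

end H92
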