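import Mathlib

/-!
A group acting faithfully modulo an elementary abelian normal subgroup of order nine.
-/

set_option autoImplicit false

namespace H92

/-- The homomorphism on the plane over the field of three elements given by two commuting
elements of exponent three. -/
def planeHom {G : Type*} [Group G] (a b : G) (hc : Commute a b) (ha : a ^ 3 = 1) (hb : b ^ 3 = 1) :
    Multiplicative (Fin 2 → ZMod 3) →* G :=
  MonoidHom.mk' (fun x => a ^ (Multiplicative.toAdd x 0).val * b ^ (Multiplicative.toAdd x 1).val) (by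
    intro x y
    simp only [toAdd_mul, Pi.add_apply, ZMod.val_add]
    rw [← pow_eq_pow_mod _ ha, ← pow_eq_pow_mod _ hb, pow_add, pow_add,
      (hc.pow_pow _ _).mul_mul_mul_comm])

theorem planeHom_apply {G : Type*} [Group G] (a b : G) (hc : Commute a b) (ha : a ^ 3 = 1)
    (hb : b ^ 3 = 1) (x : Multiplicative (Fin 2 → ZMod 3)) :
    planeHom a b hc ha hb x = a ^ (Multiplicative.toAdd x 0).val * b ^ (Multiplicative.toAdd x 1).val :=
  rfl

/-- Automorphisms of the plane as invertible matrices. -/
noncomputable def autPlane :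
    MulAut (Multiplicative (Fin 2 → ZMod 3)) ≃* GL (Fin 2) (ZMod 3) := by
  exact
    (({ toFun := fun f =>
          { ((AddEquiv.toMultiplicative.symm f).toAddMonoidHom.toZModLinearMap 3) with
            invFun := (AddEquiv.toMultiplicative.symm f).symm
            left_inv := (AddEquiv.toMultiplicative.symm f).left_inv
            right_inv := (AddEquiv.toMultiplicative.symm f).right_inv }
        invFun := fun f => AddEquiv.toMultiplicative f.toAddEquiv
        left_inv := fun f => rfl
        right_inv := fun f => rfl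
        map_mul' := fun f g => rfl } :
        MulAut (Multiplicative (Fin 2 → ZMod 3)) ≃*
          ((Fin 2 → ZMod 3) ≃ₗ[ZMod 3] (Fin 2 → ZMod 3))).trans
      (LinearMap.GeneralLinearGroup.generalLinearEquiv (ZMod 3) (Fin 2 → ZMod 3)).symm).trans
      Matrix.GeneralLinearGroup.toLin.symm

theorem card_GL23 : Nat.card (GL (Fin 2) (ZMod 3)) = 48 := by
  haveI : Fact (Nat.Prime 3) := ⟨by norm_num⟩
  rw [Matrix.card_GL_field]
  simp [Fin.prod_univ_two]

/-- Order 432 with a self-centralising normal plane: the quotient is `GL(2,3)`. -/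
theorem quot_GL23 {G : Type*} [Group G] [Finite G] (hG : Nat.card G = 432) (a b : G)
    (hc : Commute a b) (ha : a ^ 3 = 1) (hb : b ^ 3 = 1)
    (hinj : Function.Injective (planeHom a b hc ha hb))
    (hna : ∀ g : G, g * a * g⁻¹ ∈ (planeHom a b hc ha hb).range)
    (hnb : ∀ g : G, g * b * g⁻¹ ∈ (planeHom a b hc ha hb).range)
    (hcent : ∀ g : G, Commute g a → Commute g b → g ∈ (planeHom a b hc ha hb).range) :
    ∃ (N : Subgroup G) (_ : N.Normal), Nat.card N = 9 ∧ Nonempty (G ⧸ N ≃* GL (Fin 2) (ZMod 3)) := by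
  obtain ⟨v, hv⟩ : ∃ v, v = planeHom a b hc ha hb := ⟨_, rfl⟩
  rw [← hv] at hinj hna hnb hcent
  have hval : ∀ x, v x = a ^ (Multiplicative.toAdd x 0).val * b ^ (Multiplicative.toAdd x 1).val :=
    fun x => by rw [hv]; rfl
  have hN : v.range.Normal := ⟨by
    rintro _ ⟨x, rfl⟩ g
    rw [hval, ← conj_mul, ← conj_pow, ← conj_pow]
    exact v.range.mul_mem (v.range.pow_mem (hna g) _) (v.range.pow_mem (hnb g) _)⟩
  have hA : a ∈ v.range := ⟨Multiplicative.ofAdd ![1, 0], by rw [hval]; simp [ZMod.val_one]⟩
  have hB : b ∈ v.range := ⟨Multiplicative.ofAdd ![0, 1], by rw [hval]; simp [ZMod.val_one]⟩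
  have h9 : Nat.card v.range = 9 := by
    rw [← Nat.card_congr (MonoidHom.ofInjective hinj).toEquiv]
    simp
  refine ⟨v.range, hN, h9, ?_⟩
  let φ : G →* MulAut v.range := MulAut.conjNormal
  have hker : φ.ker = v.range := by
    ext g
    rw [MonoidHom.mem_ker]
    constructor
    · intro h
      have h' : ∀ n : v.range, g * n * g⁻¹ = n := fun n => by
        rw [← MulAut.conjNormal_apply g n]
        exact congrArg Subtype.val (DFunLike.congr_fun h n)
      exact hcent g (mul_inv_eq_iff_eq_mul.mp (h' ⟨a, hA⟩)) (mul_inv_eq_iff_eq_mul.mp (h' ⟨b, hB⟩))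
    · rintro ⟨x, rfl⟩
      ext ⟨n, y, rfl⟩
      simp only [MulAut.one_apply]
      show ((φ (v x)) ⟨v y, _⟩ : G) = v y
      rw [MulAut.conjNormal_apply, ← map_inv, ← map_mul, ← map_mul, mul_inv_cancel_comm]
  let e : MulAut v.range ≃* GL (Fin 2) (ZMod 3) :=
    ((MulAut.congr (MonoidHom.ofInjective hinj)).symm).trans autPlane
  have hq : Nat.card (G ⧸ φ.ker) = 48 := by
    have := Subgroup.card_eq_card_quotient_mul_card_subgroup φ.ker
    rw [hker, h9, hG] at this
    rw [hker]
    omega
  have hM : Nat.card (MulAut v.range) = 48 := by rw [Nat.card_congr e.toEquiv, card_GL23]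
  haveI : Finite (MulAut v.range) := Nat.finite_of_card_ne_zero (by rw [hM]; norm_num)
  have hbij : Function.Bijective (QuotientGroup.kerLift φ) :=
    (QuotientGroup.kerLift_injective φ).bijective_of_nat_card_le (by rw [hq, hM])
  exact ⟨(QuotientGroup.quotientMulEquivOfEq hker.symm).trans
    ((MulEquiv.ofBijective _ hbij).trans e)⟩

end H92
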