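import Cfsg.Agent.H92.Quartets
import Cfsg.Agent.H92.QuotGL

/-!
The stabiliser of a quartet inside the stabiliser of its dodecad.
-/

set_option autoImplicit false

noncomputable section

namespace H92

open Cfsg
open scoped Pointwise

/-- The stabiliser of a dodecad and a quartet. -/
abbrev qGrp (d : Finset GolayPt) (Q : Finset (Finset GolayPt)) : Subgroup M24 :=
  MulAction.stabilizer M24 d ⊓ MulAction.stabilizer M24 Q

/-- The base group. -/
abbrev qGrp0 : Subgroup M24 := qGrp (H90.setOf' dod0) (qSet q0)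

theorem mem_qGrp {d : Finset GolayPt} {Q : Finset (Finset GolayPt)} {g : M24} :
    g ∈ qGrp d Q ↔ (g : Equiv.Perm GolayPt) • d = d ∧ (g : Equiv.Perm GolayPt) • Q = Q := Iff.rfl

/-- Transport of the stabiliser. -/
def qGrpEquiv {d d' : Finset GolayPt} {Q Q' : Finset (Finset GolayPt)} {g : Equiv.Perm GolayPt}
    (hg : g ∈ M24) (hd : g • d = d') (hQ : g • Q = Q') : qGrp d Q ≃* qGrp d' Q' where
  toFun k := ⟨⟨g, hg⟩ * k * ⟨g, hg⟩⁻¹, by
    obtain ⟨h1, h2⟩ := mem_qGrp.mp k.2
    refine mem_qGrp.mpr ⟨?_, ?_⟩ <;>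
      simp [mul_smul, ← hd, ← hQ, h1, h2]⟩
  invFun k := ⟨⟨g, hg⟩⁻¹ * k * ⟨g, hg⟩, by
    obtain ⟨h1, h2⟩ := mem_qGrp.mp k.2
    refine mem_qGrp.mpr ⟨?_, ?_⟩ <;>
      simp [mul_smul, hd, hQ, h1, h2, inv_smul_eq_iff]⟩
  left_inv k := by apply Subtype.ext; simp [mul_assoc]
  right_inv k := by apply Subtype.ext; simp [mul_assoc]
  map_mul' k l := by apply Subtype.ext; simp [mul_assoc]

/-- Five images packed. -/
def code5 (P : ℕ) : ℕ :=
  H94.pap P 0 + 32 * (H94.pap P 1 + 32 * (H94.pap P 2 + 32 * (H94.pap P 3 + 32 * H94.pap P 4)))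

/-- Strictly increasing. -/
def incB : List ℕ → Bool
  | [] => true
  | [_] => true
  | a :: b :: r => Nat.blt a b && incB (b :: r)

theorem incB_pairwise : ∀ L : List ℕ, incB L = true → L.Pairwise (· < ·)
  | [], _ => List.Pairwise.nil
  | [_], _ => List.pairwise_singleton _ _
  | a :: b :: r, h => by
    rw [incB, Bool.and_eq_true] at h
    have ih := incB_pairwise (b :: r) h.2
    have hab : a < b := Nat.le_of_ble_eq_true h.1
    refine List.pairwise_cons.mpr ⟨fun x hx => ?_, ih⟩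
    rcases List.mem_cons.mp hx with rfl | hx
    · exact hab
    · exact hab.trans ((List.pairwise_cons.mp ih).1 x hx)

theorem qStab_ok : qStab.all (fun l => H94.memB l && Nat.beq (H94.pmask l dod0) dod0 &&
    q0.all fun t => q0.elem (H94.pmask l t)) = true := by decide +kernel

theorem qStab_inc : incB (qStab.map code5) = true := by decide +kernel

theorem qStab_exists (l : ℕ) (hl : l ∈ qStab) :
    ∃ g : qGrp0, H94.Reps l ((g : M24) : Equiv.Perm GolayPt) := by
  have h := List.all_eq_true.mp qStab_ok l hl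
  simp only [Bool.and_eq_true] at h
  obtain ⟨g, hg, hR⟩ := H94.exists_perm_of_memB h.1.1
  refine ⟨⟨⟨g, hg⟩, mem_qGrp.mpr ⟨?_, ?_⟩⟩, hR⟩
  · show g • H90.setOf' dod0 = H90.setOf' dod0
    rw [← hR.setOf', Nat.eq_of_beq_eq_true h.1.2]
  · show g • qSet q0 = qSet q0
    refine Finset.eq_of_subset_of_card_le (fun x hx => ?_) (by rw [Finset.card_smul_finset])
    obtain ⟨y, hy, rfl⟩ := Finset.mem_smul_finset.mp hx
    obtain ⟨t, ht, rfl⟩ := mem_qSet.mp hy
    rw [← hR.setOf']
    exact mem_qSet.mpr ⟨_, by simpa using List.all_eq_true.mp h.2 t ht, rfl⟩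

/-- The element given by a listed permutation. -/
def qElt (i : Fin qStab.length) : qGrp0 :=
  (qStab_exists _ (List.getElem_mem i.2)).choose

theorem qElt_spec (i : Fin qStab.length) :
    H94.Reps qStab[i.1] ((qElt i : M24) : Equiv.Perm GolayPt) :=
  (qStab_exists _ (List.getElem_mem i.2)).choose_spec

theorem qElt_injective : Function.Injective qElt := by
  intro i j h
  have h1 := qElt_spec i
  have h2 := qElt_spec j
  rw [h] at h1
  have hn : (qStab.map code5).Nodup := (incB_pairwise _ qStab_inc).imp fun h => h.ne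
  have hc : (qStab.map code5)[i.1]'(by simp) = (qStab.map code5)[j.1]'(by simp) := by
    simp only [List.getElem_map, code5]
    rw [h1 0 (by norm_num), h1 1 (by norm_num), h1 2 (by norm_num), h1 3 (by norm_num),
      h1 4 (by norm_num), h2 0 (by norm_num), h2 1 (by norm_num), h2 2 (by norm_num),
      h2 3 (by norm_num), h2 4 (by norm_num)]
  exact Fin.ext (hn.getElem_inj_iff.mp hc)

theorem qStab_cover : dodPos.all (fun i => dodPos.all fun j => dodPos.all fun k =>
    Nat.beq i j || Nat.beq i k || Nat.beq j k ||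
    !q0.elem (1 <<< i ||| 1 <<< j ||| 1 <<< k) ||
    q0.all fun u => Nat.beq u (1 <<< i ||| 1 <<< j ||| 1 <<< k) ||
      dodPos.all fun a => !H94.bitB u a || dodPos.all fun b => !H94.bitB u b || Nat.beq a b ||
        qStab.any fun l => Nat.beq (H94.pap l 0) i && Nat.beq (H94.pap l 1) j &&
          Nat.beq (H94.pap l 2) k && Nat.beq (H94.pap l 3) a && Nat.beq (H94.pap l 4) b) = true := by
  decide +kernel

theorem seven_pts : H90.setOf' 7 = {H94.ptN 0, H94.ptN 1, H94.ptN 2} ∧
    H90.setOf' 4120 = {H94.ptN 3, H94.ptN 4, H94.ptN 12} ∧ H90.setOf' 7 ≠ H90.setOf' 4120 := by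
  decide +kernel

theorem qStab_complete (g : qGrp0) :
    ∃ i, qElt i = g := by
  obtain ⟨hd, hQ⟩ := mem_qGrp.mp g.2
  obtain ⟨e7, e8, hne78⟩ := seven_pts
  obtain ⟨σ, hσdef⟩ : ∃ σ, σ = ((g : M24) : Equiv.Perm GolayPt) := ⟨_, rfl⟩
  rw [← hσdef] at hd hQ
  have hσ : σ ∈ M24 := hσdef ▸ (g : M24).2
  have hin : ∀ i < 5, H94.idxN (σ (H94.ptN i)) ∈ dodPos := fun i hi =>
    mem_dodPos (by rw [← hd, mem_smul_apply]; exact base_mem_dod0 hi)
  have hne : ∀ {i j : ℕ}, i < 5 → j < 5 → i ≠ j →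
      Nat.beq (H94.idxN (σ (H94.ptN i))) (H94.idxN (σ (H94.ptN j))) = false := fun hi hj hij => by
    rw [Bool.eq_false_iff]
    exact fun he => hij (H94.ptN_inj (by omega) (by omega)
      (σ.injective (H94.idxN_injective (Nat.eq_of_beq_eq_true he))))
  have ht : σ • H90.setOf' 7 ∈ qSet q0 := hQ ▸ Finset.smul_mem_smul_finset seven_mem.1
  have hu : σ • H90.setOf' 4120 ∈ qSet q0 := hQ ▸ Finset.smul_mem_smul_finset seven_mem.2
  obtain ⟨m, hm, hme⟩ := mem_qSet.mp ht
  obtain ⟨u, hu', hue⟩ := mem_qSet.mp hu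
  have hm' : m = 1 <<< H94.idxN (σ (H94.ptN 0)) ||| 1 <<< H94.idxN (σ (H94.ptN 1)) |||
      1 <<< H94.idxN (σ (H94.ptN 2)) := by
    refine H90.setOf'_injOn (qValid_lt q0_valid hm) ?_ ?_
    · have hs : ∀ p : GolayPt, 1 <<< H94.idxN p < 2 ^ 24 := fun p => by
        rw [Nat.one_shiftLeft]; exact Nat.pow_lt_pow_right (by norm_num) (H94.idxN_lt p)
      exact Nat.or_lt_two_pow (Nat.or_lt_two_pow (hs _) (hs _)) (hs _)
    · rw [hme, e7]
      simp only [H90.setOf'_or, setOf'_single (H94.idxN_lt _), H94.ptN_idxN]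
      ext q
      simp [Finset.smul_finset_insert, or_assoc]
  have hum : Nat.beq u m = false := by
    rw [Bool.eq_false_iff]
    intro he
    rw [Nat.eq_of_beq_eq_true he, hme] at hue
    exact hne78 (MulAction.injective σ hue)
  have hb : ∀ i, i = 3 ∨ i = 4 → H94.bitB u (H94.idxN (σ (H94.ptN i))) = true := by
    intro i hi
    rw [H94.bitB_eq]
    refine H94.mem_setOf'_idxN.mp ?_
    rw [hue, mem_smul_apply, e8]
    rcases hi with rfl | rfl <;> simp
  have h := List.all_eq_true.mp (List.all_eq_true.mp (List.all_eq_true.mp qStab_cover _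
    (hin 0 (by norm_num))) _ (hin 1 (by norm_num))) _ (hin 2 (by norm_num))
  have hel : q0.elem m = true := by simpa using hm
  rw [← hm', hne (i := 0) (j := 1) (by norm_num) (by norm_num) (by norm_num),
    hne (i := 0) (j := 2) (by norm_num) (by norm_num) (by norm_num),
    hne (i := 1) (j := 2) (by norm_num) (by norm_num) (by norm_num), hel] at h
  simp only [Bool.not_true, Bool.false_or] at h
  have h2 := List.all_eq_true.mp h u hu'
  rw [hum, Bool.false_or] at h2
  have h3 := List.all_eq_true.mp h2 _ (hin 3 (by norm_num))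
  rw [hb 3 (Or.inl rfl), Bool.not_true, Bool.false_or] at h3
  have h4 := List.all_eq_true.mp h3 _ (hin 4 (by norm_num))
  rw [hb 4 (Or.inr rfl), hne (i := 3) (j := 4) (by norm_num) (by norm_num) (by norm_num),
    Bool.not_true, Bool.false_or, Bool.false_or, List.any_eq_true] at h4
  obtain ⟨l, hl, hcmp⟩ := h4
  simp only [Bool.and_eq_true] at hcmp
  obtain ⟨n, hn, rfl⟩ := List.getElem_of_mem hl
  refine ⟨⟨n, hn⟩, Subtype.ext (Subtype.ext ?_)⟩
  have hR : H94.Reps qStab[n] _ := qElt_spec ⟨n, hn⟩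
  have hdd := (mem_qGrp.mp (qElt ⟨n, hn⟩).2).1
  refine dod_ext (qElt ⟨n, hn⟩ : M24).2 (g : M24).2 ?_ fun i hi => ?_
  · rw [hdd, ← hσdef, hd]
  · apply H94.idxN_injective
    rw [← hR i (by omega), ← hσdef]
    interval_cases i
    · exact Nat.eq_of_beq_eq_true hcmp.1.1.1.1
    · exact Nat.eq_of_beq_eq_true hcmp.1.1.1.2
    · exact Nat.eq_of_beq_eq_true hcmp.1.1.2
    · exact Nat.eq_of_beq_eq_true hcmp.1.2
    · exact Nat.eq_of_beq_eq_true hcmp.2

theorem qGrp0_card : Nat.card qGrp0 = 432 := by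
  rw [← Nat.card_eq_of_bijective qElt ⟨qElt_injective, qStab_complete⟩, Nat.card_fin]
  decide +kernel

theorem qGrp0_rep (g : qGrp0) :
    ∃ l ∈ qStab, H94.Reps l ((g : M24) : Equiv.Perm GolayPt) := by
  obtain ⟨i, rfl⟩ := qStab_complete g
  exact ⟨_, List.getElem_mem i.2, qElt_spec i⟩

/-- Packed powers. -/
def ppow (P : ℕ) : ℕ → ℕ
  | 0 => H94.pone
  | k + 1 => H94.pmul (ppow P k) P

theorem reps_pow {P : ℕ} {g : Equiv.Perm GolayPt} (h : H94.Reps P g) :
    ∀ k, H94.Reps (ppow P k) (g ^ k)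
  | 0 => by simpa [ppow] using H94.reps_one
  | k + 1 => by simpa [ppow, pow_succ] using (reps_pow h k).mul h

/-- Words in the translations. -/
def qWord (i j : ℕ) : ℕ := H94.pmul (ppow qA i) (ppow qB j)

theorem qAB_ok : (qStab.elem qA && qStab.elem qB &&
    H94.peq (ppow qA 3) H94.pone && H94.peq (ppow qB 3) H94.pone &&
    H94.peq (H94.pmul qA qB) (H94.pmul qB qA) &&
    (List.range 3).all fun i => (List.range 3).all fun j =>
      (Nat.beq i 0 && Nat.beq j 0) || !H94.peq (qWord i j) H94.pone) = true := by decide +kernel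

theorem qConj_ok : qStab.all (fun l =>
    ((List.range 3).any fun i => (List.range 3).any fun j =>
      H94.peq (H94.pmul l qA) (H94.pmul (qWord i j) l)) &&
    ((List.range 3).any fun i => (List.range 3).any fun j =>
      H94.peq (H94.pmul l qB) (H94.pmul (qWord i j) l))) = true := by decide +kernel

theorem qCent_ok : qStab.all (fun l =>
    !(H94.peq (H94.pmul l qA) (H94.pmul qA l) && H94.peq (H94.pmul l qB) (H94.pmul qB l)) ||
    (List.range 3).any fun i => (List.range 3).any fun j => H94.peq l (qWord i j)) = true := by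
  decide +kernel

theorem qGrp0_structure : ∃ (N : Subgroup qGrp0) (_ : N.Normal),
    Nat.card N = 9 ∧ Nonempty (qGrp0 ⧸ N ≃* GL (Fin 2) (ZMod 3)) := by
  have h := qAB_ok
  simp only [Bool.and_eq_true, List.elem_eq_mem, decide_eq_true_iff] at h
  obtain ⟨⟨⟨⟨⟨hA, hB⟩, ha3⟩, hb3⟩, hab⟩, hw⟩ := h
  obtain ⟨a, hRa⟩ := qStab_exists qA hA
  obtain ⟨b, hRb⟩ := qStab_exists qB hB
  have ext' : ∀ {P Q : ℕ} {x y : qGrp0}, H94.Reps P ((x : M24) : Equiv.Perm GolayPt) →
      H94.Reps Q ((y : M24) : Equiv.Perm GolayPt) → H94.peq P Q = true → x = y :=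
    fun hx hy he => Subtype.ext (Subtype.ext (hx.eq_of_peq hy he))
  have hc : Commute a b := ext' (hRa.mul hRb) (hRb.mul hRa) hab
  have ha : a ^ 3 = 1 := ext' (x := a ^ 3) (y := 1) (by simpa using reps_pow hRa 3)
    (by simpa using H94.reps_one) ha3
  have hb : b ^ 3 = 1 := ext' (x := b ^ 3) (y := 1) (by simpa using reps_pow hRb 3)
    (by simpa using H94.reps_one) hb3
  have hWord : ∀ i j, H94.Reps (qWord i j) (((a ^ i * b ^ j : qGrp0) : M24) : Equiv.Perm GolayPt) :=
    fun i j => by simpa [qWord] using (reps_pow hRa i).mul (reps_pow hRb j)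
  have hmem : ∀ i < 3, ∀ j < 3, a ^ i * b ^ j ∈ (planeHom a b hc ha hb).range := by
    intro i hi j hj
    refine ⟨Multiplicative.ofAdd ![(i : ZMod 3), (j : ZMod 3)], ?_⟩
    rw [planeHom_apply]
    simp [ZMod.val_natCast, Nat.mod_eq_of_lt hi, Nat.mod_eq_of_lt hj]
  have hnorm : ∀ (g x : qGrp0) (X : ℕ), H94.Reps X ((x : M24) : Equiv.Perm GolayPt) →
      ∀ l, H94.Reps l ((g : M24) : Equiv.Perm GolayPt) →
      ((List.range 3).any fun i => (List.range 3).any fun j =>
        H94.peq (H94.pmul l X) (H94.pmul (qWord i j) l)) = true →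
      g * x * g⁻¹ ∈ (planeHom a b hc ha hb).range := by
    intro g x X hX l hl he
    simp only [List.any_eq_true, List.mem_range] at he
    obtain ⟨i, hi, j, hj, he⟩ := he
    have : g * x = (a ^ i * b ^ j) * g := ext' (hl.mul hX) ((hWord i j).mul hl) he
    rw [this, mul_inv_cancel_right]
    exact hmem i hi j hj
  refine quot_GL23 qGrp0_card a b hc ha hb ?_ (fun g => ?_) (fun g => ?_) (fun g hga hgb => ?_)
  · rw [injective_iff_map_eq_one]
    intro x hx
    rw [planeHom_apply] at hx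
    have hv := hw
    simp only [List.all_eq_true, List.mem_range] at hv
    have h' := hv _ (Multiplicative.toAdd x 0).val_lt _ (Multiplicative.toAdd x 1).val_lt
    have hp : H94.peq (qWord (Multiplicative.toAdd x 0).val (Multiplicative.toAdd x 1).val) H94.pone
        = true := by
      have hR := hWord (Multiplicative.toAdd x 0).val (Multiplicative.toAdd x 1).val
      rw [hx] at hR
      exact hR.peq_of_eq (by simpa using H94.reps_one)
    simp only [hp, Bool.not_true, Bool.or_false, Bool.and_eq_true] at h'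
    refine Multiplicative.toAdd.injective (funext fun k => ?_)
    fin_cases k
    · exact (ZMod.val_eq_zero _).mp (Nat.eq_of_beq_eq_true h'.1)
    · exact (ZMod.val_eq_zero _).mp (Nat.eq_of_beq_eq_true h'.2)
  · obtain ⟨l, hl, hR⟩ := qGrp0_rep g
    have hh := List.all_eq_true.mp qConj_ok l hl
    rw [Bool.and_eq_true] at hh
    exact hnorm g a qA hRa l hR hh.1
  · obtain ⟨l, hl, hR⟩ := qGrp0_rep g
    have hh := List.all_eq_true.mp qConj_ok l hl
    rw [Bool.and_eq_true] at hh
    exact hnorm g b qB hRb l hR hh.2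
  · obtain ⟨l, hl, hR⟩ := qGrp0_rep g
    have hh := List.all_eq_true.mp qCent_ok l hl
    have p1 : H94.peq (H94.pmul l qA) (H94.pmul qA l) = true := by
      refine (hR.mul hRa).peq_of_eq ?_
      have he : ((g : M24) : Equiv.Perm GolayPt) * ((a : M24) : Equiv.Perm GolayPt) =
          ((a : M24) : Equiv.Perm GolayPt) * ((g : M24) : Equiv.Perm GolayPt) :=
        congrArg (fun z : qGrp0 => ((z : M24) : Equiv.Perm GolayPt)) hga.eq
      rw [he]
      exact hRa.mul hR
    have p2 : H94.peq (H94.pmul l qB) (H94.pmul qB l) = true := by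
      refine (hR.mul hRb).peq_of_eq ?_
      have he : ((g : M24) : Equiv.Perm GolayPt) * ((b : M24) : Equiv.Perm GolayPt) =
          ((b : M24) : Equiv.Perm GolayPt) * ((g : M24) : Equiv.Perm GolayPt) :=
        congrArg (fun z : qGrp0 => ((z : M24) : Equiv.Perm GolayPt)) hgb.eq
      rw [he]
      exact hRb.mul hR
    simp only [p1, p2, Bool.and_self, Bool.not_true, Bool.false_or, List.any_eq_true,
      List.mem_range] at hh
    obtain ⟨i, hi, j, hj, he⟩ := hh
    rw [ext' hR (hWord i j) he]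
    exact hmem i hi j hj

theorem qStab_first : dodPos.all (fun i => qStab.any fun l => Nat.beq (H94.pap l 0) i) = true := by
  decide +kernel

theorem qGrp0_trans {p q : GolayPt} (hp : p ∈ H90.setOf' dod0) (hq : q ∈ H90.setOf' dod0) :
    ∃ g : qGrp0, ((g : M24) : Equiv.Perm GolayPt) p = q := by
  have key : ∀ r ∈ H90.setOf' dod0, ∃ g : qGrp0,
      ((g : M24) : Equiv.Perm GolayPt) (H94.ptN 0) = r := by
    intro r hr
    have h := List.all_eq_true.mp qStab_first _ (mem_dodPos hr)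
    rw [List.any_eq_true] at h
    obtain ⟨l, hl, he⟩ := h
    obtain ⟨g, hR⟩ := qStab_exists l hl
    refine ⟨g, H94.idxN_injective ?_⟩
    rw [← hR 0 (by norm_num), Nat.eq_of_beq_eq_true he]
  obtain ⟨g, hg⟩ := key p hp
  obtain ⟨h, hh⟩ := key q hq
  exact ⟨h * g⁻¹, by simp [Equiv.Perm.mul_apply, ← hg, hh]⟩

theorem qGrp_facts {d : Finset GolayPt} (hd : d ∈ dodecads) {Q : Finset (Finset GolayPt)}
    (hQ : Q ∈ quartets d) :
    Nat.card (qGrp d Q) = 432 ∧
      (∃ (N : Subgroup (qGrp d Q)) (_ : N.Normal),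
        Nat.card N = 9 ∧ Nonempty (qGrp d Q ⧸ N ≃* GL (Fin 2) (ZMod 3))) ∧
      ∀ p ∈ d, ∀ q ∈ d, ∃ g ∈ qGrp d Q, ((g : M24) : Equiv.Perm GolayPt) p = q := by
  obtain ⟨g, hg, hgd, hgQ⟩ := normal_quartet hd hQ
  let e := qGrpEquiv hg hgd hgQ
  refine ⟨by rw [Nat.card_congr e.toEquiv, qGrp0_card], ?_, fun p hp q hq => ?_⟩
  · obtain ⟨N, hN, h9, ⟨f⟩⟩ := qGrp0_structure
    obtain ⟨M, hM⟩ : ∃ M, M = N.map (e.symm : qGrp0 →* qGrp d Q) := ⟨_, rfl⟩
    haveI hn : M.Normal := hM ▸ hN.map _ e.symm.surjective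
    refine ⟨M, hn, ?_, ⟨?_⟩⟩
    · rw [← h9, hM]
      exact (Nat.card_congr (N.equivMapOfInjective _ e.symm.injective).toEquiv).symm
    · exact (QuotientGroup.congr N M e.symm hM.symm).symm.trans f
  · obtain ⟨k, hk⟩ := qGrp0_trans (p := g p) (q := g q)
      (by rw [← hgd, mem_smul_apply]; exact hp) (by rw [← hgd, mem_smul_apply]; exact hq)
    refine ⟨(e.symm k : M24), (e.symm k).2, ?_⟩
    show (g⁻¹ * ((k : M24) : Equiv.Perm GolayPt) * g) p = q
    simp [Equiv.Perm.mul_apply, hk]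

end H92

end
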