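import Cfsg.Agent.H92.DodStab
import Cfsg.Agent.H92.QuartetStab

/-!
The stabiliser of a dodecad and one of its points, of order 7920.
-/

set_option autoImplicit false

noncomputable section

namespace H92

open Cfsg
open scoped Pointwise

/-- The stabiliser of a dodecad and one of its points. -/
abbrev dpGrp (d : Finset GolayPt) (p : GolayPt) : Subgroup M24 :=
  MulAction.stabilizer M24 d ⊓ MulAction.stabilizer M24 p

theorem mem_dpGrp {d : Finset GolayPt} {p : GolayPt} {g : M24} :
    g ∈ dpGrp d p ↔ (g : Equiv.Perm GolayPt) • d = d ∧ (g : Equiv.Perm GolayPt) p = p := Iff.rfl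

/-- Conjugate stabilisers are isomorphic. -/
def conjSubEquiv {H H' : Subgroup M24} (g : M24) (h : ∀ k, k ∈ H ↔ g * k * g⁻¹ ∈ H') : H ≃* H' where
  toFun k := ⟨g * k * g⁻¹, (h k).mp k.2⟩
  invFun k := ⟨g⁻¹ * k * g, (h _).mpr (by simp [mul_assoc])⟩
  left_inv k := by apply Subtype.ext; simp [mul_assoc]
  right_inv k := by apply Subtype.ext; simp [mul_assoc]
  map_mul' k l := by apply Subtype.ext; simp [mul_assoc]

theorem conj_mem_stab {α : Type*} [MulAction (Equiv.Perm GolayPt) α] (g k : M24) {x y : α}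
    (h : (g : Equiv.Perm GolayPt) • x = y) :
    g * k * g⁻¹ ∈ MulAction.stabilizer M24 y ↔ k ∈ MulAction.stabilizer M24 x := by
  show ((g : Equiv.Perm GolayPt) * k * (g : Equiv.Perm GolayPt)⁻¹) • y = y ↔
    (k : Equiv.Perm GolayPt) • x = x
  rw [← h, mul_smul, mul_smul, inv_smul_smul, smul_left_cancel_iff]

theorem dpGrp_card {d : Finset GolayPt} (hd : d ∈ dodecads) {p : GolayPt} (hp : p ∈ d) :
    Nat.card (dpGrp d p) = 7920 := by
  classical
  obtain ⟨a, hinj, hmem, hal⟩ := extend_five hd [p] (by simp) (by simp [hp]) (by simp)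
  have a0 : a 0 = p := hal 0 (by simp)
  let S : Finset GolayPt := d.erase p
  let f : dpGrp d p → (Fin 4 ↪ S) := fun k => ⟨fun i =>
    ⟨((k : M24) : Equiv.Perm GolayPt) (a (i.1 + 1)), by
      obtain ⟨hkd, hkp⟩ := mem_dpGrp.mp k.2
      refine Finset.mem_erase.mpr ⟨fun h => ?_, ?_⟩
      · have := hinj (i.1 + 1) (by omega) 0 (by norm_num)
          ((((k : M24) : Equiv.Perm GolayPt).injective (h.trans hkp.symm)).trans a0.symm)
        omega
      · have h2 := (mem_smul_apply ((k : M24) : Equiv.Perm GolayPt) d (a (i.1 + 1))).mpr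
          (hmem _ (by omega))
        rwa [hkd] at h2⟩,
    fun i j h => Fin.ext (by
      have := hinj (i.1 + 1) (by omega) (j.1 + 1) (by omega)
        (((k : M24) : Equiv.Perm GolayPt).injective (congrArg Subtype.val h))
      omega)⟩
  have hf : Function.Bijective f := by
    constructor
    · intro k k' h
      obtain ⟨kd, kp⟩ := mem_dpGrp.mp k.2
      obtain ⟨kd', kp'⟩ := mem_dpGrp.mp k'.2
      refine Subtype.ext (Subtype.ext (dod_five_ext hd hinj hmem (k : M24).2 (k' : M24).2
        (kd.trans kd'.symm) fun i hi => ?_))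
      rcases i with _ | i
      · rw [a0, kp, kp']
      · exact congrArg Subtype.val (DFunLike.congr_fun h ⟨i, by omega⟩)
    · intro e
      let b : ℕ → GolayPt := fun i => if h : i - 1 < 4 ∧ 0 < i then (e ⟨i - 1, h.1⟩ : GolayPt) else p
      have hbi : ∀ i < 5, ∀ j < 5, b i = b j → i = j := by
        intro i hi j hj h
        rcases i with _ | i <;> rcases j with _ | j
        · rfl
        · simp only [b, Nat.add_sub_cancel, show j < 4 by omega, Nat.succ_pos, and_self, dite_true,
            lt_irrefl, and_false, dite_false] at h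
          exact absurd h.symm (Finset.mem_erase.mp (e ⟨j, _⟩).2).1
        · simp only [b, Nat.add_sub_cancel, show i < 4 by omega, Nat.succ_pos, and_self, dite_true,
            lt_irrefl, and_false, dite_false] at h
          exact absurd h (Finset.mem_erase.mp (e ⟨i, _⟩).2).1
        · simp only [b, Nat.add_sub_cancel, show i < 4 by omega, show j < 4 by omega, Nat.succ_pos,
            and_self, dite_true] at h
          have := congrArg Fin.val (e.injective (Subtype.ext h))
          simp only at this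
          omega
      have hbm : ∀ i < 5, b i ∈ d := by
        intro i _
        simp only [b]
        split
        · exact (Finset.mem_erase.mp (e _).2).2
        · exact hp
      obtain ⟨k, hk, hkd, hka⟩ := dod_five_move hd hinj hbi hmem hbm
      refine ⟨⟨⟨k, hk⟩, mem_dpGrp.mpr ⟨hkd, ?_⟩⟩, ?_⟩
      · have := hka 0 (by norm_num)
        rw [a0] at this
        exact this.trans (by simp [b])
      · refine DFunLike.ext _ _ fun i => Subtype.ext ?_
        show k (a (i.1 + 1)) = _
        rw [hka _ (by omega)]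
        simp [b]
  rw [Nat.card_eq_of_bijective f hf, Nat.card_eq_fintype_card, Fintype.card_embedding_eq,
    Fintype.card_fin, Fintype.card_coe, Finset.card_erase_of_mem hp, hd.2]
  rfl

/-- Order of a stabiliser inside a subgroup from the size of the orbit. -/
theorem card_inf_stab {α : Type*} [MulAction M24 α] (K : Subgroup M24) (x : α) :
    Nat.card (MulAction.orbit K x) * Nat.card ↥(K ⊓ MulAction.stabilizer M24 x) = Nat.card K := by
  have e : MulAction.stabilizer K x ≃ ↥(K ⊓ MulAction.stabilizer M24 x) :=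
    { toFun := fun k => ⟨k.1.1, k.1.2, k.2⟩
      invFun := fun k => ⟨⟨k.1, k.2.1⟩, k.2.2⟩
      left_inv := fun k => rfl
      right_inv := fun k => rfl }
  rw [← Nat.card_congr e, Nat.card_congr (MulAction.orbitEquivQuotientStabilizer K x)]
  exact (Subgroup.card_eq_card_quotient_mul_card_subgroup (MulAction.stabilizer K x)).symm

/-- Every element of the subgroup is listed. -/
def Lists (H : Subgroup M24) (L : List ℕ) : Prop :=
  ∀ g : H, ∃ l ∈ L, H94.Reps l ((g : M24) : Equiv.Perm GolayPt)

theorem lists_of_card {H : Subgroup M24} {L : List ℕ}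
    (hex : ∀ l ∈ L, ∃ g : H, H94.Reps l ((g : M24) : Equiv.Perm GolayPt))
    (hinc : incB (L.map code5) = true) (hcard : Nat.card H = L.length) : Lists H L := by
  let f : Fin L.length → H := fun i => (hex _ (List.getElem_mem i.2)).choose
  have hspec : ∀ i : Fin L.length, H94.Reps L[i.1] ((f i : M24) : Equiv.Perm GolayPt) :=
    fun i => (hex _ (List.getElem_mem i.2)).choose_spec
  have hn : (L.map code5).Nodup := (incB_pairwise _ hinc).imp fun h => h.ne
  have hinj : Function.Injective f := by
    intro i j h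
    have h1 := hspec i
    have h2 := hspec j
    rw [h] at h1
    have hc : (L.map code5)[i.1]'(by simp) = (L.map code5)[j.1]'(by simp) := by
      simp only [List.getElem_map, code5]
      rw [h1 0 (by norm_num), h1 1 (by norm_num), h1 2 (by norm_num), h1 3 (by norm_num),
        h1 4 (by norm_num), h2 0 (by norm_num), h2 1 (by norm_num), h2 2 (by norm_num),
        h2 3 (by norm_num), h2 4 (by norm_num)]
    exact Fin.ext (hn.getElem_inj_iff.mp hc)
  haveI : Finite H := inferInstance
  have hb := hinj.bijective_of_nat_card_le (by rw [hcard, Nat.card_fin])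
  intro g
  obtain ⟨i, rfl⟩ := hb.2 g
  exact ⟨_, List.getElem_mem i.2, hspec i⟩

theorem ext_of_peq {H : Subgroup M24} {P Q : ℕ} {x y : H}
    (hx : H94.Reps P ((x : M24) : Equiv.Perm GolayPt)) (hy : H94.Reps Q ((y : M24) : Equiv.Perm GolayPt))
    (he : H94.peq P Q = true) : x = y :=
  Subtype.ext (Subtype.ext (hx.eq_of_peq hy he))

/-- The base group. -/
abbrev dpGrp0 : Subgroup M24 := dpGrp (H90.setOf' dod0) (H94.ptN 0)

theorem dpGrp0_card : Nat.card dpGrp0 = 7920 := dpGrp_card dod0_mem (base_mem_dod0 (by norm_num))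

/-- A check for membership in the base group. -/
def dp0B (l : ℕ) : Bool :=
  H94.memB l && Nat.beq (H94.pmask l dod0) dod0 && Nat.beq (H94.pap l 0) 0

theorem dp0B_spec {l : ℕ} (h : dp0B l = true) :
    ∃ g : dpGrp0, H94.Reps l ((g : M24) : Equiv.Perm GolayPt) := by
  simp only [dp0B, Bool.and_eq_true] at h
  obtain ⟨g, hg, hR⟩ := H94.exists_perm_of_memB h.1.1
  refine ⟨⟨⟨g, hg⟩, mem_dpGrp.mpr ⟨?_, ?_⟩⟩, hR⟩
  · show g • H90.setOf' dod0 = H90.setOf' dod0
    rw [← hR.setOf', Nat.eq_of_beq_eq_true h.1.2]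
  · apply H94.idxN_injective
    show H94.idxN (g (H94.ptN 0)) = _
    rw [← hR 0 (by norm_num), Nat.eq_of_beq_eq_true h.2, H94.idxN_ptN (by norm_num)]

theorem dp_normal {d : Finset GolayPt} (hd : d ∈ dodecads) {p : GolayPt} (hp : p ∈ d) :
    ∃ g : M24, (g : Equiv.Perm GolayPt) • d = H90.setOf' dod0 ∧
      (g : Equiv.Perm GolayPt) p = H94.ptN 0 := by
  obtain ⟨g, hg, hgd, hgl⟩ := normal_dod_list hd [p] (by simp) (by simp [hp]) (by simp)
  exact ⟨⟨g, hg⟩, hgd, hgl 0 (by simp)⟩

theorem dp0_trans_out {x y : GolayPt} (hx : x ∉ H90.setOf' dod0) (hy : y ∉ H90.setOf' dod0) :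
    ∃ k : dpGrp0, ((k : M24) : Equiv.Perm GolayPt) x = y := by
  obtain ⟨g, hg, hgd, h0, -, -, hxy⟩ := dodTriple_trans dod0_mem
    (base_mem_dod0 (i := 0) (by norm_num)) (base_mem_dod0 (i := 1) (by norm_num))
    (base_mem_dod0 (i := 2) (by norm_num))
    (fun h => by have := H94.ptN_inj (by norm_num) (by norm_num) h; omega)
    (fun h => by have := H94.ptN_inj (by norm_num) (by norm_num) h; omega)
    (fun h => by have := H94.ptN_inj (by norm_num) (by norm_num) h; omega) hx hy
  exact ⟨⟨⟨g, hg⟩, mem_dpGrp.mpr ⟨hgd, h0⟩⟩, hxy⟩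

end H92

end
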