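import Cfsg.Agent.H92.M11Base
import Cfsg.Agent.H92.M11SubData

/-!
Centralisers of involutions in the group of order 7920.
-/

set_option autoImplicit false

noncomputable section

namespace H92

open Cfsg
open scoped Pointwise

/-- Transport of a centraliser. -/
def centEquiv {G G' : Type*} [Group G] [Group G'] (e : G ≃* G') (x : G) (y : G') (h : e x = y) :
    Subgroup.centralizer ({x} : Set G) ≃* Subgroup.centralizer ({y} : Set G') where
  toFun k := ⟨e k, by
    rw [Subgroup.mem_centralizer_singleton_iff, ← h, ← map_mul, ← map_mul,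
      Subgroup.mem_centralizer_singleton_iff.mp k.2]⟩
  invFun k := ⟨e.symm k, by
    rw [Subgroup.mem_centralizer_singleton_iff]
    apply e.injective
    rw [map_mul, map_mul, e.apply_symm_apply, h, Subgroup.mem_centralizer_singleton_iff.mp k.2]⟩
  left_inv k := by apply Subtype.ext; simp
  right_inv k := by apply Subtype.ext; simp
  map_mul' k l := by apply Subtype.ext; simp

theorem mInv_ok : (dp0B mInv && H94.peq (H94.pmul mInv mInv) H94.pone) = true := by decide +kernel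

theorem mInv_exists : ∃ g : dpGrp0, H94.Reps mInv ((g : M24) : Equiv.Perm GolayPt) :=
  dp0B_spec (Bool.and_eq_true _ _ ▸ mInv_ok).1

/-- The base involution as an element. -/
def inv0 : dpGrp0 := mInv_exists.choose

theorem inv0_spec : H94.Reps mInv ((inv0 : M24) : Equiv.Perm GolayPt) := mInv_exists.choose_spec

theorem mSwap_cover : (mSwap.all (fun l => dp0B l && Nat.beq (H94.pap l 1) 2 &&
      Nat.beq (H94.pap l 2) 1 && (!H94.peq (H94.pmul l l) H94.pone ||
        mWit.any fun c => H94.peq (H94.pmul c l) (H94.pmul mInv c))) &&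
    mWit.all dp0B &&
    dodPos.all fun i => dodPos.all fun j => Nat.blt i 3 || Nat.blt j 3 || Nat.beq i j ||
      mSwap.any fun l => Nat.beq (H94.pap l 3) i && Nat.beq (H94.pap l 4) j) = true := by
  decide +kernel

theorem dp0_ne {g : Equiv.Perm GolayPt} {i j : ℕ} (hi : i < 24) (hj : j < 24) (h : i ≠ j) :
    g (H94.ptN i) ≠ g (H94.ptN j) := fun he => h (H94.ptN_inj hi hj (g.injective he))

/-- An involution exchanging two base positions is conjugate to the base one. -/
theorem swap_conj (y : dpGrp0) (h1 : ((y : M24) : Equiv.Perm GolayPt) (H94.ptN 1) = H94.ptN 2)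
    (h2 : ((y : M24) : Equiv.Perm GolayPt) (H94.ptN 2) = H94.ptN 1) (hy : y * y = 1) :
    ∃ c : dpGrp0, c * y = inv0 * c := by
  obtain ⟨hd, h0⟩ := mem_dpGrp.mp y.2
  obtain ⟨σ, hσ⟩ : ∃ σ, σ = ((y : M24) : Equiv.Perm GolayPt) := ⟨_, rfl⟩
  rw [← hσ] at hd h0 h1 h2
  have hin : ∀ i < 5, H94.idxN (σ (H94.ptN i)) ∈ dodPos := fun i hi =>
    mem_dodPos (by rw [← hd, mem_smul_apply]; exact base_mem_dod0 hi)
  have hv : H94.idxN (σ (H94.ptN 0)) = 0 ∧ H94.idxN (σ (H94.ptN 1)) = 2 ∧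
      H94.idxN (σ (H94.ptN 2)) = 1 := by
    rw [h0, h1, h2]
    exact ⟨H94.idxN_ptN (by norm_num), H94.idxN_ptN (by norm_num), H94.idxN_ptN (by norm_num)⟩
  have hlow : ∀ i, i = 3 ∨ i = 4 → Nat.blt (H94.idxN (σ (H94.ptN i))) 3 = false := by
    intro i hi
    rw [Bool.eq_false_iff]
    intro hb
    have hlt : H94.idxN (σ (H94.ptN i)) < 3 := Nat.le_of_ble_eq_true hb
    have hi24 : i < 24 := by omega
    have e0 := dp0_ne (g := σ) hi24 (j := 0) (by norm_num) (by omega)
    have e1 := dp0_ne (g := σ) hi24 (j := 1) (by norm_num) (by omega)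
    have e2 := dp0_ne (g := σ) hi24 (j := 2) (by norm_num) (by omega)
    rw [h0] at e0
    rw [h1] at e1
    rw [h2] at e2
    interval_cases hk : H94.idxN (σ (H94.ptN i))
    · exact e0 (H94.idxN_injective (by rw [hk, H94.idxN_ptN (by norm_num)]))
    · exact e2 (H94.idxN_injective (by rw [hk, H94.idxN_ptN (by norm_num)]))
    · exact e1 (H94.idxN_injective (by rw [hk, H94.idxN_ptN (by norm_num)]))
  have hne : Nat.beq (H94.idxN (σ (H94.ptN 3))) (H94.idxN (σ (H94.ptN 4))) = false := by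
    rw [Bool.eq_false_iff]
    exact fun he => dp0_ne (g := σ) (i := 3) (j := 4) (by norm_num) (by norm_num) (by norm_num)
      (H94.idxN_injective (Nat.eq_of_beq_eq_true he))
  have hc := mSwap_cover
  simp only [Bool.and_eq_true] at hc
  have h := List.all_eq_true.mp (List.all_eq_true.mp hc.2 _ (hin 3 (by norm_num))) _ (hin 4 (by norm_num))
  rw [hlow 3 (Or.inl rfl), hlow 4 (Or.inr rfl), hne, Bool.false_or, Bool.false_or, Bool.false_or,
    List.any_eq_true] at h
  obtain ⟨l, hl, hcmp⟩ := h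
  rw [Bool.and_eq_true] at hcmp
  have hl' := List.all_eq_true.mp hc.1.1 l hl
  simp only [Bool.and_eq_true] at hl'
  obtain ⟨⟨⟨hdp, e1'⟩, e2'⟩, hw⟩ := hl'
  obtain ⟨g, hR⟩ := dp0B_spec hdp
  have hgy : g = y := by
    refine Subtype.ext (Subtype.ext (dod_ext (g : M24).2 (y : M24).2 ?_ fun i hi => ?_))
    · rw [(mem_dpGrp.mp g.2).1, (mem_dpGrp.mp y.2).1]
    · apply H94.idxN_injective
      rw [← hR i (by omega), ← hσ]
      interval_cases i
      · simp only [dp0B, Bool.and_eq_true] at hdp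
        rw [Nat.eq_of_beq_eq_true hdp.2, hv.1]
      · rw [Nat.eq_of_beq_eq_true e1', hv.2.1]
      · rw [Nat.eq_of_beq_eq_true e2', hv.2.2]
      · exact Nat.eq_of_beq_eq_true hcmp.1
      · exact Nat.eq_of_beq_eq_true hcmp.2
  subst hgy
  have hll : H94.peq (H94.pmul l l) H94.pone = true := by
    have hR2 : H94.Reps (H94.pmul l l) (((g * g : dpGrp0) : M24) : Equiv.Perm GolayPt) := hR.mul hR
    rw [hy] at hR2
    exact hR2.peq_of_eq (by simpa using H94.reps_one)
  rw [hll, Bool.not_true, Bool.false_or, List.any_eq_true] at hw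
  obtain ⟨c, hcm, hce⟩ := hw
  obtain ⟨k, hk⟩ := dp0B_spec (List.all_eq_true.mp hc.1.2 c hcm)
  exact ⟨k, ext_of_peq (x := k * g) (y := inv0 * k) (hk.mul hR) (inv0_spec.mul hk) hce⟩

theorem inv_conj (x : dpGrp0) (hx : orderOf x = 2) : ∃ c : dpGrp0, c * x = inv0 * c := by
  obtain ⟨hd, h0⟩ := mem_dpGrp.mp x.2
  obtain ⟨σ, hσ⟩ : ∃ σ, σ = ((x : M24) : Equiv.Perm GolayPt) := ⟨_, rfl⟩
  rw [← hσ] at hd h0
  have hxx : x * x = 1 := by
    have h := pow_orderOf_eq_one x
    rwa [hx, pow_two] at h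
  obtain ⟨a, ha, hax⟩ : ∃ a ∈ H90.setOf' dod0, σ a ≠ a := by
    by_contra hcon
    push_neg at hcon
    have : x = 1 := Subtype.ext (Subtype.ext (dod_ext (x : M24).2 M24.one_mem
      (by rw [← hσ, hd]; exact (one_smul _ _).symm)
      fun i hi => by rw [← hσ]; exact hcon _ (base_mem_dod0 hi)))
    rw [this, orderOf_one] at hx
    omega
  have ha0 : a ≠ H94.ptN 0 := fun h => hax (by rw [h, h0])
  have hb : σ a ∈ H90.setOf' dod0 := by
    have := (mem_smul_apply σ _ a).mpr ha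
    rwa [hd] at this
  have hb0 : σ a ≠ H94.ptN 0 := fun h => ha0 (σ.injective (h.trans h0.symm))
  obtain ⟨g, hg, hgd, hgl⟩ := normal_dod_list dod0_mem [H94.ptN 0, a, σ a]
    (by simp [Ne.symm ha0, Ne.symm hb0, Ne.symm hax])
    (by simp [base_mem_dod0 (i := 0) (by norm_num), ha, hb]) (by simp)
  have g0 : g (H94.ptN 0) = H94.ptN 0 := hgl 0 (by simp)
  have g1 : g a = H94.ptN 1 := hgl 1 (by simp)
  have g2 : g (σ a) = H94.ptN 2 := hgl 2 (by simp)
  let k : dpGrp0 := ⟨⟨g, hg⟩, mem_dpGrp.mpr ⟨hgd, g0⟩⟩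
  have hσ2 : σ (σ a) = a := by
    have h := congrArg (fun z : dpGrp0 => ((z : M24) : Equiv.Perm GolayPt) a) hxx
    rw [hσ]
    exact h
  have hy : k * x * k⁻¹ * (k * x * k⁻¹) = 1 := by
    rw [show k * x * k⁻¹ * (k * x * k⁻¹) = k * (x * x) * k⁻¹ by group, hxx]
    group
  obtain ⟨c, hc⟩ := swap_conj (k * x * k⁻¹) (by
      show (g * ((x : M24) : Equiv.Perm GolayPt) * g⁻¹) (H94.ptN 1) = _
      rw [Equiv.Perm.mul_apply, Equiv.Perm.mul_apply, ← g1, Equiv.Perm.inv_def,
        Equiv.symm_apply_apply, ← hσ, g2]) (by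
      show (g * ((x : M24) : Equiv.Perm GolayPt) * g⁻¹) (H94.ptN 2) = _
      rw [Equiv.Perm.mul_apply, Equiv.Perm.mul_apply, ← g2, Equiv.Perm.inv_def,
        Equiv.symm_apply_apply, ← hσ, hσ2, g1]) hy
  refine ⟨c * k, ?_⟩
  have := congrArg (· * k) hc
  simpa [mul_assoc] using this

/-- The base centraliser. -/
abbrev cent0 : Subgroup dpGrp0 := Subgroup.centralizer ({inv0} : Set dpGrp0)

theorem mCent_ok : (mCent.all (fun l => dp0B l && H94.peq (H94.pmul l mInv) (H94.pmul mInv l)) &&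
    dodPos.all fun a => Nat.beq (H94.pap mInv a) a || dodPos.all fun c =>
      Nat.beq (H94.pap mInv c) c || Nat.beq c a || Nat.beq c (H94.pap mInv a) ||
      mCent.any fun l => Nat.beq (H94.pap l 1) a && Nat.beq (H94.pap l 3) c) = true := by
  decide +kernel

theorem mCent_inc : incB (mCent.map code5) = true := by decide +kernel

theorem mInv_pairs : Nat.beq (H94.pap mInv 1) 2 = true ∧ Nat.beq (H94.pap mInv 3) 4 = true := by
  decide +kernel

theorem inv0_pairs : ((inv0 : M24) : Equiv.Perm GolayPt) (H94.ptN 1) = H94.ptN 2 ∧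
    ((inv0 : M24) : Equiv.Perm GolayPt) (H94.ptN 3) = H94.ptN 4 :=
  ⟨H94.idxN_injective (by rw [← inv0_spec 1 (by norm_num), Nat.eq_of_beq_eq_true mInv_pairs.1,
      H94.idxN_ptN (by norm_num)]),
    H94.idxN_injective (by rw [← inv0_spec 3 (by norm_num), Nat.eq_of_beq_eq_true mInv_pairs.2,
      H94.idxN_ptN (by norm_num)])⟩

theorem mCent_exists {l : ℕ} (hl : l ∈ mCent) :
    ∃ g : cent0, H94.Reps l (((g : dpGrp0) : M24) : Equiv.Perm GolayPt) := by
  have h := mCent_ok
  rw [Bool.and_eq_true] at h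
  have h' := List.all_eq_true.mp h.1 l hl
  rw [Bool.and_eq_true] at h'
  obtain ⟨g, hR⟩ := dp0B_spec h'.1
  exact ⟨⟨g, Subgroup.mem_centralizer_singleton_iff.mpr
    (ext_of_peq (x := g * inv0) (y := inv0 * g) (hR.mul inv0_spec) (inv0_spec.mul hR) h'.2)⟩, hR⟩

theorem mCent_complete (g : cent0) :
    ∃ l ∈ mCent, H94.Reps l (((g : dpGrp0) : M24) : Equiv.Perm GolayPt) := by
  obtain ⟨hd, h0⟩ := mem_dpGrp.mp (g : dpGrp0).2
  obtain ⟨σ, hσ⟩ : ∃ σ, σ = (((g : dpGrp0) : M24) : Equiv.Perm GolayPt) := ⟨_, rfl⟩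
  obtain ⟨τ, hτ⟩ : ∃ τ, τ = ((inv0 : M24) : Equiv.Perm GolayPt) := ⟨_, rfl⟩
  rw [← hσ] at hd h0
  have hcom : ∀ z, σ (τ z) = τ (σ z) := by
    intro z
    rw [hσ, hτ]
    exact congrArg (fun w : dpGrp0 => ((w : M24) : Equiv.Perm GolayPt) z)
      (Subgroup.mem_centralizer_singleton_iff.mp g.2)
  obtain ⟨p1, p3⟩ := inv0_pairs
  rw [← hτ] at p1 p3
  have g2 : σ (H94.ptN 2) = τ (σ (H94.ptN 1)) := by rw [← hcom, p1]
  have g4 : σ (H94.ptN 4) = τ (σ (H94.ptN 3)) := by rw [← hcom, p3]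
  have hin : ∀ i < 5, H94.idxN (σ (H94.ptN i)) ∈ dodPos := fun i hi =>
    mem_dodPos (by rw [← hd, mem_smul_apply]; exact base_mem_dod0 hi)
  have htau : ∀ z, H94.pap mInv (H94.idxN z) = H94.idxN (τ z) := fun z => by
    rw [hτ, inv0_spec _ (H94.idxN_lt z), H94.ptN_idxN]
  have hneq : ∀ {u v : GolayPt}, u ≠ v → Nat.beq (H94.idxN u) (H94.idxN v) = false := fun h => by
    rw [Bool.eq_false_iff]
    exact fun he => h (H94.idxN_injective (Nat.eq_of_beq_eq_true he))
  have hmv1 : τ (σ (H94.ptN 1)) ≠ σ (H94.ptN 1) := by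
    rw [← g2]; exact dp0_ne (by norm_num) (by norm_num) (by norm_num)
  have hmv3 : τ (σ (H94.ptN 3)) ≠ σ (H94.ptN 3) := by
    rw [← g4]; exact dp0_ne (by norm_num) (by norm_num) (by norm_num)
  have h31 : σ (H94.ptN 3) ≠ σ (H94.ptN 1) := dp0_ne (by norm_num) (by norm_num) (by norm_num)
  have h32 : σ (H94.ptN 3) ≠ τ (σ (H94.ptN 1)) := by
    rw [← g2]; exact dp0_ne (by norm_num) (by norm_num) (by norm_num)
  have hc := mCent_ok
  rw [Bool.and_eq_true] at hc
  have h := List.all_eq_true.mp hc.2 _ (hin 1 (by norm_num))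
  rw [htau, hneq hmv1, Bool.false_or] at h
  have h' := List.all_eq_true.mp h _ (hin 3 (by norm_num))
  rw [htau, hneq hmv3, hneq h31, hneq h32, Bool.false_or, Bool.false_or, Bool.false_or,
    List.any_eq_true] at h'
  obtain ⟨l, hl, he⟩ := h'
  rw [Bool.and_eq_true] at he
  refine ⟨l, hl, ?_⟩
  obtain ⟨k, hR⟩ := mCent_exists hl
  have hk1 : (((k : dpGrp0) : M24) : Equiv.Perm GolayPt) (H94.ptN 1) = σ (H94.ptN 1) :=
    H94.idxN_injective (by rw [← hR 1 (by norm_num), Nat.eq_of_beq_eq_true he.1])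
  have hk3 : (((k : dpGrp0) : M24) : Equiv.Perm GolayPt) (H94.ptN 3) = σ (H94.ptN 3) :=
    H94.idxN_injective (by rw [← hR 3 (by norm_num), Nat.eq_of_beq_eq_true he.2])
  have hkc : ∀ z, (((k : dpGrp0) : M24) : Equiv.Perm GolayPt) (τ z) =
      τ ((((k : dpGrp0) : M24) : Equiv.Perm GolayPt) z) := by
    intro z
    rw [hτ]
    exact congrArg (fun w : dpGrp0 => ((w : M24) : Equiv.Perm GolayPt) z)
      (Subgroup.mem_centralizer_singleton_iff.mp k.2)
  have : k = g := by
    refine Subtype.ext (Subtype.ext (Subtype.ext (dod_ext ((k : dpGrp0) : M24).2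
      ((g : dpGrp0) : M24).2 ?_ fun i hi => ?_)))
    · rw [(mem_dpGrp.mp (k : dpGrp0).2).1, (mem_dpGrp.mp (g : dpGrp0).2).1]
    · rw [← hσ]
      interval_cases i
      · rw [(mem_dpGrp.mp (k : dpGrp0).2).2, h0]
      · exact hk1
      · rw [← p1, hkc, hk1, p1, g2]
      · exact hk3
      · rw [← p3, hkc, hk3, p3, g4]
  rwa [← this]

theorem cent0_card : Nat.card cent0 = 48 := by
  have hn : (mCent.map code5).Nodup := (incB_pairwise _ mCent_inc).imp fun h => h.ne
  let f : Fin mCent.length → cent0 := fun i => (mCent_exists (List.getElem_mem i.2)).choose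
  have hspec : ∀ i : Fin mCent.length,
      H94.Reps mCent[i.1] (((f i : dpGrp0) : M24) : Equiv.Perm GolayPt) :=
    fun i => (mCent_exists (List.getElem_mem i.2)).choose_spec
  have hb : Function.Bijective f := by
    constructor
    · intro i j h
      have h1 := hspec i
      have h2 := hspec j
      rw [h] at h1
      have hc : (mCent.map code5)[i.1]'(by simp) = (mCent.map code5)[j.1]'(by simp) := by
        simp only [List.getElem_map, code5]
        rw [h1 0 (by norm_num), h1 1 (by norm_num), h1 2 (by norm_num), h1 3 (by norm_num),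
          h1 4 (by norm_num), h2 0 (by norm_num), h2 1 (by norm_num), h2 2 (by norm_num),
          h2 3 (by norm_num), h2 4 (by norm_num)]
      exact Fin.ext (hn.getElem_inj_iff.mp hc)
    · intro g
      obtain ⟨l, hl, hR⟩ := mCent_complete g
      obtain ⟨n, hn', rfl⟩ := List.getElem_of_mem hl
      exact ⟨⟨n, hn'⟩, Subtype.ext (Subtype.ext (Subtype.ext ((hspec ⟨n, hn'⟩).unique hR)))⟩
  rw [← Nat.card_eq_of_bijective f hb, Nat.card_fin]
  decide +kernel

end H92

end
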