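import Cfsg.Agent.H92.M11Cent
import Cfsg.Agent.H92.QuotGL

/-!
The centraliser of an involution as the general linear group of the plane over three elements.
-/

set_option autoImplicit false

noncomputable section

namespace H92

open Cfsg
open scoped Pointwise

/-- Index of a vector. -/
def vIdx (v : Fin 2 → ZMod 3) : ℕ := (v 0).val + 3 * (v 1).val

/-- Position of a vector. -/
def vPos (v : Fin 2 → ZMod 3) : GolayPt := H94.ptN (vTab.getD (vIdx v) 0)

theorem vTab_ok : (List.range 9).all (fun k => Nat.blt (vTab.getD k 0) 24 &&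
    H94.bitB dod0 (vTab.getD k 0) && (List.range 9).all fun m =>
      Nat.beq k m || !Nat.beq (vTab.getD k 0) (vTab.getD m 0)) = true := by decide +kernel

/-- Linearity of a listed permutation. -/
def linB (l : ℕ) : Bool :=
  (List.range 9).any fun a => (List.range 9).any fun b =>
    (List.range 3).all fun i => (List.range 3).all fun j =>
      Nat.beq (H94.pap l (vTab.getD (i + 3 * j) 0))
        (vTab.getD ((i * (a % 3) + j * (b % 3)) % 3 + 3 * ((i * (a / 3) + j * (b / 3)) % 3)) 0)

theorem mCent_lin : mCent.all linB = true := by decide +kernel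

theorem vIdx_lt (v : Fin 2 → ZMod 3) : vIdx v < 9 := by
  have := (v 0).val_lt
  have := (v 1).val_lt
  unfold vIdx
  omega

theorem vPos_injective : Function.Injective vPos := by
  intro u v h
  have hu := List.all_eq_true.mp vTab_ok _ (List.mem_range.mpr (vIdx_lt u))
  have hv := List.all_eq_true.mp vTab_ok _ (List.mem_range.mpr (vIdx_lt v))
  simp only [Bool.and_eq_true] at hu hv
  have he := H94.ptN_inj (Nat.le_of_ble_eq_true hu.1.1) (Nat.le_of_ble_eq_true hv.1.1) h
  have h2 := List.all_eq_true.mp hu.2 _ (List.mem_range.mpr (vIdx_lt v))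
  rw [he, Nat.beq_refl, Bool.not_true, Bool.or_false] at h2
  have e : vIdx u = vIdx v := Nat.eq_of_beq_eq_true h2
  have := (u 0).val_lt
  have := (v 0).val_lt
  have := (u 1).val_lt
  have := (v 1).val_lt
  unfold vIdx at e
  funext k
  apply ZMod.val_injective 3
  fin_cases k
  · show (u 0).val = (v 0).val; omega
  · show (u 1).val = (v 1).val; omega

theorem vIdx_mulVec : ∀ a < 9, ∀ b < 9, ∀ v : Fin 2 → ZMod 3,
    vIdx (Matrix.mulVec !![(a % 3 : ℕ), (b % 3 : ℕ); (a / 3 : ℕ), (b / 3 : ℕ)] v) =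
      ((v 0).val * (a % 3) + (v 1).val * (b % 3)) % 3 +
        3 * (((v 0).val * (a / 3) + (v 1).val * (b / 3)) % 3) := by
  decide +kernel

theorem exists_mat (g : cent0) : ∃ M : Matrix (Fin 2) (Fin 2) (ZMod 3),
    ∀ v, (((g : dpGrp0) : M24) : Equiv.Perm GolayPt) (vPos v) = vPos (M.mulVec v) := by
  obtain ⟨l, hl, hR⟩ := mCent_complete g
  have h := List.all_eq_true.mp mCent_lin l hl
  simp only [linB, List.any_eq_true, List.mem_range] at h
  obtain ⟨a, ha, b, hb, hab⟩ := h
  refine ⟨!![(a % 3 : ℕ), (b % 3 : ℕ); (a / 3 : ℕ), (b / 3 : ℕ)], fun v => ?_⟩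
  have hk := List.all_eq_true.mp (List.all_eq_true.mp hab _ (List.mem_range.mpr (v 0).val_lt)) _
    (List.mem_range.mpr (v 1).val_lt)
  have hlt := List.all_eq_true.mp vTab_ok _ (List.mem_range.mpr (vIdx_lt v))
  simp only [Bool.and_eq_true] at hlt
  rw [hR.apply, vPos, H94.idxN_ptN (Nat.le_of_ble_eq_true hlt.1.1), vPos, vIdx_mulVec a ha b hb v]
  exact congrArg H94.ptN (Nat.eq_of_beq_eq_true hk)

/-- The matrix of an element. -/
def matOf (g : cent0) : Matrix (Fin 2) (Fin 2) (ZMod 3) := (exists_mat g).choose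

theorem matOf_spec (g : cent0) (v : Fin 2 → ZMod 3) :
    (((g : dpGrp0) : M24) : Equiv.Perm GolayPt) (vPos v) = vPos ((matOf g).mulVec v) :=
  (exists_mat g).choose_spec v

theorem matOf_unique {g : cent0} {M : Matrix (Fin 2) (Fin 2) (ZMod 3)}
    (h : ∀ v, (((g : dpGrp0) : M24) : Equiv.Perm GolayPt) (vPos v) = vPos (M.mulVec v)) :
    matOf g = M :=
  Matrix.toLin'.injective (LinearMap.ext fun v => by
    simpa [Matrix.toLin'_apply] using vPos_injective ((matOf_spec g v).symm.trans (h v)))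

/-- The representation by matrices. -/
def matHom : cent0 →* Matrix (Fin 2) (Fin 2) (ZMod 3) where
  toFun := matOf
  map_one' := matOf_unique fun v => by
    rw [Matrix.one_mulVec]; rfl
  map_mul' g h := matOf_unique fun v => by
    show (((g : dpGrp0) : M24) : Equiv.Perm GolayPt)
      ((((h : dpGrp0) : M24) : Equiv.Perm GolayPt) (vPos v)) = _
    rw [matOf_spec h, matOf_spec g, Matrix.mulVec_mulVec]

theorem vTab_base : ∀ i < 5, ∃ k < 9, vTab.getD k 0 = i := by decide +kernel

theorem cent0_iso : Nonempty (cent0 ≃* GL (Fin 2) (ZMod 3)) := by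
  have hinj : Function.Injective matHom.toHomUnits := by
    intro g h he
    have he' : matOf g = matOf h := congrArg Units.val he
    refine Subtype.ext (Subtype.ext (Subtype.ext (dod_ext ((g : dpGrp0) : M24).2
      ((h : dpGrp0) : M24).2 ?_ fun i hi => ?_)))
    · rw [(mem_dpGrp.mp (g : dpGrp0).2).1, (mem_dpGrp.mp (h : dpGrp0).2).1]
    · obtain ⟨k, hk, rfl⟩ := vTab_base i hi
      have hv : vPos ![(k % 3 : ℕ), (k / 3 : ℕ)] = H94.ptN (vTab.getD k 0) := by
        revert k; decide +kernel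
      rw [← hv, matOf_spec g, matOf_spec h, he']
  haveI : Fact (Nat.Prime 3) := ⟨by norm_num⟩
  exact ⟨MulEquiv.ofBijective _
    (hinj.bijective_of_nat_card_le (by rw [cent0_card, card_GL23]))⟩

theorem inv_centraliser {d : Finset GolayPt} (hd : d ∈ dodecads) {p : GolayPt} (hp : p ∈ d)
    (x : dpGrp d p) (hx : orderOf x = 2) :
    Nonempty (↥(Subgroup.centralizer ({x} : Set (dpGrp d p))) ≃* GL (Fin 2) (ZMod 3)) := by
  obtain ⟨g, hgd, hgp⟩ := dp_normal hd hp
  let e : dpGrp d p ≃* dpGrp0 := conjSubEquiv g fun k => by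
    simp only [dpGrp, Subgroup.mem_inf]
    rw [conj_mem_stab (x := d) g k hgd, conj_mem_stab (x := p) g k hgp]
  obtain ⟨c, hc⟩ := inv_conj (e x) (by rw [MulEquiv.orderOf_eq, hx])
  obtain ⟨i⟩ := cent0_iso
  exact ⟨((centEquiv e x (e x) rfl).trans (centEquiv (MulAut.conj c) (e x) inv0 (by
    rw [MulAut.conj_apply, hc, mul_inv_cancel_right]))).trans i⟩

end H92

end
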