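import Cfsg.Agent.H92.M11Point

/-!
The stabiliser of a pair in the twelve-point action of the group of order 7920.
-/

set_option autoImplicit false

noncomputable section

namespace H92

open Cfsg
open scoped Pointwise

/-- The base group fixing an outside pair. -/
abbrev mpGrp0 : Subgroup M24 :=
  dpGrp0 ⊓ MulAction.stabilizer M24 ({H94.ptN 5, H94.ptN 6} : Finset GolayPt)

theorem six_out : H94.ptN 6 ∉ H90.setOf' dod0 := by
  rw [mem_setOf'_bitB (by norm_num)]; decide +kernel

theorem mPoint_six : (List.range 24).all (fun i => H94.bitB dod0 i || Nat.beq i 5 ||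
    mPoint.any fun l => Nat.beq (H94.pap l 6) i) = true := by decide +kernel

theorem dp0_trans_pair {x y : GolayPt} (hx : x ∉ H90.setOf' dod0) (hy : y ∉ H90.setOf' dod0)
    (hxy : x ≠ y) : ∃ k : dpGrp0, ((k : M24) : Equiv.Perm GolayPt) (H94.ptN 5) = x ∧
      ((k : M24) : Equiv.Perm GolayPt) (H94.ptN 6) = y := by
  obtain ⟨k, hk⟩ := dp0_trans_out five_out hx
  obtain ⟨σ, hσ⟩ : ∃ σ, σ = ((k : M24) : Equiv.Perm GolayPt) := ⟨_, rfl⟩
  rw [← hσ] at hk
  have hzout : σ⁻¹ y ∉ H90.setOf' dod0 := by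
    intro h
    apply hy
    have := (mem_smul_apply σ _ _).mpr h
    rwa [hσ, (mem_dpGrp.mp k.2).1, ← hσ, Equiv.Perm.inv_def, Equiv.apply_symm_apply] at this
  have hz5 : σ⁻¹ y ≠ H94.ptN 5 := fun h => hxy (by
    rw [← hk, ← h, Equiv.Perm.inv_def, Equiv.apply_symm_apply])
  have hb : H94.bitB dod0 (H94.idxN (σ⁻¹ y)) = false := by
    rw [Bool.eq_false_iff, H94.bitB_eq]
    exact fun h => hzout (H94.mem_setOf'_idxN.mpr h)
  have hne : Nat.beq (H94.idxN (σ⁻¹ y)) 5 = false := by
    rw [Bool.eq_false_iff]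
    exact fun h => hz5 (H94.idxN_injective (by rw [Nat.eq_of_beq_eq_true h, H94.idxN_ptN (by norm_num)]))
  have h := List.all_eq_true.mp mPoint_six _ (List.mem_range.mpr (H94.idxN_lt (σ⁻¹ y)))
  rw [hb, hne, Bool.false_or, Bool.false_or, List.any_eq_true] at h
  obtain ⟨l, hl, he⟩ := h
  obtain ⟨g, hR⟩ := mPoint_exists hl
  refine ⟨k * ⟨g.1, g.2.1⟩, ?_, ?_⟩
  · show ((k : M24) : Equiv.Perm GolayPt) (((g : M24) : Equiv.Perm GolayPt) (H94.ptN 5)) = x
    rw [show ((g : M24) : Equiv.Perm GolayPt) (H94.ptN 5) = H94.ptN 5 from g.2.2, ← hσ, hk]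
  · show ((k : M24) : Equiv.Perm GolayPt) (((g : M24) : Equiv.Perm GolayPt) (H94.ptN 6)) = y
    rw [show ((g : M24) : Equiv.Perm GolayPt) (H94.ptN 6) = σ⁻¹ y from H94.idxN_injective (by
      rw [← hR 6 (by norm_num), Nat.eq_of_beq_eq_true he]), ← hσ, Equiv.Perm.inv_def,
      Equiv.apply_symm_apply]

theorem smul_pair (g : Equiv.Perm GolayPt) (x y : GolayPt) :
    g • ({x, y} : Finset GolayPt) = {g x, g y} := by
  simp [Finset.smul_finset_insert]

theorem mpGrp0_card : Nat.card mpGrp0 = 120 := by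
  classical
  obtain ⟨P, hP⟩ : ∃ P : Finset GolayPt, P = {H94.ptN 5, H94.ptN 6} := ⟨_, rfl⟩
  have h56 : H94.ptN 5 ≠ H94.ptN 6 := fun h => by
    have := H94.ptN_inj (by norm_num) (by norm_num) h; omega
  have horb : MulAction.orbit dpGrp0 P =
      ↑(Finset.powersetCard 2 (H90.setOf' dod0)ᶜ) := by
    ext R
    rw [Finset.mem_coe, Finset.mem_powersetCard]
    constructor
    · rintro ⟨k, rfl⟩
      show ((k : M24) : Equiv.Perm GolayPt) • P ⊆ (H90.setOf' dod0)ᶜ ∧ _
      refine ⟨fun z hz => ?_, (Finset.card_smul_finset _ _).trans (hP ▸ Finset.card_pair h56)⟩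
      rw [hP, smul_pair] at hz
      rw [Finset.mem_compl]
      intro hzd
      have hd := (mem_dpGrp.mp k.2).1
      simp only [Finset.mem_insert, Finset.mem_singleton] at hz
      rcases hz with rfl | rfl
      · exact five_out ((mem_smul_apply _ _ _).mp (hd.symm ▸ hzd))
      · exact six_out ((mem_smul_apply _ _ _).mp (hd.symm ▸ hzd))
    · rintro ⟨hsub, hc⟩
      obtain ⟨x, y, hxy, rfl⟩ := Finset.card_eq_two.mp hc
      simp only [Finset.insert_subset_iff, Finset.singleton_subset_iff, Finset.mem_compl] at hsub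
      obtain ⟨k, h1, h2⟩ := dp0_trans_pair hsub.1 hsub.2 hxy
      exact ⟨k, show ((k : M24) : Equiv.Perm GolayPt) • P = _ by rw [hP, smul_pair, h1, h2]⟩
  have h := card_inf_stab dpGrp0 P
  rw [dpGrp0_card, horb, Nat.card_coe_set_eq, Set.ncard_coe_finset, Finset.card_powersetCard,
    Finset.card_compl, dod0_mem.2, show Fintype.card GolayPt = 24 from rfl,
    show Nat.choose (24 - 12) 2 = 66 by decide] at h
  rw [mpGrp0, ← hP]
  omega

theorem mPair_ok : mPair.all (fun l => dp0B l &&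
    ((Nat.beq (H94.pap l 5) 5 && Nat.beq (H94.pap l 6) 6) ||
     (Nat.beq (H94.pap l 5) 6 && Nat.beq (H94.pap l 6) 5))) = true := by decide +kernel

theorem mPair_inc : incB (mPair.map code5) = true := by decide +kernel

theorem mPair_exists {l : ℕ} (hl : l ∈ mPair) :
    ∃ g : mpGrp0, H94.Reps l ((g : M24) : Equiv.Perm GolayPt) := by
  have h := List.all_eq_true.mp mPair_ok l hl
  rw [Bool.and_eq_true, Bool.or_eq_true, Bool.and_eq_true, Bool.and_eq_true] at h
  obtain ⟨g, hR⟩ := dp0B_spec h.1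
  refine ⟨⟨g.1, g.2, ?_⟩, hR⟩
  show ((g : M24) : Equiv.Perm GolayPt) • ({H94.ptN 5, H94.ptN 6} : Finset GolayPt) = _
  have key : ∀ i j : ℕ, i < 24 → j < 24 → Nat.beq (H94.pap l i) j = true →
      ((g : M24) : Equiv.Perm GolayPt) (H94.ptN i) = H94.ptN j := fun i j hi hj he =>
    H94.idxN_injective (by rw [← hR i hi, Nat.eq_of_beq_eq_true he, H94.idxN_ptN hj])
  rw [smul_pair]
  rcases h.2 with ⟨a, b⟩ | ⟨a, b⟩ <;>
    rw [key _ _ (by norm_num) (by norm_num) a, key _ _ (by norm_num) (by norm_num) b]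
  exact Finset.pair_comm _ _

theorem mPair_lists : Lists mpGrp0 mPair :=
  lists_of_card (fun _ hl => mPair_exists hl) mPair_inc (by rw [mpGrp0_card]; decide +kernel)

/-- An orbit of five positions. -/
def five0 : ℕ := 2162714

theorem mPair_five : mPair.all (fun l => Nat.beq (H94.pmask l five0) five0 &&
    (!((List.range 24).all fun i => !H94.bitB five0 i || Nat.beq (H94.pap l i) i) ||
      H94.peq l H94.pone)) = true := by decide +kernel

/-- The five points. -/
abbrev Five : Type := {z : GolayPt // z ∈ H90.setOf' five0}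

theorem mp_five (g : mpGrp0) (z : GolayPt) :
    ((g : M24) : Equiv.Perm GolayPt) z ∈ H90.setOf' five0 ↔ z ∈ H90.setOf' five0 := by
  obtain ⟨l, hl, hR⟩ := mPair_lists g
  have h := List.all_eq_true.mp mPair_five l hl
  rw [Bool.and_eq_true] at h
  have hf : ((g : M24) : Equiv.Perm GolayPt) • H90.setOf' five0 = H90.setOf' five0 := by
    rw [← hR.setOf', Nat.eq_of_beq_eq_true h.1]
  conv_lhs => rw [← hf]
  exact mem_smul_apply _ _ _

/-- The action on five points. -/
def fiveHom : mpGrp0 →* Equiv.Perm Five where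
  toFun g := ((g : M24) : Equiv.Perm GolayPt).subtypePerm (mp_five g)
  map_one' := Equiv.ext fun _ => rfl
  map_mul' _ _ := Equiv.ext fun _ => rfl

theorem mpGrp0_iso : Nonempty (mpGrp0 ≃* Equiv.Perm (Fin 5)) := by
  have hinj : Function.Injective fiveHom := by
    rw [injective_iff_map_eq_one]
    intro g hg
    obtain ⟨l, hl, hR⟩ := mPair_lists g
    have h := List.all_eq_true.mp mPair_five l hl
    rw [Bool.and_eq_true, Bool.or_eq_true] at h
    refine ext_of_peq hR (y := 1) (by simpa using H94.reps_one) (h.2.resolve_left ?_)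
    rw [Bool.not_eq_true, Bool.not_eq_false', List.all_eq_true]
    intro i hi
    have hi' := List.mem_range.mp hi
    rw [Bool.or_eq_true, Bool.not_eq_true']
    by_cases hb : H94.bitB five0 i = true
    · right
      have hz : ((g : M24) : Equiv.Perm GolayPt) (H94.ptN i) = H94.ptN i :=
        congrArg Subtype.val (DFunLike.congr_fun hg (⟨H94.ptN i, (mem_setOf'_bitB hi').mpr hb⟩ : Five))
      rw [hR i hi', hz, H94.idxN_ptN hi']
      exact Nat.beq_refl _
    · exact Or.inl (by simpa using hb)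
  have h5 : Fintype.card Five = 5 := by
    rw [Fintype.card_coe, H90.card_setOf']; decide +kernel
  let e := Fintype.equivFinOfCardEq h5
  have hb : Function.Bijective fiveHom := hinj.bijective_of_nat_card_le (by
    rw [mpGrp0_card, Nat.card_congr (Equiv.permCongr e), Nat.card_eq_fintype_card, Fintype.card_perm,
      Fintype.card_fin]
    decide)
  exact ⟨(MulEquiv.ofBijective _ hb).trans (e.permCongrHom)⟩

theorem mp_iso {d : Finset GolayPt} (hd : d ∈ dodecads) {p q q' : GolayPt} (hp : p ∈ d) (hq : q ∉ d)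
    (hq' : q' ∉ d) (hne : q ≠ q') :
    Nonempty (↥(dpGrp d p ⊓ MulAction.stabilizer M24 ({q, q'} : Finset GolayPt)) ≃*
      Equiv.Perm (Fin 5)) := by
  obtain ⟨g, hgd, hgp⟩ := dp_normal hd hp
  obtain ⟨k, hk, hk'⟩ := dp0_trans_pair (x := (g : Equiv.Perm GolayPt) q)
    (y := (g : Equiv.Perm GolayPt) q') (by rw [← hgd, mem_smul_apply]; exact hq)
    (by rw [← hgd, mem_smul_apply]; exact hq') (fun h => hne ((g : Equiv.Perm GolayPt).injective h))
  obtain ⟨hkd, hkp⟩ := mem_dpGrp.mp (inv_mem k.2)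
  obtain ⟨e⟩ := mpGrp0_iso
  refine ⟨(conjSubEquiv ((k : M24)⁻¹ * g) fun x => ?_).trans e⟩
  simp only [Subgroup.mem_inf]
  rw [conj_mem_stab (x := d) ((k : M24)⁻¹ * g) x (by
      show (((k : M24) : Equiv.Perm GolayPt)⁻¹ * (g : Equiv.Perm GolayPt)) • d = _
      rw [mul_smul, hgd]; exact hkd),
    conj_mem_stab (x := p) ((k : M24)⁻¹ * g) x (by
      show (((k : M24) : Equiv.Perm GolayPt)⁻¹ * (g : Equiv.Perm GolayPt)) p = _
      rw [Equiv.Perm.mul_apply, hgp]; exact hkp),
    conj_mem_stab (x := ({q, q'} : Finset GolayPt)) ((k : M24)⁻¹ * g) x (by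
      show (((k : M24) : Equiv.Perm GolayPt)⁻¹ * (g : Equiv.Perm GolayPt)) • ({q, q'} : Finset GolayPt) = _
      rw [mul_smul, smul_pair (g : Equiv.Perm GolayPt), ← hk, ← hk',
        ← smul_pair ((k : M24) : Equiv.Perm GolayPt), inv_smul_smul])]

end H92

end
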