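import Mathlib

/-!
Transitive groups of prime degree generated by elements of that order.
-/

set_option autoImplicit false

namespace H92

/-- A faithful transitive group of prime degree `p`, of order not divisible by `p ^ 2` and
generated by elements of order `p`, is simple. -/
theorem simple_of_prime_degree {G : Type*} [Group G] [Finite G] [Nontrivial G] {X : Type*} [Finite X]
    (φ : G →* Equiv.Perm X) (hφ : Function.Injective φ) {p : ℕ} [hp : Fact p.Prime]
    (hX : Nat.card X = p) (htr : ∀ x y : X, ∃ g, φ g x = y) (hp2 : ¬ p ^ 2 ∣ Nat.card G)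
    (S : Set G) (hS : Subgroup.closure S = ⊤) (hord : ∀ s ∈ S, orderOf s = p) :
    IsSimpleGroup G := by
  letI : MulAction G X := MulAction.compHom X φ
  haveI : MulAction.IsPretransitive G X := ⟨htr⟩
  refine ⟨fun N hN => ?_⟩
  by_cases hbot : N = ⊥
  · exact Or.inl hbot
  right
  obtain ⟨n, hn, hne⟩ := (Subgroup.bot_or_exists_ne_one N).resolve_left hbot
  obtain ⟨x, hx⟩ : ∃ x : X, φ n x ≠ x := by
    by_contra h
    push_neg at h
    exact hne (hφ (by rw [map_one]; exact Equiv.ext h))
  have hB : MulAction.IsBlock G (MulAction.orbit N x) := MulAction.IsBlock.orbit_of_normal x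
  have hd : (MulAction.orbit N x).ncard ∣ p := hX ▸ hB.ncard_dvd_card ⟨x, MulAction.mem_orbit_self x⟩
  have h2 : 1 < (MulAction.orbit N x).ncard :=
    (Set.one_lt_ncard (Set.toFinite _)).mpr ⟨x, MulAction.mem_orbit_self x, φ n x, ⟨⟨n, hn⟩, rfl⟩, hx.symm⟩
  have horb : (MulAction.orbit N x).ncard = p :=
    (hp.out.eq_one_or_self_of_dvd _ hd).resolve_left (by omega)
  have hpN : p ∣ Nat.card N := by
    rw [← horb, ← Nat.card_coe_set_eq, Nat.card_congr (MulAction.orbitEquivQuotientStabilizer N x)]
    exact Subgroup.card_quotient_dvd_card _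
  rw [eq_top_iff, ← hS, Subgroup.closure_le]
  intro s hs
  by_contra hsN
  apply hp2
  have hpow : (QuotientGroup.mk s : G ⧸ N) ^ p = 1 := by
    rw [← QuotientGroup.mk_pow, ← hord s hs, pow_orderOf_eq_one]; rfl
  have hne1 : (QuotientGroup.mk s : G ⧸ N) ≠ 1 := fun h => hsN ((QuotientGroup.eq_one_iff s).mp h)
  have hq : p ∣ Nat.card (G ⧸ N) := orderOf_eq_prime hpow hne1 ▸ orderOf_dvd_natCard _
  rw [Subgroup.card_eq_card_quotient_mul_card_subgroup N, pow_two]
  exact Nat.mul_dvd_mul hq hpN

end H92
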