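import Cfsg.Agent.H92.M11Base
import Cfsg.Agent.H92.M11SubData
import Cfsg.Agent.H92.PrimeDegreeSimple
import Cfsg.Agent.H65.PSLSmall

/-!
A point stabiliser in the twelve-point action of the group of order 7920.
-/

set_option autoImplicit false

noncomputable section

namespace H92

open Cfsg
open scoped Pointwise

/-- The base group fixing an outside position. -/
abbrev mqGrp0 : Subgroup M24 := dpGrp0 ⊓ MulAction.stabilizer M24 (H94.ptN 5)

theorem five_out : H94.ptN 5 ∉ H90.setOf' dod0 := by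
  rw [mem_setOf'_bitB (by norm_num)]; decide +kernel

theorem dp0_orbit_out {x : GolayPt} (hx : x ∉ H90.setOf' dod0) :
    MulAction.orbit dpGrp0 x = {y | y ∉ H90.setOf' dod0} := by
  ext y
  constructor
  · rintro ⟨k, rfl⟩ h
    apply hx
    rw [← mem_smul_apply ((k : M24) : Equiv.Perm GolayPt), (mem_dpGrp.mp k.2).1]
    exact h
  · intro hy
    obtain ⟨k, hk⟩ := dp0_trans_out hx hy
    exact ⟨k, hk⟩

theorem mqGrp0_card : Nat.card mqGrp0 = 660 := by
  have h := card_inf_stab dpGrp0 (H94.ptN 5)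
  rw [dp0_orbit_out five_out, dpGrp0_card] at h
  have h12 : Nat.card ({y | y ∉ H90.setOf' dod0} : Set GolayPt) = 12 := by
    rw [Nat.card_coe_set_eq, show {y | y ∉ H90.setOf' dod0} = ((H90.setOf' dod0 : Set GolayPt))ᶜ from rfl,
      Set.ncard_compl, Set.ncard_coe_finset, dod0_mem.2, Nat.card_eq_fintype_card]
    rfl
  rw [h12] at h
  have : Nat.card mqGrp0 * 12 = 7920 := by rw [mul_comm]; exact h
  omega

theorem mPoint_ok : mPoint.all (fun l => dp0B l && Nat.beq (H94.pap l 5) 5) = true := by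
  decide +kernel

theorem mPoint_inc : incB (mPoint.map code5) = true := by decide +kernel

theorem mPoint_exists {l : ℕ} (hl : l ∈ mPoint) :
    ∃ g : mqGrp0, H94.Reps l ((g : M24) : Equiv.Perm GolayPt) := by
  have h := List.all_eq_true.mp mPoint_ok l hl
  rw [Bool.and_eq_true] at h
  obtain ⟨g, hR⟩ := dp0B_spec h.1
  refine ⟨⟨g.1, g.2, ?_⟩, hR⟩
  show ((g : M24) : Equiv.Perm GolayPt) (H94.ptN 5) = H94.ptN 5
  apply H94.idxN_injective
  rw [← hR 5 (by norm_num), Nat.eq_of_beq_eq_true h.2, H94.idxN_ptN (by norm_num)]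

theorem mPoint_lists : Lists mqGrp0 mPoint :=
  lists_of_card (fun _ hl => mPoint_exists hl) mPoint_inc (by rw [mqGrp0_card]; decide +kernel)

theorem mWords_ok : (mPoint.all mWordVals.elem && mPoint.elem (mGens.getD 0 0) &&
    mPoint.elem (mGens.getD 1 0) && Nat.beq mWordVals.length (mWords.length + 1) &&
    H94.peq (mWordVals.getD 0 0) H94.pone &&
    (List.range mWords.length).all fun k =>
      Nat.blt (mWords.getD k (0, 0)).1 (k + 1) && Nat.blt (mWords.getD k (0, 0)).2 2 &&
        H94.peq (mWordVals.getD (k + 1) 0)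
          (H94.pmul (mGens.getD (mWords.getD k (0, 0)).2 0) (mWordVals.getD (mWords.getD k (0, 0)).1 0))) =
    true := by decide +kernel

theorem mGens_order : ([0, 1].all fun j => H94.peq (ppow (mGens.getD j 0) 11) H94.pone &&
    !H94.peq (mGens.getD j 0) H94.pone) = true := by decide +kernel

theorem mqGrp0_gens : ∃ a b : mqGrp0, orderOf a = 11 ∧ orderOf b = 11 ∧
    Subgroup.closure ({a, b} : Set mqGrp0) = ⊤ := by
  have h := mWords_ok
  simp only [Bool.and_eq_true, List.elem_eq_mem, decide_eq_true_iff] at h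
  obtain ⟨⟨⟨⟨⟨hall, ha⟩, hb⟩, hlen⟩, h0⟩, hk⟩ := h
  obtain ⟨a, hRa⟩ := mPoint_exists ha
  obtain ⟨b, hRb⟩ := mPoint_exists hb
  have hord : ∀ (x : mqGrp0) (P : ℕ), H94.Reps P ((x : M24) : Equiv.Perm GolayPt) →
      H94.peq (ppow P 11) H94.pone = true → H94.peq P H94.pone = false → orderOf x = 11 := by
    intro x P hx h1 h2
    haveI : Fact (Nat.Prime 11) := ⟨by norm_num⟩
    refine orderOf_eq_prime (ext_of_peq (x := x ^ 11) (y := 1) (by simpa using reps_pow hx 11)
      (by simpa using H94.reps_one) h1) fun he => ?_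
    subst he
    rw [(hx.peq_of_eq (by simpa using H94.reps_one))] at h2
    exact Bool.noConfusion h2
  have ho := mGens_order
  simp only [List.all_cons, List.all_nil, Bool.and_true, Bool.and_eq_true, Bool.not_eq_true'] at ho
  refine ⟨a, b, hord a _ hRa ho.1.1 ho.1.2, hord b _ hRb ho.2.1 ho.2.2, ?_⟩
  have key : ∀ k, k < mWordVals.length → ∃ g ∈ Subgroup.closure ({a, b} : Set mqGrp0),
      ∃ P, H94.Reps P ((g : M24) : Equiv.Perm GolayPt) ∧ H94.peq (mWordVals.getD k 0) P = true := by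
    intro k
    induction k using Nat.strong_induction_on with
    | _ k ih =>
      intro hk'
      rcases k with _ | k
      · exact ⟨1, one_mem _, H94.pone, by simpa using H94.reps_one, h0⟩
      · rw [Nat.eq_of_beq_eq_true hlen] at hk'
        have hs := List.all_eq_true.mp hk k (List.mem_range.mpr (by omega))
        simp only [Bool.and_eq_true] at hs
        obtain ⟨⟨hi, hj⟩, he⟩ := hs
        have hi' : (mWords.getD k (0, 0)).1 < k + 1 := Nat.le_of_ble_eq_true hi
        have hj' : (mWords.getD k (0, 0)).2 < 2 := Nat.le_of_ble_eq_true hj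
        obtain ⟨g, hg, P, hP, hPe⟩ := ih _ hi' (by rw [Nat.eq_of_beq_eq_true hlen]; omega)
        generalize (mWords.getD k (0, 0)).2 = j at hj' he
        generalize (mWords.getD k (0, 0)).1 = i at he hPe
        obtain ⟨c, hc, hRc⟩ : ∃ c ∈ ({a, b} : Set mqGrp0),
            H94.Reps (mGens.getD j 0) ((c : M24) : Equiv.Perm GolayPt) := by
          interval_cases j
          exacts [⟨a, Or.inl rfl, hRa⟩, ⟨b, Or.inr rfl, hRb⟩]
        refine ⟨c * g, mul_mem (Subgroup.subset_closure hc) hg,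
          H94.pmul (mGens.getD j 0) (mWordVals.getD i 0), ?_, he⟩
        have hR' : H94.Reps (mWordVals.getD i 0) ((g : M24) : Equiv.Perm GolayPt) := fun n hn => by
          rw [Nat.eq_of_beq_eq_true (List.all_eq_true.mp hPe n (List.mem_range.mpr hn))]; exact hP n hn
        simpa using hRc.mul hR'
  rw [eq_top_iff]
  intro x _
  obtain ⟨l, hl, hR⟩ := mPoint_lists x
  have hl' : l ∈ mWordVals := by simpa using List.all_eq_true.mp hall l hl
  obtain ⟨k, hk', rfl⟩ := List.getElem_of_mem hl'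
  obtain ⟨g, hg, P, hP, hPe⟩ := key k hk'
  rw [List.getD_eq_getElem _ _ hk'] at hPe
  rw [ext_of_peq hR hP hPe]
  exact hg

/-- The eleven positions of the base dodecad other than the first. -/
abbrev Eleven : Type := {z : GolayPt // z ∈ H90.setOf' dod0 ∧ z ≠ H94.ptN 0}

theorem eleven_card : Nat.card Eleven = 11 := by
  classical
  rw [Nat.card_eq_fintype_card, Fintype.card_subtype,
    show (Finset.univ.filter fun z : GolayPt => z ∈ H90.setOf' dod0 ∧ z ≠ H94.ptN 0) =
      (H90.setOf' dod0).erase (H94.ptN 0) by ext z; simp [and_comm],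
    Finset.card_erase_of_mem (base_mem_dod0 (by norm_num)), dod0_mem.2]

theorem mq_eleven (g : mqGrp0) (z : GolayPt) :
    (((g : M24) : Equiv.Perm GolayPt) z ∈ H90.setOf' dod0 ∧ ((g : M24) : Equiv.Perm GolayPt) z ≠ H94.ptN 0) ↔
      (z ∈ H90.setOf' dod0 ∧ z ≠ H94.ptN 0) := by
  obtain ⟨hd, hp⟩ := mem_dpGrp.mp g.2.1
  refine and_congr ?_ (not_congr ⟨fun h => ?_, fun h => by rw [h, hp]⟩)
  · conv_lhs => rw [← hd]
    exact mem_smul_apply _ _ _
  · exact ((g : M24) : Equiv.Perm GolayPt).injective (h.trans hp.symm)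

/-- The action on eleven points. -/
def elevenHom : mqGrp0 →* Equiv.Perm Eleven where
  toFun g := ((g : M24) : Equiv.Perm GolayPt).subtypePerm (mq_eleven g)
  map_one' := Equiv.ext fun _ => rfl
  map_mul' _ _ := Equiv.ext fun _ => rfl

theorem mPoint_eleven : dodPos.all (fun i => Nat.beq i 0 ||
    mPoint.any fun l => Nat.beq (H94.pap l 1) i) = true := by decide +kernel

theorem mqGrp0_iso : Nonempty (mqGrp0 ≃* Matrix.ProjectiveSpecialLinearGroup (Fin 2) (ZMod 11)) := by
  haveI : Fact (Nat.Prime 11) := ⟨by norm_num⟩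
  haveI : Nontrivial mqGrp0 :=
    Finite.one_lt_card_iff_nontrivial.mp (by rw [mqGrp0_card]; norm_num)
  obtain ⟨a, b, ha, hb, hgen⟩ := mqGrp0_gens
  have h01 : H94.ptN 1 ∈ H90.setOf' dod0 ∧ H94.ptN 1 ≠ H94.ptN 0 :=
    ⟨base_mem_dod0 (by norm_num), fun h => by have := H94.ptN_inj (by norm_num) (by norm_num) h; omega⟩
  have hinj : Function.Injective elevenHom := by
    intro g h he
    have hpt : ∀ z, z ∈ H90.setOf' dod0 → z ≠ H94.ptN 0 →
        ((g : M24) : Equiv.Perm GolayPt) z = ((h : M24) : Equiv.Perm GolayPt) z := fun z h1 h2 =>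
      congrArg Subtype.val (DFunLike.congr_fun he (⟨z, h1, h2⟩ : Eleven))
    refine Subtype.ext (Subtype.ext (dod_ext (g : M24).2 (h : M24).2 ?_ fun i hi => ?_))
    · rw [(mem_dpGrp.mp g.2.1).1, (mem_dpGrp.mp h.2.1).1]
    · rcases Nat.eq_zero_or_pos i with rfl | h0
      · rw [(mem_dpGrp.mp g.2.1).2, (mem_dpGrp.mp h.2.1).2]
      · exact hpt _ (base_mem_dod0 hi) fun he => by
          have := H94.ptN_inj (by omega) (by norm_num) he; omega
  have hone : ∀ z : Eleven, ∃ g, elevenHom g ⟨H94.ptN 1, h01⟩ = z := by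
    rintro ⟨z, hz, hz0⟩
    have h := List.all_eq_true.mp mPoint_eleven _ (mem_dodPos hz)
    rw [Bool.or_eq_true, List.any_eq_true] at h
    rcases h with h | ⟨l, hl, he⟩
    · exact absurd (by rw [← H94.ptN_idxN z, Nat.eq_of_beq_eq_true h]) hz0
    · obtain ⟨g, hR⟩ := mPoint_exists hl
      refine ⟨g, Subtype.ext (H94.idxN_injective ?_)⟩
      show H94.idxN (((g : M24) : Equiv.Perm GolayPt) (H94.ptN 1)) = _
      rw [← hR 1 (by norm_num), Nat.eq_of_beq_eq_true he]
  haveI : IsSimpleGroup mqGrp0 := by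
    refine simple_of_prime_degree elevenHom hinj eleven_card (fun x y => ?_) ?_ {a, b} hgen ?_
    · obtain ⟨g, hg⟩ := hone x
      obtain ⟨h, hh⟩ := hone y
      refine ⟨h * g⁻¹, ?_⟩
      rw [map_mul, map_inv, Equiv.Perm.mul_apply, ← hg, Equiv.Perm.inv_def, Equiv.symm_apply_apply, hh]
    · rw [mqGrp0_card]; norm_num
    · rintro s (rfl | rfl) <;> assumption
  exact H65.psl_two_eleven_of_card mqGrp0_card (ZMod.card 11)

theorem mq_iso {d : Finset GolayPt} (hd : d ∈ dodecads) {p q : GolayPt} (hp : p ∈ d) (hq : q ∉ d) :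
    Nonempty (↥(dpGrp d p ⊓ MulAction.stabilizer M24 q) ≃*
      Matrix.ProjectiveSpecialLinearGroup (Fin 2) (ZMod 11)) := by
  obtain ⟨g, hgd, hgp⟩ := dp_normal hd hp
  have hq' : (g : Equiv.Perm GolayPt) q ∉ H90.setOf' dod0 := by
    rw [← hgd, mem_smul_apply]; exact hq
  obtain ⟨k, hk⟩ := dp0_trans_out hq' five_out
  obtain ⟨hkd, hkp⟩ := mem_dpGrp.mp k.2
  obtain ⟨e⟩ := mqGrp0_iso
  refine ⟨(conjSubEquiv ((k : M24) * g) fun x => ?_).trans e⟩
  simp only [Subgroup.mem_inf]
  rw [conj_mem_stab (x := d) ((k : M24) * g) x (by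
      show (((k : M24) : Equiv.Perm GolayPt) * (g : Equiv.Perm GolayPt)) • d = _
      rw [mul_smul, hgd, hkd]),
    conj_mem_stab (x := p) ((k : M24) * g) x (by
      show (((k : M24) : Equiv.Perm GolayPt) * (g : Equiv.Perm GolayPt)) p = _
      rw [Equiv.Perm.mul_apply, hgp, hkp]),
    conj_mem_stab (x := q) ((k : M24) * g) x (by
      show (((k : M24) : Equiv.Perm GolayPt) * (g : Equiv.Perm GolayPt)) q = _
      rw [Equiv.Perm.mul_apply, hk])]

end H92

end
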