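import Cfsg.Agent.H94.Perm

/-! Certificate data: an element of order seven in a point stabiliser. -/

set_option autoImplicit false

namespace H92

/-- The element of order seven. -/
def sevenElt : ℕ := 46046906093668673214956695412450688

/-- Its two fixed positions other than the first. -/
def sevenFix : List ℕ := [14, 19]

/-- Its orbits with the octads through them. -/
def sevenOrbs : List (ℕ × ℕ) := [(14716938, 14716939), (10980, 535268), (1508624, 1525008)]

end H92
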