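import Cfsg.Agent.H92.TwoPoint
import Cfsg.Agent.H92.M23IndexData
import Cfsg.Agent.H92.OctadBase
import Cfsg.Agent.H92.MaximalOctad
import Cfsg.Agent.H90.Orbits

/-!
Subgroups of index 253 of a point stabiliser.
-/

set_option autoImplicit false

noncomputable section

namespace H92

open Cfsg
open scoped Pointwise

/-- The orbit of position `i` reaches `j` under `sevenElt`. -/
def reachB (i j : ℕ) : Bool :=
  (List.range 7).any fun k => Nat.beq (H94.pap (ppow sevenElt k) i) j

/-- The first position of each orbit of `sevenElt` off the first position. -/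
def sevenReps : List ℕ := sevenFix ++ sevenOrbs.map fun e => Nat.log2 e.1

/-- Masks of the unions of orbits off the first position. -/
def sevenCands : List ℕ :=
  (List.range 32).map fun s =>
    ((List.range 5).map fun t => if H94.bitB s t then
      (if Nat.blt t 2 then 1 <<< sevenFix.getD t 0 else (sevenOrbs.getD (t - 2) (0, 0)).1) else 0).sum

/-- What is wanted of a union of orbits containing `i` and avoiding `j`, unless it is one of two
exceptional sets. -/
def candOK (c : ℕ) : Bool :=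
  !Nat.beq (40320 % H90.popc c) 0 ||
    sevenOrbs.any fun e =>
      (Nat.ble (H90.popc c) 9 && Nat.ble 7 (H90.popc (e.2 &&& c))) ||
      (Nat.ble (H90.popc (16777214 ^^^ c)) 9 && Nat.ble 7 (H90.popc (e.2 &&& (16777214 ^^^ c))))

theorem seven_facts : (H94.memB sevenElt && Nat.beq (H94.pap sevenElt 0) 0 &&
    !H94.peq sevenElt H94.pone && H94.peq (ppow sevenElt 7) H94.pone &&
    Nat.beq sevenFix.length 2 &&
    sevenOrbs.all (fun e => H90.isCode e.2 && Nat.blt e.2 16777216 && Nat.beq (H90.popc e.2) 8) &&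
    sevenCands.all (fun c => !H94.bitB c (sevenFix.getD 0 0) ||
      Nat.beq c (1 <<< sevenFix.getD 0 0) ||
      Nat.beq c (1 <<< sevenFix.getD 0 0 ||| 1 <<< sevenFix.getD 1 0) || candOK c) &&
    sevenCands.all (fun c => !H94.bitB c (sevenFix.getD 1 0) || H94.bitB c (sevenFix.getD 0 0) ||
      Nat.beq c (1 <<< sevenFix.getD 1 0) || candOK c) &&
    (List.range 24).all fun i => Nat.beq i 0 || (List.range 5).any fun t =>
      reachB (sevenReps.getD t 0) i) = true := by decide +kernel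

theorem sevenCands_spec : (((List.range 32).all fun s => (List.range 24).all fun i =>
    Nat.beq i 0 || (List.range 5).all fun t => !reachB (sevenReps.getD t 0) i ||
      (H94.bitB (sevenCands.getD s 0) i == H94.bitB s t)) &&
    ((List.range 32).all fun s => !H94.bitB (sevenCands.getD s 0) 0 && Nat.blt (sevenCands.getD s 0) 16777216) &&
    Nat.beq sevenCands.length 32) = true := by decide +kernel

theorem exists_seven : ∃ g : M24, H94.Reps sevenElt (g : Equiv.Perm GolayPt) ∧ orderOf g = 7 ∧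
    (g : Equiv.Perm GolayPt) (H94.ptN 0) = H94.ptN 0 := by
  have h := seven_facts
  simp only [Bool.and_eq_true] at h
  obtain ⟨⟨⟨⟨⟨⟨⟨⟨hm, h0⟩, hne⟩, h7⟩, -⟩, -⟩, -⟩, -⟩, -⟩ := h
  obtain ⟨g, hg, hR⟩ := H94.exists_perm_of_memB hm
  haveI : Fact (Nat.Prime 7) := ⟨by norm_num⟩
  refine ⟨⟨g, hg⟩, hR, orderOf_eq_prime (Subtype.ext ?_) fun he => ?_, H94.idxN_injective ?_⟩
  · simpa using (reps_pow hR 7).eq_of_peq H94.reps_one h7
  · have : g = 1 := congrArg Subtype.val he
    subst this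
    rw [hR.peq_of_eq H94.reps_one] at hne
    exact Bool.noConfusion hne
  · show H94.idxN (g (H94.ptN 0)) = _
    rw [← hR 0 (by norm_num), Nat.eq_of_beq_eq_true h0, H94.idxN_ptN (by norm_num)]

/-- An invariant set with at most nine points, seven in one octad, fixes that octad. -/
theorem octad_fixed_of_set {g : Equiv.Perm GolayPt} (hg : g ∈ M24) {T o : Finset GolayPt}
    (ho : o ∈ octads) (hT : g • T = T) (h9 : T.card ≤ 9) (h7 : 7 ≤ (o ∩ T).card) : g • o = o := by
  refine H90.octad_eq_of_five_le_inter (H94.smul_mem_octads hg ho) ho ?_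
  have h7' : 7 ≤ (g • o ∩ T).card := by rw [← hT, card_inter_smul]; exact h7
  have h := Finset.card_union_add_card_inter (g • o ∩ T) (o ∩ T)
  have hu : ((g • o ∩ T) ∪ (o ∩ T)).card ≤ 9 :=
    (Finset.card_le_card (Finset.union_subset Finset.inter_subset_right Finset.inter_subset_right)).trans h9
  have hi : ((g • o ∩ T) ∩ (o ∩ T)).card ≤ (g • o ∩ o).card :=
    Finset.card_le_card fun p hp => by
      simp only [Finset.mem_inter] at hp ⊢; exact ⟨hp.1.1, hp.2.1⟩
  omega

theorem card_stab_octad {o : Finset GolayPt} (ho : o ∈ octads) :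
    Nat.card (MulAction.stabilizer M24 o) = 322560 := by
  have h := H90.natCard_stabilizer_mul (G := M24) o octads fun q => by
    constructor
    · intro hq
      obtain ⟨p, hp⟩ : o.Nonempty := Finset.card_pos.mp (by rw [ho.2]; norm_num)
      obtain ⟨r, hr⟩ : q.Nonempty := Finset.card_pos.mp (by rw [hq.2]; norm_num)
      obtain ⟨g, hg, hgo, _⟩ := normal_one ho hp
      obtain ⟨k, hk, hkq, _⟩ := normal_one hq hr
      exact ⟨⟨k, hk⟩⁻¹ * ⟨g, hg⟩, show (k⁻¹ * g) • o = q by rw [mul_smul, hgo, ← hkq, inv_smul_smul]⟩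
    · rintro ⟨g, rfl⟩
      exact H94.smul_mem_octads g.2 ho
  rw [H90.octads_ncard, H90.natCard_M24] at h
  omega

theorem card_stab_octad_in {o : Finset GolayPt} (ho : o ∈ octads) {p : GolayPt} (hp : p ∈ o) :
    Nat.card ↥(MulAction.stabilizer M24 o ⊓ MulAction.stabilizer M24 p) = 40320 := by
  have h := H90.natCard_inf_stabilizer (MulAction.stabilizer M24 o) p (o : Set GolayPt) fun q => by
    rw [Finset.mem_coe]
    constructor
    · intro hq
      obtain ⟨g, hg, hgo, hgp⟩ := normal_one ho hp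
      obtain ⟨k, hk, hko, hkq⟩ := normal_one ho hq
      refine ⟨⟨k, hk⟩⁻¹ * ⟨g, hg⟩, ?_, ?_⟩
      · show (k⁻¹ * g) • o = o
        rw [mul_smul, hgo, inv_smul_eq_iff, hko]
      · show (k⁻¹ * g) p = q
        rw [Equiv.Perm.mul_apply, hgp, ← hkq, Equiv.Perm.inv_def, Equiv.symm_apply_apply]
    · rintro ⟨g, hg, rfl⟩
      have := (mem_smul_apply (g : Equiv.Perm GolayPt) o p).mpr hp
      rwa [mem_stab_set.mp hg] at this
  rw [Set.ncard_coe_finset, ho.2, card_stab_octad ho] at h
  omega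

theorem card_stab_octad_out {o : Finset GolayPt} (ho : o ∈ octads) {p : GolayPt} (hp : p ∉ o) :
    Nat.card ↥(MulAction.stabilizer M24 o ⊓ MulAction.stabilizer M24 p) = 20160 := by
  have h := H90.natCard_inf_stabilizer (MulAction.stabilizer M24 o) p ((o : Set GolayPt))ᶜ fun q => by
    simp only [Set.mem_compl_iff, Finset.mem_coe]
    constructor
    · intro hq
      obtain ⟨g, hg, hgo, hgp⟩ := normal_out ho hp
      obtain ⟨k, hk, hko, hkq⟩ := normal_out ho hq
      refine ⟨⟨k, hk⟩⁻¹ * ⟨g, hg⟩, ?_, ?_⟩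
      · show (k⁻¹ * g) • o = o
        rw [mul_smul, hgo, inv_smul_eq_iff, hko]
      · show (k⁻¹ * g) p = q
        rw [Equiv.Perm.mul_apply, hgp, ← hkq, Equiv.Perm.inv_def, Equiv.symm_apply_apply]
    · rintro ⟨g, hg, rfl⟩ hq
      apply hp
      rw [← mem_smul_apply (g : Equiv.Perm GolayPt), mem_stab_set.mp hg]
      exact hq
  rw [Set.ncard_compl, Set.ncard_coe_finset, ho.2, card_stab_octad ho, Nat.card_eq_fintype_card (α := GolayPt),
    H90.card_golayPt] at h
  omega

theorem exists_move_three {p q r p' q' r' : GolayPt} (h1 : p ≠ q) (h2 : p ≠ r) (h3 : q ≠ r)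
    (h1' : p' ≠ q') (h2' : p' ≠ r') (h3' : q' ≠ r') :
    ∃ g : M24, (g : Equiv.Perm GolayPt) p = p' ∧ (g : Equiv.Perm GolayPt) q = q' ∧
      (g : Equiv.Perm GolayPt) r = r' := by
  have key : ∀ u v w : GolayPt, u ≠ v → u ≠ w → v ≠ w →
      ∃ g ∈ M24, g (H94.ptN 0) = u ∧ g (H94.ptN 1) = v ∧ g (H94.ptN 2) = w := by
    intro u v w huv huw hvw
    obtain ⟨g, hg, hga⟩ := H94.exists_five_images (fun i => [u, v, w].getD i u) 3 (by norm_num) (by
      intro i hi j hj he
      interval_cases i <;> interval_cases j <;> simp at he ⊢ <;> grind)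
    exact ⟨g, hg, hga 0 (by norm_num), hga 1 (by norm_num), hga 2 (by norm_num)⟩
  obtain ⟨g, hg, a0, a1, a2⟩ := key p q r h1 h2 h3
  obtain ⟨k, hk, b0, b1, b2⟩ := key p' q' r' h1' h2' h3'
  refine ⟨⟨k, hk⟩ * ⟨g, hg⟩⁻¹, ?_, ?_, ?_⟩
  · show (k * g⁻¹) p = p'
    rw [← a0, Equiv.Perm.mul_apply, Equiv.Perm.inv_def, Equiv.symm_apply_apply, b0]
  · show (k * g⁻¹) q = q'
    rw [← a1, Equiv.Perm.mul_apply, Equiv.Perm.inv_def, Equiv.symm_apply_apply, b1]
  · show (k * g⁻¹) r = r'
    rw [← a2, Equiv.Perm.mul_apply, Equiv.Perm.inv_def, Equiv.symm_apply_apply, b2]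

theorem card_stab_three {p q r : GolayPt} (h1 : p ≠ q) (h2 : p ≠ r) (h3 : q ≠ r) :
    Nat.card ↥(MulAction.stabilizer M24 p ⊓ MulAction.stabilizer M24 q ⊓ MulAction.stabilizer M24 r) =
      20160 := by
  have h := H90.natCard_inf_stabilizer (MulAction.stabilizer M24 p ⊓ MulAction.stabilizer M24 q) r
    ({p, q} : Set GolayPt)ᶜ fun s => by
    simp only [Set.mem_compl_iff, Set.mem_insert_iff, Set.mem_singleton_iff, not_or]
    constructor
    · rintro ⟨hsp, hsq⟩
      obtain ⟨g, e1, e2, e3⟩ := exists_move_three h1 h2 h3 h1 (Ne.symm hsp) (Ne.symm hsq)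
      exact ⟨g, ⟨e1, e2⟩, e3⟩
    · rintro ⟨g, ⟨e1, e2⟩, rfl⟩
      exact ⟨fun e => h2 ((MulAction.injective g) (e1.trans e.symm)),
        fun e => h3 ((MulAction.injective g) (e2.trans e.symm))⟩
  rw [Set.ncard_compl, Set.ncard_pair h1, Nat.card_eq_fintype_card (α := GolayPt), H90.card_golayPt,
    H90.natCard_stab_pair h1] at h
  omega

theorem card_stab_duad {p q r : GolayPt} (h1 : p ≠ q) (h2 : p ≠ r) (h3 : q ≠ r) :
    Nat.card ↥(MulAction.stabilizer M24 p ⊓ MulAction.stabilizer M24 ({q, r} : Finset GolayPt)) =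
      40320 := by
  classical
  have h := H90.natCard_inf_stabilizer (MulAction.stabilizer M24 p) ({q, r} : Finset GolayPt)
    ↑(Finset.powersetCard 2 ({p} : Finset GolayPt)ᶜ) fun R => by
    rw [Finset.mem_coe, Finset.mem_powersetCard]
    constructor
    · rintro ⟨hsub, hc⟩
      obtain ⟨x, y, hxy, rfl⟩ := Finset.card_eq_two.mp hc
      simp only [Finset.insert_subset_iff, Finset.singleton_subset_iff, Finset.mem_compl,
        Finset.mem_singleton] at hsub
      obtain ⟨g, e1, e2, e3⟩ := exists_move_three h1 h2 h3 (Ne.symm hsub.1) (Ne.symm hsub.2) hxy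
      refine ⟨g, e1, ?_⟩
      show (g : Equiv.Perm GolayPt) • ({q, r} : Finset GolayPt) = {x, y}
      simp [Finset.smul_finset_insert, e2, e3]
    · rintro ⟨g, hg, rfl⟩
      refine ⟨fun z hz => ?_, ?_⟩
      · obtain ⟨w, hw, rfl⟩ := Finset.mem_smul_finset.mp hz
        rw [Finset.mem_compl, Finset.mem_singleton]
        intro e
        have hwp : w = p := MulAction.injective g (e.trans hg.symm)
        simp only [Finset.mem_insert, Finset.mem_singleton] at hw
        rcases hw with rfl | rfl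
        exacts [h1 hwp.symm, h2 hwp.symm]
      · show ((g : Equiv.Perm GolayPt) • ({q, r} : Finset GolayPt)).card = 2
        rw [Finset.card_smul_finset, Finset.card_pair h3]
  rw [Set.ncard_coe_finset, Finset.card_powersetCard, Finset.card_compl, Finset.card_singleton,
    H90.card_golayPt, show Nat.choose (24 - 1) 2 = 253 by decide, H90.natCard_stab_point] at h
  omega

/-- The set of a union of orbits is one of the candidates. -/
theorem cand_of_invariant {σ : Equiv.Perm GolayPt} (hR : H94.Reps sevenElt σ) {A : Finset GolayPt}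
    (hA : σ • A = A) (h0 : H94.ptN 0 ∉ A) : ∃ c ∈ sevenCands, H90.setOf' c = A ∧ c < 2 ^ 24 := by
  classical
  have hpow : ∀ (k : ℕ) (p : GolayPt), (σ ^ k) p ∈ A ↔ p ∈ A := by
    intro k
    induction k with
    | zero => simp
    | succ k ih =>
      intro p
      rw [pow_succ, Equiv.Perm.mul_apply, ih]
      conv_lhs => rw [← hA, mem_smul_apply]
  obtain ⟨s, hs⟩ : ∃ s, s < 32 ∧ ∀ t < 5, H94.bitB s t = decide (H94.ptN (sevenReps.getD t 0) ∈ A) := by
    refine ⟨Nat.ofBits fun t : Fin 5 => decide (H94.ptN (sevenReps.getD t 0) ∈ A),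
      Nat.ofBits_lt_two_pow _, fun t ht => ?_⟩
    rw [H94.bitB_eq, Nat.testBit_ofBits_lt _ _ ht]
  have h := sevenCands_spec
  simp only [Bool.and_eq_true] at h
  obtain ⟨⟨hspec, hz⟩, hlen⟩ := h
  have hl : s < sevenCands.length := by rw [Nat.eq_of_beq_eq_true hlen]; exact hs.1
  have hz' := List.all_eq_true.mp hz s (List.mem_range.mpr hs.1)
  rw [Bool.and_eq_true, Bool.not_eq_true'] at hz'
  refine ⟨sevenCands.getD s 0, by rw [List.getD_eq_getElem _ _ hl]; exact List.getElem_mem hl, ?_,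
    Nat.le_of_ble_eq_true hz'.2⟩
  ext p
  obtain ⟨i, hi, rfl⟩ : ∃ i < 24, H94.ptN i = p := ⟨_, H94.idxN_lt p, H94.ptN_idxN p⟩
  rw [mem_setOf'_bitB hi]
  by_cases hi0 : i = 0
  · subst hi0; rw [hz'.1]; simp [h0]
  have hf := seven_facts
  simp only [Bool.and_eq_true] at hf
  have hr := List.all_eq_true.mp hf.2 i (List.mem_range.mpr hi)
  have hb : Nat.beq i 0 = false := by rw [Bool.eq_false_iff]; exact fun h => hi0 (Nat.eq_of_beq_eq_true h)
  rw [hb, Bool.false_or, List.any_eq_true] at hr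
  obtain ⟨t, ht, hr⟩ := hr
  have ht' := List.mem_range.mp ht
  have hsp := List.all_eq_true.mp (List.all_eq_true.mp hspec s (List.mem_range.mpr hs.1)) i
    (List.mem_range.mpr hi)
  rw [hb, Bool.false_or] at hsp
  have hsp' := List.all_eq_true.mp hsp t ht
  rw [hr, Bool.not_true, Bool.false_or, beq_iff_eq, hs.2 t ht'] at hsp'
  rw [hsp', decide_eq_true_iff]
  rw [reachB, List.any_eq_true] at hr
  obtain ⟨k, -, hk⟩ := hr
  have hrep : sevenReps.getD t 0 < 24 :=
    (by decide +kernel : ∀ t < 5, sevenReps.getD t 0 < 24) t ht'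
  have he : (σ ^ k) (H94.ptN (sevenReps.getD t 0)) = H94.ptN i := H94.idxN_injective (by
    rw [← reps_pow hR k _ hrep, Nat.eq_of_beq_eq_true hk, H94.idxN_ptN hi])
  rw [← he, hpow]

theorem sevenFix_lt : sevenFix.getD 0 0 < 24 ∧ sevenFix.getD 1 0 < 24 ∧ sevenFix.getD 0 0 ≠ 0 ∧
    sevenFix.getD 1 0 ≠ 0 ∧ sevenFix.getD 0 0 ≠ sevenFix.getD 1 0 := by decide +kernel

theorem m23_index_base {K : Subgroup M24} (hK : K ≤ MulAction.stabilizer M24 (H94.ptN 0))
    (hcard : Nat.card K = 40320) {g : M24} (hg : g ∈ K)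
    (hR : H94.Reps sevenElt (g : Equiv.Perm GolayPt)) :
    (∃ s : Finset GolayPt, s.card = 2 ∧ H94.ptN 0 ∉ s ∧
      K = MulAction.stabilizer M24 (H94.ptN 0) ⊓ MulAction.stabilizer M24 s) ∨
    ∃ o ∈ octads, H94.ptN 0 ∈ o ∧
      K = MulAction.stabilizer M24 (H94.ptN 0) ⊓ MulAction.stabilizer M24 o := by
  classical
  obtain ⟨ha, hb, ha0, hb0, hab⟩ := sevenFix_lt
  obtain ⟨a, hadef⟩ : ∃ a, a = H94.ptN (sevenFix.getD 0 0) := ⟨_, rfl⟩
  obtain ⟨b, hbdef⟩ : ∃ b, b = H94.ptN (sevenFix.getD 1 0) := ⟨_, rfl⟩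
  have hab' : a ≠ b := fun h => hab (H94.ptN_inj ha hb (by rw [← hadef, ← hbdef, h]))
  have h0a : H94.ptN 0 ≠ a := fun h => ha0 (H94.ptN_inj (by norm_num) ha (h.trans hadef)).symm
  have h0b : H94.ptN 0 ≠ b := fun h => hb0 (H94.ptN_inj (by norm_num) hb (h.trans hbdef)).symm
  have orb : ∀ p, p ≠ H94.ptN 0 → ∃ A : Finset GolayPt, p ∈ A ∧ H94.ptN 0 ∉ A ∧ A.card ∣ 40320 ∧
      (∀ k ∈ K, (k : Equiv.Perm GolayPt) • A = A) ∧
      ∀ z ∈ A, (∀ k ∈ K, (k : M24) • z = z) → z = p := by
    intro p hp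
    refine ⟨(MulAction.orbit K p).toFinset, Set.mem_toFinset.mpr (MulAction.mem_orbit_self p),
      fun h => ?_, ?_, fun k hk => ?_, fun z hz hfix => ?_⟩
    · obtain ⟨k, hk⟩ := Set.mem_toFinset.mp h
      exact hp (MulAction.injective (k : M24) (hk.trans (hK k.2).symm))
    · rw [← Set.ncard_eq_toFinset_card', ← MulAction.index_stabilizer, ← hcard]
      exact Subgroup.index_dvd_card _
    · refine Finset.eq_of_subset_of_card_le (fun z hz => ?_) (by rw [Finset.card_smul_finset])
      obtain ⟨w, hw, rfl⟩ := Finset.mem_smul_finset.mp hz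
      obtain ⟨l, rfl⟩ := Set.mem_toFinset.mp hw
      exact Set.mem_toFinset.mpr ⟨(⟨k, hk⟩ : K) * l, rfl⟩
    · obtain ⟨l, rfl⟩ := Set.mem_toFinset.mp hz
      have h1 : (l : M24)⁻¹ • ((l : M24) • p) = (l : M24) • p := hfix _ (inv_mem l.2)
      rw [inv_smul_smul] at h1
      exact h1.symm
  have comp : ∀ k ∈ K, ∀ A : Finset GolayPt, (k : Equiv.Perm GolayPt) • A = A →
      (k : Equiv.Perm GolayPt) • ((insert (H94.ptN 0) A)ᶜ) = (insert (H94.ptN 0) A)ᶜ := by
    intro k hk A hA
    ext z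
    obtain ⟨w, rfl⟩ := (k : Equiv.Perm GolayPt).surjective z
    rw [mem_smul_apply, Finset.mem_compl, Finset.mem_compl, Finset.mem_insert, Finset.mem_insert]
    conv_rhs => rw [← hA, mem_smul_apply, show H94.ptN 0 = (k : Equiv.Perm GolayPt) (H94.ptN 0) from
      (hK hk).symm, (k : Equiv.Perm GolayPt).injective.eq_iff]
  have octCase : ∀ c, c < 2 ^ 24 → H94.bitB c 0 = false → (∀ k ∈ K,
      (k : Equiv.Perm GolayPt) • H90.setOf' c = H90.setOf' c) → (H90.setOf' c).card ∣ 40320 →
      candOK c = true → ∃ o ∈ octads, H94.ptN 0 ∈ o ∧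
        K = MulAction.stabilizer M24 (H94.ptN 0) ⊓ MulAction.stabilizer M24 o := by
    intro c hclt hc0 hinv hdvd hok
    rw [candOK, Bool.or_eq_true, List.any_eq_true] at hok
    rw [H90.card_setOf'] at hdvd
    rcases hok with h | ⟨e, he, h⟩
    · rw [Nat.mod_eq_zero_of_dvd hdvd] at h
      simp at h
    · have hf := seven_facts
      simp only [Bool.and_eq_true] at hf
      have hoc := List.all_eq_true.mp hf.1.1.1.2 e he
      simp only [Bool.and_eq_true] at hoc
      have ho := H94.mem_golay_octad (Nat.le_of_ble_eq_true hoc.1.2) hoc.1.1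
        (Nat.eq_of_beq_eq_true hoc.2)
      have hfix : ∀ k ∈ K, (k : Equiv.Perm GolayPt) • H90.setOf' e.2 = H90.setOf' e.2 := by
        intro k hk
        rw [Bool.or_eq_true, Bool.and_eq_true, Bool.and_eq_true, Nat.ble_eq, Nat.ble_eq, Nat.ble_eq,
          Nat.ble_eq] at h
        rcases h with ⟨h9, h7⟩ | ⟨h9, h7⟩
        · exact octad_fixed_of_set k.2 ho (hinv k hk) (by rw [H90.card_setOf']; exact h9)
            (by rw [card_inter_setOf']; exact h7)
        · have hcompl : H90.setOf' (16777214 ^^^ c) = (insert (H94.ptN 0) (H90.setOf' c))ᶜ := by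
            ext p
            obtain ⟨i, hi, rfl⟩ : ∃ i < 24, H94.ptN i = p := ⟨_, H94.idxN_lt p, H94.ptN_idxN p⟩
            rw [Finset.mem_compl, Finset.mem_insert, H94.mem_setOf'_ptN hi, H94.mem_setOf'_ptN hi,
              Nat.testBit_xor]
            rw [H94.bitB_eq] at hc0
            by_cases hi0 : i = 0
            · subst hi0; simp [hc0]
            · have h1 : (16777214 : ℕ).testBit i = true := by
                revert hi0; revert hi; revert i; decide +kernel
              have h2 : H94.ptN i ≠ H94.ptN 0 := fun h => hi0 (H94.ptN_inj hi (by norm_num) h)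
              simp [h1, h2]
          refine octad_fixed_of_set k.2 ho ?_ (by rw [H90.card_setOf']; exact h9)
            (by rw [card_inter_setOf']; exact h7)
          rw [hcompl]
          exact comp k hk _ (hinv k hk)
      have hle : K ≤ MulAction.stabilizer M24 (H94.ptN 0) ⊓ MulAction.stabilizer M24 (H90.setOf' e.2) :=
        le_inf hK fun k hk => mem_stab_set.mpr (hfix k hk)
      by_cases h0o : H94.ptN 0 ∈ H90.setOf' e.2
      · exact ⟨_, ho, h0o, Subgroup.eq_of_le_of_card_ge hle (by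
          rw [inf_comm, card_stab_octad_in ho h0o, hcard])⟩
      · have h1 := Nat.le_of_dvd Nat.card_pos (Subgroup.card_dvd_of_le hle)
        rw [inf_comm, card_stab_octad_out ho h0o, hcard] at h1
        omega
  have hf := seven_facts
  simp only [Bool.and_eq_true] at hf
  obtain ⟨A, haA, h0A, hAd, hAK, -⟩ := orb a h0a.symm
  obtain ⟨c, hc, rfl, hclt⟩ := cand_of_invariant hR (hAK g hg) h0A
  have hcheck := List.all_eq_true.mp hf.1.1.2 c hc
  rw [hadef, mem_setOf'_bitB ha] at haA
  rw [haA, Bool.not_true, Bool.false_or, Bool.or_eq_true, Bool.or_eq_true] at hcheck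
  rw [mem_setOf'_bitB (by norm_num), Bool.not_eq_true] at h0A
  rcases hcheck with (h | h) | h
  · -- the point is fixed
    rw [Nat.eq_of_beq_eq_true h, setOf'_single ha, ← hadef] at hAK
    have hKa : K ≤ MulAction.stabilizer M24 a := fun k hk => by
      have := hAK k hk
      rw [Finset.smul_finset_singleton, Finset.singleton_inj] at this
      exact this
    obtain ⟨B, hbB, h0B, hBd, hBK, hBfix⟩ := orb b h0b.symm
    by_cases haB : a ∈ B
    · exact absurd (hBfix a haB fun k hk => hKa hk) hab'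
    · obtain ⟨c', hc', rfl, hclt'⟩ := cand_of_invariant hR (hBK g hg) h0B
      have hcheck' := List.all_eq_true.mp hf.1.2 c' hc'
      rw [hbdef, mem_setOf'_bitB hb] at hbB
      rw [hadef, mem_setOf'_bitB ha, Bool.not_eq_true] at haB
      rw [hbB, haB, Bool.not_true, Bool.false_or, Bool.false_or, Bool.or_eq_true] at hcheck'
      rw [mem_setOf'_bitB (by norm_num), Bool.not_eq_true] at h0B
      rcases hcheck' with h' | h'
      · rw [Nat.eq_of_beq_eq_true h', setOf'_single hb, ← hbdef] at hBK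
        have hKb : K ≤ MulAction.stabilizer M24 b := fun k hk => by
          have := hBK k hk
          rw [Finset.smul_finset_singleton, Finset.singleton_inj] at this
          exact this
        have h1 := Nat.le_of_dvd Nat.card_pos (Subgroup.card_dvd_of_le (le_inf (le_inf hK hKa) hKb))
        rw [card_stab_three h0a h0b hab', hcard] at h1
        omega
      · exact Or.inr (octCase c' hclt' h0B hBK hBd h')
  · refine Or.inl ⟨{a, b}, Finset.card_pair hab', by simp [h0a, h0b], ?_⟩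
    rw [Nat.eq_of_beq_eq_true h, H90.setOf'_or, setOf'_single ha, setOf'_single hb, ← hadef, ← hbdef,
      show ({a} : Finset GolayPt) ∪ {b} = {a, b} by ext; simp] at hAK
    exact Subgroup.eq_of_le_of_card_ge (le_inf hK fun k hk => mem_stab_set.mpr (hAK k hk))
      (by rw [card_stab_duad h0a h0b hab', hcard])
  · exact Or.inr (octCase c hclt h0A hAK hAd h)

theorem m23_index {x : GolayPt} (H : Subgroup (MulAction.stabilizer M24 x)) (hH : H.index = 253) :
    (∃ s : Finset GolayPt, s.card = 2 ∧ x ∉ s ∧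
      H = (MulAction.stabilizer M24 s).subgroupOf (MulAction.stabilizer M24 x)) ∨
    ∃ o ∈ octads, x ∈ o ∧
      H = (MulAction.stabilizer M24 o).subgroupOf (MulAction.stabilizer M24 x) := by
  haveI : Fact (Nat.Prime 7) := ⟨by norm_num⟩
  obtain ⟨K, hKdef⟩ : ∃ K, K = H.map (MulAction.stabilizer M24 x).subtype := ⟨_, rfl⟩
  have hKx : K ≤ MulAction.stabilizer M24 x := hKdef ▸ Subgroup.map_subtype_le H
  have hKc : Nat.card K = 40320 := by
    rw [hKdef, Subgroup.card_map_of_injective (Subgroup.subtype_injective _)]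
    have := Subgroup.card_mul_index H
    rw [hH, H90.natCard_stab_point] at this
    omega
  obtain ⟨g, hgR, hg7, hg0⟩ := exists_seven
  obtain ⟨σ, hσ, hσx⟩ := H94.exists_five_images (fun _ => x) 1 (by norm_num)
    (fun i hi j hj _ => by omega)
  let t : M24 := ⟨σ, hσ⟩
  have ht : (t : Equiv.Perm GolayPt) (H94.ptN 0) = x := hσx 0 (by norm_num)
  have hmem : ∀ {z : M24}, z ∈ MulAction.stabilizer M24 x → t⁻¹ * z * t ∈ MulAction.stabilizer M24 (H94.ptN 0) := by
    intro z hz
    show (t⁻¹ * z * t) • H94.ptN 0 = H94.ptN 0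
    rw [mul_smul, mul_smul, show t • H94.ptN 0 = x from ht, hz, inv_smul_eq_iff]
    exact ht.symm
  -- a Sylow 7-subgroup of the point stabiliser
  obtain ⟨K1, hK1def⟩ : ∃ K1, K1 = K.map (MulAut.conj t⁻¹).toMonoidHom := ⟨_, rfl⟩
  have hK1c : Nat.card K1 = 40320 := by
    rw [hK1def, Subgroup.card_map_of_injective (MulAut.conj t⁻¹).injective, hKc]
  have hK1 : K1 ≤ MulAction.stabilizer M24 (H94.ptN 0) := by
    rw [hK1def]
    rintro _ ⟨k, hk, rfl⟩
    simpa using hmem (hKx hk)
  obtain ⟨y, hy⟩ := exists_prime_orderOf_dvd_card' (G := K1) 7 (by rw [hK1c]; norm_num)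
  let S := MulAction.stabilizer M24 (H94.ptN 0)
  have hS7 : ∀ z : S, orderOf z = 7 →
      Nat.card (Subgroup.zpowers z) = 7 ^ (Nat.card S).factorization 7 := by
    intro z hz
    rw [Nat.card_zpowers, hz, H90.natCard_stab_point]
    have h1 : (10200960 : ℕ).factorization 7 = 1 := by
      refine le_antisymm ?_ (Nat.Prime.factorization_pos_of_dvd (by norm_num) (by norm_num) (by norm_num))
      by_contra h
      have := ((Nat.Prime.pow_dvd_iff_le_factorization (by norm_num) (by norm_num)).mpr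
        (not_le.mp h) : 7 ^ 2 ∣ 10200960)
      norm_num at this
    rw [h1, pow_one]
  let y' : S := ⟨(y : M24), hK1 y.2⟩
  let g' : S := ⟨g, hg0⟩
  have hy' : orderOf y' = 7 := by rw [← Subgroup.orderOf_coe, Subgroup.orderOf_coe y, hy]
  have hg' : orderOf g' = 7 := by rw [← Subgroup.orderOf_coe]; exact hg7
  obtain ⟨u, hu⟩ := MulAction.exists_smul_eq S (Sylow.ofCard (Subgroup.zpowers y') (hS7 _ hy'))
    (Sylow.ofCard (Subgroup.zpowers g') (hS7 _ hg'))
  have hgu : (MulAut.conj u)⁻¹ • g' ∈ Subgroup.zpowers y' := by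
    have h1 := congrArg (fun P : Sylow 7 S => g' ∈ (P : Subgroup S)) hu
    simp only [Sylow.coe_subgroup_smul, Subgroup.mem_pointwise_smul_iff_inv_smul_mem] at h1
    exact h1.mpr (Subgroup.mem_zpowers g')
  obtain ⟨K2, hK2def⟩ : ∃ K2, K2 = K1.map (MulAut.conj (u : M24)).toMonoidHom := ⟨_, rfl⟩
  have hgK2 : g ∈ K2 := by
    obtain ⟨i, hi⟩ := Subgroup.mem_zpowers_iff.mp hgu
    rw [hK2def]
    refine ⟨(y : M24) ^ i, K1.zpow_mem y.2 i, ?_⟩
    have e := congrArg (fun z : S => (z : M24)) hi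
    simp only [Subgroup.coe_zpow] at e
    show (u : M24) * (y : M24) ^ i * (u : M24)⁻¹ = g
    rw [show (y : M24) ^ i = (y' : M24) ^ i from rfl, e]
    show (u : M24) * ((u : M24)⁻¹ * g * ((u : M24)⁻¹)⁻¹) * (u : M24)⁻¹ = g
    group
  have hK2 : K2 ≤ MulAction.stabilizer M24 (H94.ptN 0) := by
    rw [hK2def]
    rintro _ ⟨k, hk, rfl⟩
    exact mul_mem (mul_mem u.2 (hK1 hk)) (inv_mem u.2)
  have hK2c : Nat.card K2 = 40320 := by
    rw [hK2def, Subgroup.card_map_of_injective (MulAut.conj (u : M24)).injective, hK1c]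
  -- pulling back
  obtain ⟨w, hw⟩ : ∃ w : M24, w = (u : M24) * t⁻¹ := ⟨_, rfl⟩
  have hKw : ∀ k : M24, k ∈ K ↔ w * k * w⁻¹ ∈ K2 := by
    intro k
    rw [hK2def, hK1def, Subgroup.map_map]
    constructor
    · intro hk
      exact ⟨k, hk, by simp [hw, mul_assoc]⟩
    · rintro ⟨k', hk', he⟩
      simp [hw, mul_assoc] at he
      rwa [← he]
  have hw0 : w • x = H94.ptN 0 := by
    rw [hw, mul_smul, show t⁻¹ • x = H94.ptN 0 by rw [inv_smul_eq_iff]; exact ht.symm]
    exact u.2
  have fin : ∀ {α : Type} [MulAction (Equiv.Perm GolayPt) α] (X : α),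
      K2 = MulAction.stabilizer M24 (H94.ptN 0) ⊓ MulAction.stabilizer M24 X →
      H = (MulAction.stabilizer M24 ((w : Equiv.Perm GolayPt)⁻¹ • X)).subgroupOf
        (MulAction.stabilizer M24 x) := by
    intro α _ X hX
    ext h
    rw [Subgroup.mem_subgroupOf]
    have h1 : h ∈ H ↔ (h : M24) ∈ K := by
      rw [hKdef, ← Subgroup.coe_subtype, Subgroup.mem_map_iff_mem (Subgroup.subtype_injective _)]
    rw [h1, hKw, hX, Subgroup.mem_inf, conj_mem_stab (x := x) w (h : M24) hw0,
      conj_mem_stab (x := (w : Equiv.Perm GolayPt)⁻¹ • X) w (h : M24) (smul_inv_smul _ _)]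
    exact and_iff_right h.2
  have hw0' : (w : Equiv.Perm GolayPt) x = H94.ptN 0 := hw0
  rcases m23_index_base hK2 hK2c hgK2 hgR with ⟨s, hs, hs0, hKs⟩ | ⟨o, ho, ho0, hKo⟩
  · refine Or.inl ⟨(w : Equiv.Perm GolayPt)⁻¹ • s, by rw [Finset.card_smul_finset, hs], fun h => ?_,
      fin s hKs⟩
    rw [mem_inv_smul, hw0'] at h
    exact hs0 h
  · exact Or.inr ⟨(w : Equiv.Perm GolayPt)⁻¹ • o, H94.smul_mem_octads (M24.inv_mem w.2) ho,
      by rw [mem_inv_smul, hw0']; exact ho0, fin o hKo⟩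

end H92

end
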