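import Cfsg.Agent.H92.MaximalOctad

/-!
Maximality of the stabiliser of a duum.
-/

set_option autoImplicit false

noncomputable section

namespace H92

open Cfsg
open scoped Pointwise

/-- A dodecad with its complement. -/
def duumOf (d : Finset GolayPt) : Finset (Finset GolayPt) := {d, dᶜ}

theorem compl_dodecad {d : Finset GolayPt} (hd : d ∈ dodecads) : dᶜ ∈ dodecads := by
  obtain ⟨⟨w, hw, rfl⟩, hc⟩ := hd
  refine ⟨⟨w + 1, add_mem hw (Submodule.subset_span (Or.inr rfl)), ?_⟩, ?_⟩
  · ext p
    simp only [support₂, Finset.mem_filter, Finset.mem_univ, true_and, Finset.mem_compl,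
      Pi.add_apply, Pi.one_apply]
    rcases H90.zmod2_cases (w p) with h | h <;> simp [h] <;> decide
  · rw [Finset.card_compl, hc]; simp [GolayPt]

theorem card_inter_compl (d : Finset GolayPt) {x : Finset GolayPt} (hx : x.card = 12)
    (hd : d.card = 12) : (d ∩ xᶜ).card = 12 - (d ∩ x).card := by
  have := Finset.card_sdiff_add_card_inter d x
  rw [← Finset.sdiff_eq_inter_compl]
  omega

/-- The invariant of a duum relative to `d`. -/
def duumVal (d : Finset GolayPt) (e : Finset (Finset GolayPt)) : ℕ :=
  ∑ y ∈ e, (d ∩ y).card * (12 - (d ∩ y).card)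

theorem ne_compl (x : Finset GolayPt) : x ≠ xᶜ := by
  intro h
  have hm : (none : GolayPt) ∈ x ↔ (none : GolayPt) ∉ x := by
    conv_lhs => rw [h, Finset.mem_compl]
  tauto

theorem duumVal_duumOf {d x : Finset GolayPt} (hd : d ∈ dodecads) (hx : x ∈ dodecads) :
    duumVal d (duumOf x) = 2 * ((d ∩ x).card * (12 - (d ∩ x).card)) := by
  have hle : (d ∩ x).card ≤ 12 := hd.2 ▸ Finset.card_le_card Finset.inter_subset_left
  rw [duumVal, duumOf, Finset.sum_pair (ne_compl x), card_inter_compl d hx.2 hd.2,
    Nat.sub_sub_self hle]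
  ring

theorem dod_vals : (objs 12 fun _ => true).all (fun m =>
    [0, 4, 6, 8, 12].elem (H90.popc (dod0 &&& m))) = true := by decide +kernel

theorem dod_inter_vals {d x : Finset GolayPt} (hd : d ∈ dodecads) (hx : x ∈ dodecads) :
    (d ∩ x).card ∈ [0, 4, 6, 8, 12] := by
  obtain ⟨g, hg, hgd, _⟩ := normal_dod_list hd [] List.nodup_nil (by simp) (by simp)
  obtain ⟨m, hm, hgx⟩ := exists_objs (f := fun _ => true) (smul_mem_words hg hx) fun _ _ _ => rfl
  rw [← card_inter_smul g, hgd, hgx, card_inter_setOf']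
  simpa using List.all_eq_true.mp dod_vals m hm

theorem dod_stab_trans {d x y : Finset GolayPt} (hd : d ∈ dodecads) (hx : x ∈ dodecads)
    (hy : y ∈ dodecads) (h : (d ∩ x).card = (d ∩ y).card) :
    ∃ g ∈ M24, g • d = d ∧ g • x = y := by
  by_cases h0 : (d ∩ x).card = 0
  · have e : ∀ z ∈ dodecads, (d ∩ z).card = 0 → z = dᶜ := by
      intro z hz hz0
      apply Finset.eq_of_subset_of_card_le
      · intro p hp
        rw [Finset.mem_compl]
        intro hpd
        exact Finset.notMem_empty p (Finset.card_eq_zero.mp hz0 ▸ Finset.mem_inter.mpr ⟨hpd, hp⟩)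
      · rw [Finset.card_compl, hd.2, hz.2]; simp [GolayPt]
    exact ⟨1, M24.one_mem, one_smul _ _, by rw [one_smul, e x hx h0, e y hy (h ▸ h0)]⟩
  · obtain ⟨p, hp⟩ : (d ∩ x).Nonempty := Finset.card_pos.mp (Nat.pos_of_ne_zero h0)
    obtain ⟨r, hr⟩ : (d ∩ y).Nonempty := Finset.card_pos.mp (Nat.pos_of_ne_zero (h ▸ h0))
    rw [Finset.mem_inter] at hp hr
    obtain ⟨g, hg, hgd, hgp⟩ := normal_dod_one hd hp.1
    obtain ⟨g', hg', hgd', hgr⟩ := normal_dod_one hd hr.1
    obtain ⟨u, hu, hux⟩ := exists_objs (f := fun m => H94.bitB m 0) (smul_mem_words hg hx)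
      fun m _ he => (bit_of_mem (by norm_num) hgp he).mpr hp.2
    obtain ⟨v, hv, hvy⟩ := exists_objs (f := fun m => H94.bitB m 0) (smul_mem_words hg' hy)
      fun m _ he => (bit_of_mem (by norm_num) hgr he).mpr hr.2
    have hval : H90.popc (dod0 &&& u) = H90.popc (dod0 &&& v) := by
      rw [← card_inter_setOf', ← card_inter_setOf']
      conv_lhs => rw [← hgd, ← hux, card_inter_smul]
      conv_rhs => rw [← hgd', ← hvy, card_inter_smul]
      exact h
    obtain ⟨k, hk, hkf, hks⟩ := conjugate_of_classB dodIn_fix dodIn_cls hu hv hval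
    refine ⟨g'⁻¹ * k * g, M24.mul_mem (M24.mul_mem (M24.inv_mem hg') hk) hg, ?_, ?_⟩
    · rw [mul_smul, mul_smul, hgd, hkf _ (by simp), ← hgd', inv_smul_smul]
    · rw [mul_smul, mul_smul, hux, hks, ← hvy, inv_smul_smul]

theorem smul_duumOf (g : Equiv.Perm GolayPt) (x : Finset GolayPt) :
    g • duumOf x = duumOf (g • x) := by
  have hc : g • xᶜ = (g • x)ᶜ := by
    ext p
    rw [Finset.mem_compl, ← Finset.inv_smul_mem_iff, Finset.mem_compl, Finset.inv_smul_mem_iff]
  rw [duumOf, duumOf, Finset.smul_finset_insert, Finset.smul_finset_singleton, hc]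

theorem duumOf_compl (x : Finset GolayPt) : duumOf xᶜ = duumOf x := by
  rw [duumOf, duumOf, compl_compl, Finset.pair_comm]

theorem dod_inter_count {d : Finset GolayPt} (hd : d ∈ dodecads) (k : ℕ) :
    ((wordFinset 12).filter fun x => (d ∩ x).card = k).card =
      (objs 12 fun m => Nat.beq (H90.popc (dod0 &&& m)) k).length := by
  obtain ⟨g, hg, hgd, _⟩ := normal_dod_list hd [] List.nodup_nil (by simp) (by simp)
  rw [← ncard_words_filter 12 _ (fun x => (H90.setOf' dod0 ∩ x).card = k)
    fun m _ => by rw [card_inter_setOf']; simp]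
  have := ncard_transport hg 12 (fun x => (d ∩ x).card = k)
  simp only [card_inter_inv, hgd] at this
  rw [← this, ← Set.ncard_coe_finset]
  congr 1
  ext x
  simp [mem_wordFinset]

/-- All duums. -/
def duumFinset : Finset (Finset (Finset GolayPt)) := (wordFinset 12).image duumOf

theorem card_duum_preimage (T : Finset (Finset GolayPt)) (hT : ∀ x ∈ T, xᶜ ∈ T) :
    2 * (T.image duumOf).card = T.card := by
  rw [Finset.card_eq_sum_card_image duumOf T, Finset.sum_congr rfl (g := fun _ => 2),
    Finset.sum_const, smul_eq_mul, mul_comm]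
  intro e he
  obtain ⟨x, hx, rfl⟩ := Finset.mem_image.mp he
  have : (T.filter fun y => duumOf y = duumOf x) = duumOf x := by
    ext y
    rw [Finset.mem_filter]
    constructor
    · rintro ⟨-, hy⟩
      rw [← hy]; exact Finset.mem_insert_self _ _
    · intro hy
      simp only [duumOf, Finset.mem_insert, Finset.mem_singleton] at hy
      rcases hy with rfl | rfl
      · exact ⟨hx, rfl⟩
      · exact ⟨hT x hx, duumOf_compl x⟩
  rw [this]
  exact Finset.card_pair (ne_compl x)

theorem dod_counts : [0, 4, 6, 8, 12].map (fun k =>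
    (objs 12 fun m => Nat.beq (H90.popc (dod0 &&& m)) k).length) = [1, 495, 1584, 495, 1] := by
  decide +kernel

theorem dod_count_eq {d : Finset GolayPt} (hd : d ∈ dodecads) :
    ((wordFinset 12).filter fun x => (d ∩ x).card = 0).card = 1 ∧
    ((wordFinset 12).filter fun x => (d ∩ x).card = 4).card = 495 ∧
    ((wordFinset 12).filter fun x => (d ∩ x).card = 6).card = 1584 ∧
    ((wordFinset 12).filter fun x => (d ∩ x).card = 8).card = 495 ∧
    ((wordFinset 12).filter fun x => (d ∩ x).card = 12).card = 1 := by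
  have h := dod_counts
  simp only [List.map_cons, List.map_nil, List.cons.injEq, and_true] at h
  rw [dod_inter_count hd, dod_inter_count hd, dod_inter_count hd, dod_inter_count hd,
    dod_inter_count hd]
  exact h

set_option maxHeartbeats 1600000 in
theorem isCoatom_duum {d : Finset GolayPt} (hd : d ∈ dodecads) :
    IsCoatom (MulAction.stabilizer M24 (duumOf d)) := by
  refine isCoatom_of_suborbits (duumOf d) duumFinset ?_ (duumVal d) {0, 64, 72}
    (fun k => if k = 0 then 1 else if k = 64 then 495 else 792) ?_ ?_ ?_ ?_ ?_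
  · ext e
    simp only [duumFinset, Finset.coe_image, Set.mem_image, Finset.mem_coe, mem_wordFinset]
    constructor
    · rintro ⟨x, hx, rfl⟩
      obtain ⟨g, hg, hgx⟩ := dodecads_conj hd hx
      exact ⟨⟨g, hg⟩, show g • duumOf d = duumOf x by rw [smul_duumOf, hgx]⟩
    · rintro ⟨g, rfl⟩
      exact ⟨g.1 • d, smul_mem_words g.2 hd, (smul_duumOf g.1 d).symm⟩
  · intro e he
    obtain ⟨x, hx, rfl⟩ := Finset.mem_image.mp he
    have hx' : x ∈ dodecads := mem_wordFinset.mp hx
    rw [duumVal_duumOf hd hx']
    have := dod_inter_vals hd hx'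
    simp only [List.mem_cons, List.not_mem_nil, or_false] at this
    rcases this with h | h | h | h | h <;> rw [h] <;> decide +kernel
  · intro k hk
    have hsplit : (duumFinset.filter fun e => duumVal d e = k) =
        ((wordFinset 12).filter fun x => 2 * ((d ∩ x).card * (12 - (d ∩ x).card)) = k).image duumOf := by
      ext e
      simp only [duumFinset, Finset.mem_filter, Finset.mem_image]
      constructor
      · rintro ⟨⟨x, hx, rfl⟩, hk⟩
        exact ⟨x, ⟨hx, (duumVal_duumOf hd (mem_wordFinset.mp hx)).symm.trans hk⟩, rfl⟩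
      · rintro ⟨x, ⟨hx, hk⟩, rfl⟩
        exact ⟨⟨x, hx, rfl⟩, (duumVal_duumOf hd (mem_wordFinset.mp hx)).trans hk⟩
    have h2 := card_duum_preimage
      ((wordFinset 12).filter fun x => 2 * ((d ∩ x).card * (12 - (d ∩ x).card)) = k) (by
      intro x hx
      rw [Finset.mem_filter, mem_wordFinset] at hx ⊢
      refine ⟨compl_dodecad hx.1, ?_⟩
      have hle : (d ∩ x).card ≤ 12 := hd.2 ▸ Finset.card_le_card Finset.inter_subset_left
      rw [card_inter_compl d hx.1.2 hd.2, Nat.sub_sub_self hle, mul_comm (12 - (d ∩ x).card)]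
      exact hx.2)
    rw [← hsplit, Finset.card_eq_sum_card_fiberwise (f := fun x : Finset GolayPt => (d ∩ x).card)
      (t := ({0, 4, 6, 8, 12} : Finset ℕ))] at h2
    · obtain ⟨N, hN⟩ : ∃ N : ℕ → ℕ, ∀ j,
          ((wordFinset 12).filter fun x => (d ∩ x).card = j).card = N j := ⟨_, fun j => rfl⟩
      have hcnt : ∀ j, ((((wordFinset 12).filter fun x => 2 * ((d ∩ x).card * (12 - (d ∩ x).card)) = k)).filter
          fun x => (d ∩ x).card = j).card = if 2 * (j * (12 - j)) = k then N j else 0 := by
        intro j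
        generalize wordFinset 12 = W at hN ⊢
        rw [Finset.filter_filter]
        split_ifs with hj
        · refine Eq.trans (congrArg Finset.card ?_) (hN j)
          ext x
          simp only [Finset.mem_filter]
          exact ⟨fun h => ⟨h.1, h.2.2⟩, fun h => ⟨h.1, by rw [h.2]; exact hj, h.2⟩⟩
        · rw [Finset.card_eq_zero, Finset.filter_eq_empty_iff]
          rintro x _ ⟨h, rfl⟩
          exact hj h
      simp only [hcnt] at h2
      obtain ⟨c0, c4, c6, c8, c12⟩ := dod_count_eq hd
      rw [hN] at c0 c4 c6 c8 c12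
      simp only [Finset.mem_insert, Finset.mem_singleton] at hk
      rcases hk with rfl | rfl | rfl <;>
        simp [Finset.sum_insert, c0, c4, c6, c8, c12] at h2 ⊢ <;> omega
    · intro x hx
      simp only [Finset.coe_filter, Set.mem_ofPred_eq, mem_wordFinset] at hx
      simpa using dod_inter_vals hd (show x ∈ dodecads from hx.1)
  · intro e he e' he' h
    obtain ⟨x, hx, rfl⟩ := Finset.mem_image.mp he
    obtain ⟨y, hy, rfl⟩ := Finset.mem_image.mp he'
    have hx' : x ∈ dodecads := mem_wordFinset.mp hx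
    have hy' : y ∈ dodecads := mem_wordFinset.mp hy
    rw [duumVal_duumOf hd hx', duumVal_duumOf hd hy'] at h
    have a := dod_inter_vals hd hx'
    have b := dod_inter_vals hd hy'
    have hcase : (d ∩ x).card = (d ∩ y).card ∨ (d ∩ x).card = 12 - (d ∩ y).card := by
      simp only [List.mem_cons, List.not_mem_nil, or_false] at a b
      rcases a with a | a | a | a | a <;> rcases b with b | b | b | b | b <;>
        rw [a, b] at h ⊢ <;> omega
    rcases hcase with hc | hc
    · obtain ⟨g, hg, h1, h2⟩ := dod_stab_trans hd hx' hy' hc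
      exact ⟨⟨g, hg⟩, show g • duumOf d = duumOf d by rw [smul_duumOf, h1],
        show g • duumOf x = duumOf y by rw [smul_duumOf, h2]⟩
    · rw [← card_inter_compl d hy'.2 hd.2] at hc
      obtain ⟨g, hg, h1, h2⟩ := dod_stab_trans hd hx' (compl_dodecad hy') hc
      exact ⟨⟨g, hg⟩, show g • duumOf d = duumOf d by rw [smul_duumOf, h1],
        show g • duumOf x = duumOf y by rw [smul_duumOf, h2, duumOf_compl]⟩
  · have h2 := card_duum_preimage (wordFinset 12) fun x hx =>
      mem_wordFinset.mpr (compl_dodecad (mem_wordFinset.mp hx))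
    have : (wordFinset 12).card = 2576 := by rw [wordFinset_card]; decide +kernel
    rw [duumFinset]
    omega
  · have h2 := card_duum_preimage (wordFinset 12) fun x hx =>
      mem_wordFinset.mpr (compl_dodecad (mem_wordFinset.mp hx))
    have : (wordFinset 12).card = 2576 := by rw [wordFinset_card]; decide +kernel
    have hX : duumFinset.card = 1288 := by rw [duumFinset]; omega
    rw [hX]
    have hval : duumVal d (duumOf d) = 0 := by
      rw [duumVal_duumOf hd hd, Finset.inter_self, hd.2]
    rw [hval]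
    decide +kernel

end H92

end
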