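import Cfsg.Agent.H92.OctadOrbits

/-!
Pairs of points relative to four marked points.
-/

set_option autoImplicit false

noncomputable section

namespace H92

open Cfsg
open scoped Pointwise

set_option synthInstance.maxSize 4096

/-- The octads through the first two base positions. -/
def octThrough : List ℕ := objs 8 fun m => H94.bitB m 0 && H94.bitB m 1

/-- A pair lies with the second base pair in an octad through the first. -/
def inOct (m : ℕ) : Bool := octThrough.any fun o => Nat.beq (o &&& (12 ||| m)) (12 ||| m)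

/-- The invariant of a pair. -/
def pairVal (m : ℕ) : ℕ := 10 * H90.popc (12 &&& m) + if inOct m then 1 else 0

/-- The pairs avoiding the first base pair and different from the second. -/
def pairList : List ℕ :=
  (((List.range 24).flatMap fun i => (List.range 24).filterMap fun j =>
      if i < j then some ((1 <<< i) ||| (1 <<< j)) else none)).filter
    fun m => Nat.beq (m &&& 3) 0 && !Nat.beq m 12

theorem pairs_fix : fixB pairsGens [12, 1 <<< 0, 1 <<< 1] = true := by decide +kernel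

theorem pairs_cls : classB pairsGens pairsCls pairVal pairList = true := by decide +kernel

theorem inOct_iff {g : Equiv.Perm GolayPt} (hg : g ∈ M24) {p q : GolayPt} (hgp : g p = H94.ptN 0)
    (hgq : g q = H94.ptN 1) {s t : Finset GolayPt} (hs : g • s = H90.setOf' 12) {m : ℕ}
    (hm : m < 2 ^ 24) (ht : g • t = H90.setOf' m) :
    (∃ o ∈ octads, p ∈ o ∧ q ∈ o ∧ s ∪ t ⊆ o) ↔ inOct m = true := by
  rw [inOct, List.any_eq_true]
  constructor
  · rintro ⟨o, ho, hp, hq, hsub⟩
    obtain ⟨a, ha, hao⟩ := exists_objs (f := fun m => H94.bitB m 0 && H94.bitB m 1)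
      (smul_mem_words hg ho) fun a _ he => by
        simp [(bit_of_mem (by norm_num) hgp he).mpr hp, (bit_of_mem (by norm_num) hgq he).mpr hq]
    refine ⟨a, ha, ?_⟩
    have hsub' : H90.setOf' (12 ||| m) ⊆ H90.setOf' a := by
      rw [H90.setOf'_or, ← hs, ← ht, ← Finset.smul_finset_union, ← hao]
      exact Finset.smul_finset_subset_smul_finset hsub
    have e : a &&& (12 ||| m) = 12 ||| m :=
      H90.setOf'_injOn (Nat.and_lt_two_pow _ (Nat.or_lt_two_pow (by norm_num) hm))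
        (Nat.or_lt_two_pow (by norm_num) hm)
        (by rw [H90.setOf'_and, Finset.inter_eq_right.mpr hsub'])
    rw [e]; exact Nat.beq_refl _
  · rintro ⟨a, ha, he⟩
    obtain ⟨⟨n, ⟨hn, hw⟩, rfl⟩, hbits⟩ := mem_objs.mp ha
    rw [Bool.and_eq_true] at hbits
    refine ⟨g⁻¹ • H90.setOf' (H90.encode n),
      smul_mem_words (M24.inv_mem hg) (H90.mem_wordsOfWeight_iff.mpr ⟨n, hn, hw, rfl⟩), ?_, ?_, ?_⟩
    · rw [smul_point_iff _ _ hgp, mem_setOf'_bitB (by norm_num)]; exact hbits.1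
    · rw [smul_point_iff _ _ hgq, mem_setOf'_bitB (by norm_num)]; exact hbits.2
    · have e := Nat.eq_of_beq_eq_true he
      rw [← Finset.smul_finset_subset_smul_finset_iff (a := g), Finset.smul_finset_union, smul_inv_smul,
        hs, ht, ← H90.setOf'_or, ← e, H90.setOf'_and]
      exact Finset.inter_subset_left

/-- Normal position for two points and a disjoint pair. -/
theorem normal_pairs {p q : GolayPt} (hpq : p ≠ q) {s : Finset GolayPt}
    (hs : s.card = 2 ∧ p ∉ s ∧ q ∉ s) :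
    ∃ g ∈ M24, g p = H94.ptN 0 ∧ g q = H94.ptN 1 ∧ g • s = H90.setOf' 12 := by
  obtain ⟨hc, hp, hq⟩ := hs
  obtain ⟨a, b, hab, rfl⟩ := Finset.card_eq_two.mp hc
  simp only [Finset.mem_insert, Finset.mem_singleton, not_or] at hp hq
  obtain ⟨g, hg, hga⟩ := H94.exists_five_images (fun i => [p, q, a, b].getD i p) 4 (by norm_num)
    (by intro i hi j hj h; interval_cases i <;> interval_cases j <;> simp at h ⊢ <;> grind)
  have hpt : ∀ i < 4, g⁻¹ ([p, q, a, b].getD i p) = H94.ptN i := fun i hi => by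
    rw [Equiv.Perm.inv_def, Equiv.symm_apply_eq]; exact (hga i hi).symm
  refine ⟨g⁻¹, M24.inv_mem hg, hpt 0 (by norm_num), hpt 1 (by norm_num), ?_⟩
  rw [Finset.smul_finset_insert, Finset.smul_finset_singleton, Equiv.Perm.smul_def,
    Equiv.Perm.smul_def, show g⁻¹ a = H94.ptN 2 from hpt 2 (by norm_num),
    show g⁻¹ b = H94.ptN 3 from hpt 3 (by norm_num)]
  decide +kernel

theorem exists_pair_mask {g : Equiv.Perm GolayPt} {p q : GolayPt} (hgp : g p = H94.ptN 0)
    (hgq : g q = H94.ptN 1) {s t : Finset GolayPt} (hgs : g • s = H90.setOf' 12)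
    (ht : t.card = 2 ∧ p ∉ t ∧ q ∉ t) (hne : t ≠ s) :
    ∃ m ∈ pairList, m < 2 ^ 24 ∧ g • t = H90.setOf' m := by
  obtain ⟨hc, hp, hq⟩ := ht
  obtain ⟨a, b, hab, he⟩ := Finset.card_eq_two.mp hc
  obtain ⟨i, hi, hgi⟩ : ∃ i < 24, g a = H94.ptN i := ⟨_, H94.idxN_lt _, (H94.ptN_idxN _).symm⟩
  obtain ⟨j, hj, hgj⟩ : ∃ j < 24, g b = H94.ptN j := ⟨_, H94.idxN_lt _, (H94.ptN_idxN _).symm⟩
  have hij : i ≠ j := fun h => hab (g.injective (by rw [hgi, hgj, h]))
  have hset : g • t = H90.setOf' ((1 <<< i) ||| (1 <<< j)) := by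
    rw [he, H90.setOf'_or, setOf'_single hi, setOf'_single hj, Finset.smul_finset_insert,
      Finset.smul_finset_singleton, Equiv.Perm.smul_def, Equiv.Perm.smul_def, hgi, hgj,
      Finset.insert_eq]
  have hlt : ∀ i < 24, ∀ j < 24, (1 <<< i ||| 1 <<< j) < 2 ^ 24 := by decide +kernel
  have hm3 : ∀ {r : GolayPt} {k : ℕ}, k < 24 → g r = H94.ptN k → r ∉ t →
      H94.bitB ((1 <<< i) ||| (1 <<< j)) k = false := fun {r k} hk hr hrt => by
    rw [Bool.eq_false_iff, ne_eq, ← mem_setOf'_bitB hk, ← hset, ← hr, mem_smul_apply]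
    exact hrt
  refine ⟨_, ?_, hlt i hi j hj, hset⟩
  have key : ∀ i < 24, ∀ j < 24, i ≠ j →
      H94.bitB ((1 <<< i) ||| (1 <<< j)) 0 = false → H94.bitB ((1 <<< i) ||| (1 <<< j)) 1 = false →
      ((1 <<< i) ||| (1 <<< j)) ≠ 12 → ((1 <<< i) ||| (1 <<< j)) ∈ pairList := by decide +kernel
  refine key i hi j hj hij (hm3 (by norm_num) hgp hp) (hm3 (by norm_num) hgq hq) fun h12 => hne ?_
  exact (MulAction.injective g) (hset.trans (h12 ▸ hgs.symm))

theorem pairs_conj {p q : GolayPt} (hpq : p ≠ q) {s : Finset GolayPt}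
    (hs : s.card = 2 ∧ p ∉ s ∧ q ∉ s) {t t' : Finset GolayPt} (ht : t.card = 2 ∧ p ∉ t ∧ q ∉ t)
    (ht' : t'.card = 2 ∧ p ∉ t' ∧ q ∉ t') (hne : t ≠ s) (hne' : t' ≠ s)
    (hcard : (s ∩ t).card = (s ∩ t').card)
    (hoct : (∃ o ∈ octads, p ∈ o ∧ q ∈ o ∧ s ∪ t ⊆ o) ↔
      (∃ o ∈ octads, p ∈ o ∧ q ∈ o ∧ s ∪ t' ⊆ o)) :
    ∃ g ∈ M24, g p = p ∧ g q = q ∧ g • s = s ∧ g • t = t' := by
  obtain ⟨g, hg, hgp, hgq, hgs⟩ := normal_pairs hpq hs
  obtain ⟨a, ha, hal, hat⟩ := exists_pair_mask hgp hgq hgs ht hne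
  obtain ⟨b, hb, hbl, hbt⟩ := exists_pair_mask hgp hgq hgs ht' hne'
  rw [inOct_iff hg hgp hgq hgs hal hat, inOct_iff hg hgp hgq hgs hbl hbt, ← Bool.eq_iff_iff] at hoct
  have hval : pairVal a = pairVal b := by
    simp only [pairVal, ← card_inter_setOf', ← hgs, ← hat, ← hbt, card_inter_smul, hcard, hoct]
  obtain ⟨k, hk, hkf, hks⟩ := conjugate_of_classB pairs_fix pairs_cls ha hb hval
  exact ⟨_, pullback hg hk, pullback_point hgp (fixes_point (by norm_num) (hkf _ (by simp))),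
    pullback_point hgq (fixes_point (by norm_num) (hkf _ (by simp))),
    pullback_set (by rw [hgs, hkf _ (by simp)]), pullback_set (by rw [hat, hbt, hks])⟩

theorem pairList_nodup : pairList.Nodup := by decide +kernel

theorem pairs_count {p q : GolayPt} (hpq : p ≠ q) {s : Finset GolayPt}
    (hs : s.card = 2 ∧ p ∉ s ∧ q ∉ s) (b : Bool) :
    {t : Finset GolayPt | (t.card = 2 ∧ p ∉ t ∧ q ∉ t) ∧ Disjoint s t ∧
        ((∃ o ∈ octads, p ∈ o ∧ q ∈ o ∧ s ∪ t ⊆ o) ↔ b = true)}.ncard =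
      (pairList.filter fun m => Nat.beq (12 &&& m) 0 && (inOct m == b)).length := by
  classical
  obtain ⟨g, hg, hgp, hgq, hgs⟩ := normal_pairs hpq hs
  have hplt : ∀ m ∈ pairList, m < 2 ^ 24 ∧ H90.popc m = 2 ∧ H94.bitB m 0 = false ∧
      H94.bitB m 1 = false := by decide +kernel
  rw [← List.toFinset_card_of_nodup (List.Nodup.filter _ pairList_nodup), ← Set.ncard_coe_finset]
  refine (Set.ncard_congr (fun m _ => g⁻¹ • H90.setOf' m) ?_ ?_ ?_).symm
  · intro m hm
    simp only [Finset.mem_coe, List.mem_toFinset, List.mem_filter, Bool.and_eq_true, beq_iff_eq] at hm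
    obtain ⟨hm, h12, hin⟩ := hm
    obtain ⟨hl, h2, b0, b1⟩ := hplt m hm
    refine ⟨⟨by rw [Finset.card_smul_finset, H90.card_setOf', h2], ?_, ?_⟩, ?_, ?_⟩
    · rw [smul_point_iff _ _ hgp, mem_setOf'_bitB (by norm_num), b0]; simp
    · rw [smul_point_iff _ _ hgq, mem_setOf'_bitB (by norm_num), b1]; simp
    · rw [Finset.disjoint_iff_inter_eq_empty, ← Finset.card_eq_zero, card_inter_inv, hgs,
        card_inter_setOf', Nat.eq_of_beq_eq_true h12]
      decide +kernel
    · rw [inOct_iff hg hgp hgq hgs hl (smul_inv_smul g _), hin]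
  · intro m m' hm hm' he
    simp only [Finset.mem_coe, List.mem_toFinset, List.mem_filter] at hm hm'
    exact H90.setOf'_injOn (hplt m hm.1).1 (hplt m' hm'.1).1 (MulAction.injective _ he)
  · rintro t ⟨ht, hdis, hiff⟩
    have hne : t ≠ s := by
      rintro rfl
      rw [disjoint_self] at hdis
      simp [hdis] at hs
    obtain ⟨m, hm, hml, hmt⟩ := exists_pair_mask hgp hgq hgs ht hne
    refine ⟨m, ?_, by rw [← hmt, inv_smul_smul]⟩
    simp only [Finset.mem_coe, List.mem_toFinset, List.mem_filter, Bool.and_eq_true, beq_iff_eq]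
    refine ⟨hm, ?_, ?_⟩
    · have e : H90.setOf' (12 &&& m) = H90.setOf' 0 := by
        rw [H90.setOf'_and, ← hgs, ← hmt, ← Finset.smul_finset_inter,
          Finset.disjoint_iff_inter_eq_empty.mp hdis, Finset.smul_finset_empty]
        decide +kernel
      rw [H90.setOf'_injOn (lt_of_le_of_lt Nat.and_le_right hml) (by norm_num) e]
      rfl
    · rw [inOct_iff hg hgp hgq hgs hml hmt] at hiff
      exact Bool.eq_iff_iff.mpr hiff

end H92

end
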