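import Cfsg.Agent.H90.Code
import Cfsg.Agent.H94.AbstractGolay

/-! The punctured binary code of length 23. -/

set_option autoImplicit false

namespace H92

open Cfsg

theorem golayLike : H94.GolayLike (α := GolayPt) golayCode :=
  ⟨by simp [GolayPt], H90.finrank_golayCode, fun _ hw h0 => H90.eight_le_weight hw h0⟩

/-- Delete the extra point. -/
def punct (w : GolayPt → ZMod 2) : ZMod 23 → ZMod 2 := fun x => w (some x)

/-- The punctured code, as a set. -/
def punctCode : Set (ZMod 23 → ZMod 2) :=
  {u | ∃ w ∈ golayCode, ∀ x : ZMod 23, u x = w (some x)}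

theorem hammingNorm_split (w : GolayPt → ZMod 2) :
    hammingNorm w = (if w none ≠ 0 then 1 else 0) + hammingNorm (punct w) := by
  unfold hammingNorm
  rw [Finset.card_filter, Finset.card_filter]
  exact Fintype.sum_option (fun i => if w i ≠ 0 then 1 else 0)

theorem hammingNorm_le_punct (w : GolayPt → ZMod 2) :
    hammingNorm w ≤ hammingNorm (punct w) + 1 := by
  rw [hammingNorm_split]
  split_ifs <;> omega

theorem hammingNorm_punct_of_none {w : GolayPt → ZMod 2} (h : w none ≠ 0) :
    hammingNorm (punct w) + 1 = hammingNorm w := by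
  rw [hammingNorm_split w, if_pos h]
  omega

theorem hammingNorm_punct_le (w : GolayPt → ZMod 2) : hammingNorm (punct w) ≤ hammingNorm w := by
  rw [hammingNorm_split w]
  omega

theorem punct_min {w : GolayPt → ZMod 2} (hw : w ∈ golayCode) (h0 : w ≠ 0) :
    7 ≤ hammingNorm (punct w) := by
  have := H90.eight_le_weight hw h0
  have := hammingNorm_le_punct w
  omega

theorem punct_injOn : Set.InjOn punct (golayCode : Set (GolayPt → ZMod 2)) := by
  intro v hv w hw h
  by_contra hne
  have h7 := punct_min (sub_mem hv hw) (sub_ne_zero.mpr hne)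
  have : punct (v - w) = 0 := funext fun x => sub_eq_zero.mpr (congrFun h x)
  rw [this, hammingNorm_zero] at h7
  omega

theorem punctCode_eq : punctCode = punct '' (golayCode : Set (GolayPt → ZMod 2)) := by
  ext u
  constructor
  · rintro ⟨w, hw, h⟩; exact ⟨w, hw, (funext h).symm⟩
  · rintro ⟨w, hw, rfl⟩; exact ⟨w, hw, fun x => rfl⟩

theorem punctCode_ncard : punctCode.ncard = 4096 := by
  rw [punctCode_eq, Set.InjOn.ncard_image punct_injOn, ← Nat.card_coe_set_eq,
    SetLike.coe_sort_coe, H90.natCard_golayCode]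
  norm_num

theorem punct_weight_wordOf (m : ℕ) :
    hammingNorm (punct (H90.wordOf m)) + (if m.testBit 23 then 1 else 0) = H90.popc m := by
  rw [← H90.hammingNorm_wordOf, hammingNorm_split (H90.wordOf m)]
  have e : H90.wordOf m none = if m.testBit 23 then 1 else 0 := rfl
  rw [e]
  split_ifs <;> simp_all [add_comm]

/-- Punctured weight of an information word. -/
def punctWt (n : ℕ) : ℕ :=
  H90.popc (H90.encode n) - (if (H90.encode n).testBit 23 then 1 else 0)

theorem punctWt_eq (n : ℕ) : hammingNorm (punct (H90.wordOf (H90.encode n))) = punctWt n := by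
  have := punct_weight_wordOf (H90.encode n)
  unfold punctWt
  omega

theorem punctCode_weight_ncard (k : ℕ) :
    {u : ZMod 23 → ZMod 2 | u ∈ punctCode ∧ hammingNorm u = k}.ncard =
      ((List.range 4096).filter fun n => Nat.beq (punctWt n) k).length := by
  classical
  have hset : {u : ZMod 23 → ZMod 2 | u ∈ punctCode ∧ hammingNorm u = k} =
      ↑(((List.range 4096).filter fun n => Nat.beq (punctWt n) k).toFinset.image
        fun n => punct (H90.wordOf (H90.encode n))) := by
    ext u
    simp only [Set.mem_ofPred_eq, Finset.coe_image, Set.mem_image,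
      List.mem_toFinset, List.mem_filter, List.mem_range, punctCode_eq, SetLike.mem_coe]
    constructor
    · rintro ⟨⟨w, hw, rfl⟩, hk⟩
      obtain ⟨n, hn, rfl⟩ := H90.mem_golayCode_iff.mp hw
      exact ⟨n, ⟨hn, by simpa [punctWt_eq] using hk⟩, rfl⟩
    · rintro ⟨n, ⟨_, hk⟩, rfl⟩
      exact ⟨⟨_, H90.wordOf_encode_mem n, rfl⟩, (punctWt_eq n).trans (Nat.eq_of_beq_eq_true hk)⟩
  rw [hset, Set.ncard_coe_finset, Finset.card_image_of_injOn, List.toFinset_card_of_nodup]
  · exact List.nodup_range.filter _
  · intro a ha b hb hab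
    simp only [List.coe_toFinset, Set.mem_ofPred_eq, List.mem_filter, List.mem_range] at ha hb
    exact H90.encode_injOn ha.1 hb.1 (H90.wordOf_injOn (H90.encode_lt ha.1) (H90.encode_lt hb.1)
      (punct_injOn (H90.wordOf_encode_mem a) (H90.wordOf_encode_mem b) hab))

theorem punct_perfect (u : ZMod 23 → ZMod 2) :
    ∃! c : ZMod 23 → ZMod 2, c ∈ punctCode ∧ hammingDist u c ≤ 3 := by
  classical
  let w : GolayPt → ZMod 2 := fun p => p.elim 0 u
  have hu : punct w = u := rfl
  have hex : ∃ c, c ∈ punctCode ∧ hammingDist u c ≤ 3 := by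
    suffices ∃ v : GolayPt → ZMod 2, v - w ∈ golayCode ∧ hammingNorm (punct v) ≤ 3 by
      obtain ⟨v, hv, h3⟩ := this
      refine ⟨punct (w - v), ⟨w - v, by simpa using golayCode.neg_mem hv, fun x => rfl⟩, ?_⟩
      rw [hammingDist_eq_hammingNorm]
      have e : -(punct v) = -u + punct (w - v) := funext fun x => by
        show -(v (some x)) = -u x + (u x - v (some x))
        ring
      rw [← e]
      simpa [hammingNorm] using h3
    rcases golayLike.coset_cases w with ⟨v, hv, h3⟩ | ⟨S, hS6, hS⟩
    · exact ⟨v, hv, (hammingNorm_punct_le v).trans h3⟩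
    · have hd : (S.biUnion H94.sup2).card = ∑ v ∈ S, (H94.sup2 v).card :=
        Finset.card_biUnion fun a ha b hb hab => (golayLike.disjoint_of_four
          (by simpa using sub_mem ((hS a).mp ha).1 ((hS b).mp hb).1) hab
          ((hS a).mp ha).2 ((hS b).mp hb).2).1
      have hcov : S.biUnion H94.sup2 = Finset.univ := by
        apply Finset.eq_univ_of_card
        rw [hd, Finset.sum_congr rfl (g := fun _ => 4)
          (fun a ha => (H94.hammingNorm_eq_sup2 a).symm.trans ((hS a).mp ha).2), Finset.sum_const, hS6]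
        simp [GolayPt]
      obtain ⟨v, hvS, hvn⟩ := Finset.mem_biUnion.mp (hcov ▸ Finset.mem_univ (none : GolayPt))
      refine ⟨v, ((hS v).mp hvS).1, ?_⟩
      have := hammingNorm_punct_of_none (H94.mem_sup2.mp hvn)
      have := ((hS v).mp hvS).2
      omega
  obtain ⟨c, hc⟩ := hex
  refine ⟨c, hc, fun c' hc' => ?_⟩
  by_contra hne
  obtain ⟨a, ha, rfl⟩ := punctCode_eq ▸ hc.1
  obtain ⟨b, hb, rfl⟩ := punctCode_eq ▸ hc'.1
  have hab : b ≠ a := fun h => hne (h ▸ rfl)
  have h7 := punct_min (sub_mem hb ha) (sub_ne_zero.mpr hab)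
  have h6 : hammingDist (punct b) (punct a) ≤ 6 := by
    refine (hammingDist_triangle_left (punct b) (punct a) u).trans ?_
    have := hc.2
    have := hc'.2
    omega
  rw [hammingDist_eq_hammingNorm] at h6
  have e : punct (b - a) = punct b - punct a := rfl
  rw [e] at h7
  have e' : -(punct b) + punct a = -(punct b - punct a) := by abel
  rw [e'] at h6
  have : hammingNorm (-(punct b - punct a)) = hammingNorm (punct b - punct a) := by
    simp [hammingNorm, sub_eq_zero, eq_comm]
  omega

end H92
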