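import Cfsg.Agent.H92.QuartetStab

/-!
Orbits of a quartet stabiliser on the quartets of its dodecad.
-/

set_option autoImplicit false

noncomputable section

namespace H92

open Cfsg
open scoped Pointwise

/-- The first entry is a representative; closure and coverage of an orbit list. -/
def orbB (O : List (List ℕ)) : Bool :=
  match O with
  | [] => false
  | X :: _ => distinctB O && O.all qValid &&
      (qStab.all fun l => O.any fun o => o.all (X.map (H94.pmask l)).elem) &&
      O.all fun o => qStab.any fun l => o.all (X.map (H94.pmask l)).elem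

theorem qOrb_ok : orbB qOrb1 = true ∧ orbB qOrb2 = true ∧ orbB qOrb3 = true ∧ orbB qOrb4 = true := by
  decide +kernel

theorem qList_split : qList.all (fun q => (q.all q0.elem) || (qOrb1 ++ qOrb2 ++ qOrb3 ++ qOrb4).any
    fun o => q.all o.elem) = true := by decide +kernel

theorem qSet_eq_of_sub {X o : List ℕ} {σ : Equiv.Perm GolayPt} {l : ℕ} (hR : H94.Reps l σ)
    (hX : qValid X = true) (ho : qValid o = true) (h : o.all (X.map (H94.pmask l)).elem = true) :
    σ • qSet X = qSet o := by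
  symm
  refine Finset.eq_of_subset_of_card_le (fun t ht => ?_)
    (by rw [Finset.card_smul_finset, (qValid_mem hX).1, (qValid_mem ho).1])
  obtain ⟨m, hm, rfl⟩ := mem_qSet.mp ht
  have h1 := List.all_eq_true.mp h m hm
  simp only [List.elem_eq_mem, decide_eq_true_iff, List.mem_map] at h1
  obtain ⟨x, hx, rfl⟩ := h1
  rw [hR.setOf']
  exact Finset.smul_mem_smul_finset (mem_qSet.mpr ⟨x, hx, rfl⟩)

theorem orbit_base {X : List ℕ} {r : List (List ℕ)} (h : orbB (X :: r) = true) :
    qSet X ∈ quartets (H90.setOf' dod0) ∧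
      MulAction.orbit qGrp0 (qSet X) = {Q | Q ∈ (X :: r).map qSet} ∧
      (MulAction.orbit qGrp0 (qSet X)).ncard = (X :: r).length := by
  obtain ⟨O, hO⟩ : ∃ O, O = X :: r := ⟨_, rfl⟩
  simp only [orbB, Bool.and_eq_true] at h
  rw [← hO] at h ⊢
  obtain ⟨⟨⟨hd, hv⟩, hcl⟩, hcov⟩ := h
  have hX : qValid X = true := List.all_eq_true.mp hv X (by simp [hO])
  have horb : MulAction.orbit qGrp0 (qSet X) = {Q | Q ∈ O.map qSet} := by
    ext Q
    constructor
    · rintro ⟨g, rfl⟩
      obtain ⟨l, hl, hR⟩ := qGrp0_rep g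
      have h1 := List.all_eq_true.mp hcl l hl
      rw [List.any_eq_true] at h1
      obtain ⟨o, ho, he⟩ := h1
      exact List.mem_map.mpr ⟨o, ho, (qSet_eq_of_sub hR hX (List.all_eq_true.mp hv o ho) he).symm⟩
    · intro hQ
      obtain ⟨o, ho, rfl⟩ := List.mem_map.mp hQ
      have h1 := List.all_eq_true.mp hcov o ho
      rw [List.any_eq_true] at h1
      obtain ⟨l, hl, he⟩ := h1
      obtain ⟨g, hR⟩ := qStab_exists l hl
      exact ⟨g, qSet_eq_of_sub hR hX (List.all_eq_true.mp hv o ho) he⟩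
  refine ⟨qValid_mem hX, horb, ?_⟩
  rw [horb, show {Q | Q ∈ O.map qSet} = ↑((O.map qSet).toFinset) from (List.coe_toFinset _).symm,
    Set.ncard_coe_finset, List.toFinset_card_of_nodup (distinctB_nodup O hv hd), List.length_map]

theorem qSet_eq_of_all {q o : List ℕ} (hq : qValid q = true) (ho : qValid o = true)
    (h : q.all o.elem = true) : qSet q = qSet o := by
  refine Finset.eq_of_subset_of_card_le (fun t ht => ?_)
    (by rw [(qValid_mem hq).1, (qValid_mem ho).1])
  obtain ⟨m, hm, rfl⟩ := mem_qSet.mp ht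
  exact mem_qSet.mpr ⟨m, by simpa using List.all_eq_true.mp h m hm, rfl⟩

theorem qOrb_facts {O : List (List ℕ)} (h : orbB O = true) :
    ∃ X, X ∈ quartets (H90.setOf' dod0) ∧ (MulAction.orbit qGrp0 X).ncard = O.length ∧
      MulAction.orbit qGrp0 X = {Q | Q ∈ O.map qSet} ∧ O.all qValid = true := by
  cases O with
  | nil => simp [orbB] at h
  | cons X r =>
    obtain ⟨h1, h2, h3⟩ := orbit_base h
    simp only [orbB, Bool.and_eq_true] at h
    exact ⟨qSet X, h1, h3, h2, h.1.1.2⟩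

theorem orbit_transport {d d' : Finset GolayPt} {Q Q' : Finset (Finset GolayPt)}
    {g : Equiv.Perm GolayPt} (hg : g ∈ M24) (hd : g • d = d') (hQ : g • Q = Q')
    (X : Finset (Finset GolayPt)) :
    MulAction.orbit (qGrp d Q) (g⁻¹ • X) = (fun R => g⁻¹ • R) '' MulAction.orbit (qGrp d' Q') X := by
  ext R
  constructor
  · rintro ⟨k, rfl⟩
    refine ⟨qGrpEquiv hg hd hQ k • X, ⟨_, rfl⟩, ?_⟩
    show g⁻¹ • ((g * ((k : M24) : Equiv.Perm GolayPt) * g⁻¹) • X) = ((k : M24) : Equiv.Perm GolayPt) • g⁻¹ • X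
    rw [mul_smul, mul_smul, inv_smul_smul]
  · rintro ⟨_, ⟨k, rfl⟩, rfl⟩
    refine ⟨(qGrpEquiv hg hd hQ).symm k, ?_⟩
    show (g⁻¹ * ((k : M24) : Equiv.Perm GolayPt) * g) • g⁻¹ • X = g⁻¹ • ((k : M24) : Equiv.Perm GolayPt) • X
    rw [mul_smul, mul_smul, smul_inv_smul]

theorem quartet_orbits {d : Finset GolayPt} (hd : d ∈ dodecads) {Q : Finset (Finset GolayPt)}
    (hQ : Q ∈ quartets d) :
    ∃ X₁ ∈ quartets d, ∃ X₂ ∈ quartets d, ∃ X₃ ∈ quartets d, ∃ X₄ ∈ quartets d,
      (MulAction.orbit (qGrp d Q) X₁).ncard = 12 ∧ (MulAction.orbit (qGrp d Q) X₂).ncard = 27 ∧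
      (MulAction.orbit (qGrp d Q) X₃).ncard = 72 ∧ (MulAction.orbit (qGrp d Q) X₄).ncard = 108 ∧
      quartets d = {Q} ∪ MulAction.orbit (qGrp d Q) X₁ ∪ MulAction.orbit (qGrp d Q) X₂ ∪
        MulAction.orbit (qGrp d Q) X₃ ∪ MulAction.orbit (qGrp d Q) X₄ := by
  obtain ⟨g, hg, hgd, hgQ⟩ := normal_quartet hd hQ
  obtain ⟨o1, o2, o3, o4⟩ := qOrb_ok
  obtain ⟨X1, m1, c1, e1, v1⟩ := qOrb_facts o1
  obtain ⟨X2, m2, c2, e2, v2⟩ := qOrb_facts o2
  obtain ⟨X3, m3, c3, e3, v3⟩ := qOrb_facts o3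
  obtain ⟨X4, m4, c4, e4, v4⟩ := qOrb_facts o4
  have hinj : Function.Injective (fun R : Finset (Finset GolayPt) => g⁻¹ • R) := MulAction.injective _
  have hback : ∀ {X}, X ∈ quartets (H90.setOf' dod0) → g⁻¹ • X ∈ quartets d := fun hX => by
    have := smul_mem_quartets (M24.inv_mem hg) hX
    rwa [← hgd, inv_smul_smul] at this
  have hlen : qOrb1.length = 12 ∧ qOrb2.length = 27 ∧ qOrb3.length = 72 ∧ qOrb4.length = 108 := by
    decide +kernel
  refine ⟨_, hback m1, _, hback m2, _, hback m3, _, hback m4, ?_, ?_, ?_, ?_, ?_⟩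
  all_goals simp only [orbit_transport hg hgd hgQ]
  · rw [Set.ncard_image_of_injective _ hinj, c1, hlen.1]
  · rw [Set.ncard_image_of_injective _ hinj, c2, hlen.2.1]
  · rw [Set.ncard_image_of_injective _ hinj, c3, hlen.2.2.1]
  · rw [Set.ncard_image_of_injective _ hinj, c4, hlen.2.2.2]
  have hset : quartets (H90.setOf' dod0) = {qSet q0} ∪ MulAction.orbit qGrp0 X1 ∪
      MulAction.orbit qGrp0 X2 ∪ MulAction.orbit qGrp0 X3 ∪ MulAction.orbit qGrp0 X4 := by
    apply Set.Subset.antisymm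
    · intro R hR
      obtain ⟨q, hq, rfl⟩ := mem_qList hR
      have hqv := List.all_eq_true.mp qList_valid q hq
      have h := List.all_eq_true.mp qList_split q hq
      rw [Bool.or_eq_true, List.any_eq_true] at h
      rcases h with h | ⟨o, ho, h⟩
      · simp [qSet_eq_of_all hqv q0_valid h]
      · have hov : qValid o = true := by
          simp only [List.mem_append] at ho
          rcases ho with ((ho | ho) | ho) | ho
          exacts [List.all_eq_true.mp v1 o ho, List.all_eq_true.mp v2 o ho,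
            List.all_eq_true.mp v3 o ho, List.all_eq_true.mp v4 o ho]
        rw [qSet_eq_of_all hqv hov h, e1, e2, e3, e4]
        simp only [List.mem_append] at ho
        simp only [Set.mem_union, Set.mem_ofPred_eq, List.mem_map]
        rcases ho with ((ho | ho) | ho) | ho
        exacts [Or.inl (Or.inl (Or.inl (Or.inr ⟨o, ho, rfl⟩))),
          Or.inl (Or.inl (Or.inr ⟨o, ho, rfl⟩)), Or.inl (Or.inr ⟨o, ho, rfl⟩), Or.inr ⟨o, ho, rfl⟩]
    · have horb : ∀ X ∈ quartets (H90.setOf' dod0),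
          MulAction.orbit qGrp0 X ⊆ quartets (H90.setOf' dod0) := by
        rintro X hX _ ⟨k, rfl⟩
        have := smul_mem_quartets (k : M24).2 hX
        rwa [(mem_qGrp.mp k.2).1] at this
      simp only [Set.union_subset_iff, Set.singleton_subset_iff]
      exact ⟨⟨⟨⟨q0_mem, horb _ m1⟩, horb _ m2⟩, horb _ m3⟩, horb _ m4⟩
  rw [← inv_smul_smul g d, ← image_quartets (M24.inv_mem hg), hgd, hset]
  simp only [Set.image_union, Set.image_singleton, ← hgQ, inv_smul_smul]

end H92

end
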