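import Cfsg.Agent.H92.DodStab
import Cfsg.Agent.H92.QuartetData

/-!
Quartets of a dodecad: normal position, uniqueness, enumeration.
-/

set_option autoImplicit false

noncomputable section

namespace H92

open Cfsg
open scoped Pointwise

/-- A list of masks read as a set of point sets. -/
def qSet (q : List ℕ) : Finset (Finset GolayPt) := (q.map H90.setOf').toFinset

theorem mem_qSet {q : List ℕ} {t : Finset GolayPt} :
    t ∈ qSet q ↔ ∃ m ∈ q, H90.setOf' m = t := by simp [qSet]

theorem hexList_ok : (((objs 8 fun o => Nat.beq (H90.popc (o &&& dod0)) 6).map (· &&& dod0)).all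
    hexList.elem && hexList.all
      (((objs 8 fun o => Nat.beq (H90.popc (o &&& dod0)) 6).map (· &&& dod0)).elem ·)) = true := by
  decide +kernel

theorem hexadsOn_base_iff {x : Finset GolayPt} :
    x ∈ hexadsOn (H90.setOf' dod0) ↔ ∃ m ∈ hexList, H90.setOf' m = x := by
  have h := hexList_ok
  rw [Bool.and_eq_true] at h
  constructor
  · rintro ⟨h6, o, ho, rfl⟩
    obtain ⟨m, hm, rfl⟩ := exists_objs (f := fun o => Nat.beq (H90.popc (o &&& dod0)) 6) ho
      fun m _ he => by
        rw [he, ← H90.setOf'_and, H90.card_setOf'] at h6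
        rw [h6]; rfl
    refine ⟨m &&& dod0, ?_, H90.setOf'_and _ _⟩
    simpa using List.all_eq_true.mp h.1 _ (List.mem_map.mpr ⟨m, hm, rfl⟩)
  · rintro ⟨m, hm, rfl⟩
    have h2 := List.all_eq_true.mp h.2 m hm
    simp only [List.elem_eq_mem, decide_eq_true_iff, List.mem_map] at h2
    obtain ⟨o, ho, rfl⟩ := h2
    obtain ⟨⟨n, ⟨hn, hw⟩, rfl⟩, hf⟩ := mem_objs.mp ho
    exact ⟨by rw [H90.card_setOf']; exact Nat.eq_of_beq_eq_true hf, _,
      H90.mem_wordsOfWeight_iff.mpr ⟨n, hn, hw, rfl⟩, (H90.setOf'_and _ _).symm⟩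

theorem hexList_lt : hexList.all (fun m => Nat.blt m 16777216) = true := by decide +kernel

theorem hexList_mem_iff {m : ℕ} (hm : m < 2 ^ 24) :
    H90.setOf' m ∈ hexadsOn (H90.setOf' dod0) ↔ m ∈ hexList := by
  rw [hexadsOn_base_iff]
  refine ⟨fun ⟨k, hk, he⟩ => ?_, fun h => ⟨m, h, rfl⟩⟩
  have hk' : k < 2 ^ 24 := Nat.le_of_ble_eq_true (List.all_eq_true.mp hexList_lt k hk)
  exact H90.setOf'_injOn hk' hm he ▸ hk

theorem dodPos_ok : (List.range 24).all (fun i => !H94.bitB dod0 i || dodPos.elem i) = true := by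
  decide +kernel

theorem mem_dodPos {p : GolayPt} (hp : p ∈ H90.setOf' dod0) : H94.idxN p ∈ dodPos := by
  have h := List.all_eq_true.mp dodPos_ok _ (List.mem_range.mpr (H94.idxN_lt p))
  rw [H94.bitB_eq, H94.mem_setOf'_idxN.mp hp] at h
  simpa using h

theorem triList_ok : dodPos.all (fun i => dodPos.all fun j => dodPos.all fun k =>
    Nat.beq i j || Nat.beq i k || Nat.beq j k ||
      triList.elem (1 <<< i ||| 1 <<< j ||| 1 <<< k)) = true := by decide +kernel

theorem exists_triple {v : Finset GolayPt} (h3 : v.card = 3) (hv : v ⊆ H90.setOf' dod0) :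
    ∃ m ∈ triList, H90.setOf' m = v := by
  obtain ⟨x, y, z, hxy, hxz, hyz, rfl⟩ := Finset.card_eq_three.mp h3
  simp only [Finset.insert_subset_iff, Finset.singleton_subset_iff] at hv
  have h := List.all_eq_true.mp (List.all_eq_true.mp (List.all_eq_true.mp triList_ok _
    (mem_dodPos hv.1)) _ (mem_dodPos hv.2.1)) _ (mem_dodPos hv.2.2)
  have hne : ∀ {a b : GolayPt}, a ≠ b → Nat.beq (H94.idxN a) (H94.idxN b) = false := fun hab => by
    rw [Bool.eq_false_iff]
    exact fun he => hab (H94.idxN_injective (Nat.eq_of_beq_eq_true he))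
  simp only [hne hxy, hne hxz, hne hyz, Bool.false_or, List.elem_eq_mem, decide_eq_true_iff] at h
  refine ⟨_, h, ?_⟩
  simp only [H90.setOf'_or, setOf'_single (H94.idxN_lt _), H94.ptN_idxN]
  ext q
  simp [or_assoc]

theorem triList_lt {m : ℕ} (hm : m ∈ triList) : m < 2 ^ 24 := by
  have : triList.all (fun m => Nat.blt m 16777216) = true := by decide +kernel
  exact Nat.le_of_ble_eq_true (List.all_eq_true.mp this m hm)

theorem smul_mem_hexadsOn {g : Equiv.Perm GolayPt} (hg : g ∈ M24) {d h : Finset GolayPt}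
    (hh : h ∈ hexadsOn d) : g • h ∈ hexadsOn (g • d) := by
  obtain ⟨h6, o, ho, rfl⟩ := hh
  exact ⟨by rw [Finset.card_smul_finset, h6], g • o, smul_mem_words hg ho,
    Finset.smul_finset_inter.symm⟩

theorem smul_mem_quartets {g : Equiv.Perm GolayPt} (hg : g ∈ M24) {d : Finset GolayPt}
    {Q : Finset (Finset GolayPt)} (hQ : Q ∈ quartets d) : g • Q ∈ quartets (g • d) := by
  obtain ⟨h4, h3, hh⟩ := hQ
  refine ⟨by rw [Finset.card_smul_finset, h4], fun t ht => ?_, fun t ht u hu htu => ?_⟩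
  · obtain ⟨s, hs, rfl⟩ := Finset.mem_smul_finset.mp ht
    exact ⟨by rw [Finset.card_smul_finset, (h3 s hs).1],
      Finset.smul_finset_subset_smul_finset (h3 s hs).2⟩
  · obtain ⟨s, hs, rfl⟩ := Finset.mem_smul_finset.mp ht
    obtain ⟨r, hr, rfl⟩ := Finset.mem_smul_finset.mp hu
    rw [← Finset.smul_finset_union]
    exact smul_mem_hexadsOn hg (hh s hs r hr fun e => htu (by rw [e]))

theorem triples_disjoint {d t u : Finset GolayPt} (ht : t.card = 3) (hu : u.card = 3)
    (h : t ∪ u ∈ hexadsOn d) : Disjoint t u := by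
  rw [← Finset.card_union_eq_card_add_card, ht, hu, h.1]

/-- Validity of a list as a quartet. -/
def qValid (q : List ℕ) : Bool :=
  Nat.beq q.length 4 && q.all (fun t => Nat.blt t 16777216 && Nat.beq (H90.popc t) 3 &&
    Nat.beq (t &&& dod0) t) && q.Nodup && q.all fun t => q.all fun u =>
      Nat.beq t u || hexList.elem (t ||| u)

theorem qValid_lt {q : List ℕ} (h : qValid q = true) {t : ℕ} (ht : t ∈ q) : t < 2 ^ 24 := by
  simp only [qValid, Bool.and_eq_true] at h
  have := List.all_eq_true.mp h.1.1.2 t ht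
  simp only [Bool.and_eq_true] at this
  exact Nat.le_of_ble_eq_true this.1.1

theorem qValid_mem {q : List ℕ} (h : qValid q = true) : qSet q ∈ quartets (H90.setOf' dod0) := by
  have hlt := @qValid_lt q h
  simp only [qValid, Bool.and_eq_true, decide_eq_true_iff] at h
  obtain ⟨⟨⟨h4, hp⟩, hn⟩, hh⟩ := h
  refine ⟨?_, fun t ht => ?_, fun t ht u hu htu => ?_⟩
  · rw [qSet, List.toFinset_card_of_nodup
      (hn.map_on fun a ha b hb hab => H90.setOf'_injOn (hlt ha) (hlt hb) hab), List.length_map]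
    exact Nat.eq_of_beq_eq_true h4
  · obtain ⟨m, hm, rfl⟩ := mem_qSet.mp ht
    have h' := List.all_eq_true.mp hp m hm
    simp only [Bool.and_eq_true] at h'
    refine ⟨by rw [H90.card_setOf']; exact Nat.eq_of_beq_eq_true h'.1.2, ?_⟩
    rw [← Finset.inter_eq_left, ← H90.setOf'_and, Nat.eq_of_beq_eq_true h'.2]
  · obtain ⟨a, ha, rfl⟩ := mem_qSet.mp ht
    obtain ⟨b, hb, rfl⟩ := mem_qSet.mp hu
    have h' := List.all_eq_true.mp (List.all_eq_true.mp hh a ha) b hb
    rw [Bool.or_eq_true] at h'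
    rcases h' with h' | h'
    · exact absurd (by rw [Nat.eq_of_beq_eq_true h']) htu
    · rw [← H90.setOf'_or]
      exact hexadsOn_base_iff.mpr ⟨_, by simpa using h', rfl⟩

theorem q0_valid : qValid q0 = true := by decide +kernel

theorem q0_mem : qSet q0 ∈ quartets (H90.setOf' dod0) := qValid_mem q0_valid

theorem q0_complete : (q0.elem 7 && q0.elem 4120 && triList.all fun v =>
    !(Nat.beq v 7 || Nat.beq v 4120 || (hexList.elem (7 ||| v) && hexList.elem (4120 ||| v))) ||
      q0.elem v) = true := by decide +kernel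

theorem seven_mem : H90.setOf' 7 ∈ qSet q0 ∧ H90.setOf' 4120 ∈ qSet q0 :=
  ⟨mem_qSet.mpr ⟨7, by decide, rfl⟩, mem_qSet.mpr ⟨4120, by decide, rfl⟩⟩

theorem eq_q0 {Q : Finset (Finset GolayPt)} (hQ : Q ∈ quartets (H90.setOf' dod0))
    (hT : H90.setOf' 7 ∈ Q) (hU : H90.setOf' 4120 ∈ Q) : Q = qSet q0 := by
  obtain ⟨h4, h3, hh⟩ := hQ
  refine Finset.eq_of_subset_of_card_le (fun v hv => ?_) (by rw [h4, q0_mem.1])
  obtain ⟨m, hm, rfl⟩ := exists_triple (h3 v hv).1 (h3 v hv).2
  have hc := q0_complete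
  simp only [Bool.and_eq_true] at hc
  have h := List.all_eq_true.mp hc.2 m hm
  have key : (Nat.beq m 7 || Nat.beq m 4120 ||
      (hexList.elem (7 ||| m) && hexList.elem (4120 ||| m))) = true := by
    simp only [Bool.or_eq_true, Bool.and_eq_true, List.elem_eq_mem, decide_eq_true_iff]
    by_cases e7 : m = 7
    · exact Or.inl (Or.inl (by rw [e7]; rfl))
    by_cases e8 : m = 4120
    · exact Or.inl (Or.inr (by rw [e8]; rfl))
    refine Or.inr ⟨?_, ?_⟩
    · rw [← hexList_mem_iff (Nat.or_lt_two_pow (by norm_num) (triList_lt hm)), H90.setOf'_or]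
      exact hh _ hT _ hv fun e => e7 (H90.setOf'_injOn (by norm_num) (triList_lt hm) e).symm
    · rw [← hexList_mem_iff (Nat.or_lt_two_pow (by norm_num) (triList_lt hm)), H90.setOf'_or]
      exact hh _ hU _ hv fun e => e8 (H90.setOf'_injOn (by norm_num) (triList_lt hm) e).symm
  rw [key, Bool.not_true, Bool.false_or] at h
  exact mem_qSet.mpr ⟨m, by simpa using h, rfl⟩

theorem hex_five : hexList.all (fun m => !Nat.beq (m &&& 31) 31 || Nat.beq m 4127) = true := by
  decide +kernel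

/-- Two complementary triples of a hexad in normal position. -/
theorem normal_triples {d t u : Finset GolayPt} (hd : d ∈ dodecads) (ht : t.card = 3)
    (hu : u.card = 3) (htd : t ⊆ d) (hud : u ⊆ d) (hh : t ∪ u ∈ hexadsOn d) :
    ∃ g ∈ M24, g • d = H90.setOf' dod0 ∧ g • t = H90.setOf' 7 ∧ g • u = H90.setOf' 4120 := by
  have hdis := triples_disjoint ht hu hh
  obtain ⟨x, y, z, hxy, hxz, hyz, rfl⟩ := Finset.card_eq_three.mp ht
  obtain ⟨v, w, r, hvw, hvr, hwr, rfl⟩ := Finset.card_eq_three.mp hu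
  simp only [Finset.insert_subset_iff, Finset.singleton_subset_iff] at htd hud
  simp only [Finset.disjoint_insert_left, Finset.disjoint_singleton_left, Finset.mem_insert,
    Finset.mem_singleton, not_or] at hdis
  obtain ⟨g, hg, hgd, hga⟩ := normal_dod hd (fun i => [x, y, z, v, w].getD i x)
    (by intro i hi j hj h; interval_cases i <;> interval_cases j <;> simp at h ⊢ <;> grind)
    (by intro i hi; interval_cases i <;> simp [htd, hud])
  have g0 : g x = H94.ptN 0 := hga 0 (by norm_num)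
  have g1 : g y = H94.ptN 1 := hga 1 (by norm_num)
  have g2 : g z = H94.ptN 2 := hga 2 (by norm_num)
  have g3 : g v = H94.ptN 3 := hga 3 (by norm_num)
  have g4 : g w = H94.ptN 4 := hga 4 (by norm_num)
  have e7 : H90.setOf' 7 = {H94.ptN 0, H94.ptN 1, H94.ptN 2} := by
    rw [show (7 : ℕ) = 1 <<< 0 ||| (1 <<< 1 ||| 1 <<< 2) from rfl]
    simp only [H90.setOf'_or, setOf'_single (by norm_num : (0 : ℕ) < 24),
      setOf'_single (by norm_num : (1 : ℕ) < 24), setOf'_single (by norm_num : (2 : ℕ) < 24)]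
    ext q
    simp [or_left_comm]
  have et : g • ({x, y, z} : Finset GolayPt) = H90.setOf' 7 := by
    simp [Finset.smul_finset_insert, e7, g0, g1, g2]
  have hx := smul_mem_hexadsOn hg hh
  rw [hgd] at hx
  obtain ⟨m, hm, he⟩ := hexadsOn_base_iff.mp hx
  have hm31 : m &&& 31 = 31 := by
    refine H90.setOf'_injOn (lt_of_le_of_lt Nat.and_le_right (by norm_num)) (by norm_num) ?_
    rw [H90.setOf'_and, Finset.inter_eq_right, he]
    intro p hp
    have hsmall : ∀ k < 24, H94.bitB 31 k = true → k < 5 := by decide +kernel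
    have hk := hsmall _ (H94.idxN_lt p) (by rw [H94.bitB_eq]; exact H94.mem_setOf'_idxN.mp hp)
    rw [← H94.ptN_idxN p, ← hga _ hk, mem_smul_apply]
    generalize H94.idxN p = k at hk
    interval_cases k <;> simp
  have h5 := List.all_eq_true.mp hex_five m hm
  rw [hm31] at h5
  simp at h5
  subst h5
  refine ⟨g, hg, hgd, et, ?_⟩
  have hd' : Disjoint ({x, y, z} : Finset GolayPt) {v, w, r} :=
    triples_disjoint ht hu hh
  have e1 := congrArg (fun s => s \ g • ({x, y, z} : Finset GolayPt)) he.symm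
  simp only [Finset.smul_finset_union, Finset.union_sdiff_left] at e1
  rw [Finset.sdiff_eq_self_of_disjoint (by
    rw [Finset.disjoint_iff_inter_eq_empty, ← Finset.smul_finset_inter,
      Finset.inter_comm, Finset.disjoint_iff_inter_eq_empty.mp hd', Finset.smul_finset_empty])] at e1
  rw [e1, et]
  decide +kernel

/-- Moving a quartet to the base quartet. -/
theorem normal_quartet {d : Finset GolayPt} (hd : d ∈ dodecads) {Q : Finset (Finset GolayPt)}
    (hQ : Q ∈ quartets d) : ∃ g ∈ M24, g • d = H90.setOf' dod0 ∧ g • Q = qSet q0 := by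
  obtain ⟨t, ht, u, hu, htu⟩ := Finset.one_lt_card.mp (show 1 < Q.card by rw [hQ.1]; norm_num)
  obtain ⟨g, hg, hgd, hgt, hgu⟩ := normal_triples hd (hQ.2.1 t ht).1 (hQ.2.1 u hu).1
    (hQ.2.1 t ht).2 (hQ.2.1 u hu).2 (hQ.2.2 t ht u hu htu)
  refine ⟨g, hg, hgd, eq_q0 (hgd ▸ smul_mem_quartets hg hQ) ?_ ?_⟩
  · exact hgt ▸ Finset.smul_mem_smul_finset ht
  · exact hgu ▸ Finset.smul_mem_smul_finset hu

/-- Two triples determine a quartet. -/
theorem quartet_unique {d : Finset GolayPt} (hd : d ∈ dodecads) {t u : Finset GolayPt}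
    (ht : t.card = 3) (hu : u.card = 3) (hh : t ∪ u ∈ hexadsOn d) :
    ∃! Q : Finset (Finset GolayPt), Q ∈ quartets d ∧ t ∈ Q ∧ u ∈ Q := by
  obtain ⟨h6, o, ho, he⟩ := id hh
  have hsub : t ∪ u ⊆ d := he ▸ Finset.inter_subset_right
  obtain ⟨g, hg, hgd, hgt, hgu⟩ := normal_triples hd ht hu
    (Finset.subset_union_left.trans hsub) (Finset.subset_union_right.trans hsub) hh
  have hd' : g⁻¹ • H90.setOf' dod0 = d := by rw [← hgd, inv_smul_smul]
  refine ⟨g⁻¹ • qSet q0, ⟨hd' ▸ smul_mem_quartets (M24.inv_mem hg) q0_mem, ?_, ?_⟩, ?_⟩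
  · rw [← inv_smul_smul g t, hgt]; exact Finset.smul_mem_smul_finset seven_mem.1
  · rw [← inv_smul_smul g u, hgu]; exact Finset.smul_mem_smul_finset seven_mem.2
  · rintro Q ⟨hQ, hQt, hQu⟩
    rw [← eq_q0 (hgd ▸ smul_mem_quartets hg hQ) (hgt ▸ Finset.smul_mem_smul_finset hQt)
      (hgu ▸ Finset.smul_mem_smul_finset hQu), inv_smul_smul]

theorem quartets_conj {d : Finset GolayPt} (hd : d ∈ dodecads) {Q Q' : Finset (Finset GolayPt)}
    (hQ : Q ∈ quartets d) (hQ' : Q' ∈ quartets d) :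
    ∃ g : Equiv.Perm GolayPt, g ∈ M24 ∧ g • d = d ∧ g • Q = Q' := by
  obtain ⟨g, hg, hgd, hgQ⟩ := normal_quartet hd hQ
  obtain ⟨h, hh, hhd, hhQ⟩ := normal_quartet hd hQ'
  exact ⟨h⁻¹ * g, M24.mul_mem (M24.inv_mem hh) hg, by rw [mul_smul, hgd, ← hhd, inv_smul_smul],
    by rw [mul_smul, hgQ, ← hhQ, inv_smul_smul]⟩

/-! ### Enumeration -/

theorem qList_valid : qList.all qValid = true := by decide +kernel

theorem qList_cover : triList.all (fun t => !H94.bitB t 0 || triList.all fun u =>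
    !(Nat.beq (t &&& u) 0 && hexList.elem (t ||| u)) ||
      qList.any fun q => q.elem t && q.elem u) = true := by decide +kernel

theorem q0_union : (List.range 24).all (fun i => !H94.bitB dod0 i ||
    q0.any fun t => H94.bitB t i) = true := by decide +kernel

theorem mem_qList {Q : Finset (Finset GolayPt)} (hQ : Q ∈ quartets (H90.setOf' dod0)) :
    ∃ q ∈ qList, qSet q = Q := by
  obtain ⟨g, hg, hgd, hgQ⟩ := normal_quartet dod0_mem hQ
  obtain ⟨p, hp⟩ : ∃ p, p = H94.ptN 0 := ⟨_, rfl⟩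
  have hgp : g p ∈ H90.setOf' dod0 := by
    rw [← hgd, mem_smul_apply, hp]; exact base_mem_dod0 (by norm_num)
  have h := List.all_eq_true.mp q0_union _ (List.mem_range.mpr (H94.idxN_lt (g p)))
  rw [H94.bitB_eq, H94.mem_setOf'_idxN.mp hgp, Bool.not_true, Bool.false_or, List.any_eq_true] at h
  obtain ⟨m, hm, hb⟩ := h
  have hpm : g p ∈ H90.setOf' m := H94.mem_setOf'_idxN.mpr (by rw [← H94.bitB_eq]; exact hb)
  have htQ : g⁻¹ • H90.setOf' m ∈ Q := by
    rw [← inv_smul_smul g Q, hgQ]; exact Finset.smul_mem_smul_finset (mem_qSet.mpr ⟨m, hm, rfl⟩)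
  have hpt : p ∈ g⁻¹ • H90.setOf' m := (mem_inv_smul _ _ _).mpr hpm
  obtain ⟨u, hu, hne⟩ := Finset.exists_mem_ne (by rw [hQ.1]; norm_num) (g⁻¹ • H90.setOf' m) (s := Q)
  generalize g⁻¹ • H90.setOf' m = t at htQ hne hpt
  obtain ⟨a, ha, rfl⟩ := exists_triple (hQ.2.1 t htQ).1 (hQ.2.1 t htQ).2
  obtain ⟨b, hb', rfl⟩ := exists_triple (hQ.2.1 u hu).1 (hQ.2.1 u hu).2
  have hh := hQ.2.2 _ htQ _ hu (Ne.symm hne)
  have hdis := triples_disjoint (hQ.2.1 _ htQ).1 (hQ.2.1 _ hu).1 hh
  have hab : a &&& b = 0 := H90.setOf'_injOn (lt_of_le_of_lt Nat.and_le_left (triList_lt ha))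
    (by norm_num) (by
      rw [H90.setOf'_and, Finset.disjoint_iff_inter_eq_empty.mp hdis]
      exact (Finset.card_eq_zero.mp (by rw [H90.card_setOf']; rfl)).symm)
  have hc := List.all_eq_true.mp qList_cover a ha
  rw [(mem_setOf'_bitB (by norm_num)).mp (hp ▸ hpt), Bool.not_true, Bool.false_or] at hc
  have hc' := List.all_eq_true.mp hc b hb'
  rw [← H90.setOf'_or, hexList_mem_iff (Nat.or_lt_two_pow (triList_lt ha) (triList_lt hb'))] at hh
  simp [hab, hh] at hc'
  obtain ⟨q, hq, hqa, hqb⟩ := hc'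
  refine ⟨q, hq, ?_⟩
  exact (quartet_unique dod0_mem (hQ.2.1 _ htQ).1 (hQ.2.1 _ hu).1
    (hQ.2.2 _ htQ _ hu (Ne.symm hne))).unique
    ⟨qValid_mem (List.all_eq_true.mp qList_valid q hq), mem_qSet.mpr ⟨a, hqa, rfl⟩,
      mem_qSet.mpr ⟨b, hqb, rfl⟩⟩ ⟨hQ, htQ, hu⟩

/-- Pairwise distinctness. -/
def distinctB : List (List ℕ) → Bool
  | [] => true
  | q :: r => r.all (fun p => !q.all p.elem) && distinctB r

theorem distinctB_nodup : ∀ L : List (List ℕ), L.all qValid = true → distinctB L = true →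
    (L.map qSet).Nodup
  | [], _, _ => by simp
  | q :: r, hv, h => by
    rw [distinctB, Bool.and_eq_true] at h
    simp only [List.all_cons, Bool.and_eq_true] at hv
    rw [List.map_cons, List.nodup_cons]
    refine ⟨fun hmem => ?_, distinctB_nodup r hv.2 h.2⟩
    obtain ⟨p, hp, he⟩ := List.mem_map.mp hmem
    have h1 := List.all_eq_true.mp h.1 p hp
    rw [Bool.not_eq_true', Bool.eq_false_iff] at h1
    apply h1
    rw [List.all_eq_true]
    intro t ht
    have hmem' : H90.setOf' t ∈ qSet p := he ▸ mem_qSet.mpr ⟨t, ht, rfl⟩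
    obtain ⟨s, hs, hse⟩ := mem_qSet.mp hmem'
    rw [← H90.setOf'_injOn (qValid_lt (List.all_eq_true.mp hv.2 p hp) hs) (qValid_lt hv.1 ht) hse]
    simpa using hs

theorem qList_distinct : distinctB qList = true := by decide +kernel

theorem quartets_base_eq :
    quartets (H90.setOf' dod0) = ↑((qList.map qSet).toFinset) := by
  ext Q
  simp only [List.coe_toFinset, Set.mem_ofPred_eq, List.mem_map]
  refine ⟨mem_qList, ?_⟩
  rintro ⟨q, hq, rfl⟩
  exact qValid_mem (List.all_eq_true.mp qList_valid q hq)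

theorem image_quartets {g : Equiv.Perm GolayPt} (hg : g ∈ M24) (d : Finset GolayPt) :
    (fun Q => g • Q) '' quartets d = quartets (g • d) := by
  ext Q
  constructor
  · rintro ⟨R, hR, rfl⟩; exact smul_mem_quartets hg hR
  · intro hQ
    refine ⟨g⁻¹ • Q, ?_, smul_inv_smul g Q⟩
    have := smul_mem_quartets (M24.inv_mem hg) hQ
    rwa [inv_smul_smul] at this

theorem quartets_ncard {d : Finset GolayPt} (hd : d ∈ dodecads) : (quartets d).ncard = 220 := by
  obtain ⟨g, hg, hgd, _⟩ := normal_dod_list hd [] List.nodup_nil (by simp) (by simp)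
  rw [← Set.ncard_image_of_injective (quartets d) (MulAction.injective g), image_quartets hg, hgd,
    quartets_base_eq, Set.ncard_coe_finset,
    List.toFinset_card_of_nodup (distinctB_nodup _ qList_valid qList_distinct), List.length_map]
  rfl

end H92

end
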