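import Cfsg.Agent.H94.Steiner

/-! Block intersections in a Steiner system S(5,6,12). -/

set_option autoImplicit false

namespace H92

open Finset

variable {α : Type*} [Fintype α] [DecidableEq α]

/-- Number of blocks meeting `b` exactly in `u`. -/
noncomputable def meetCount (B : Set (Finset α)) (b u : Finset α) : ℕ :=
  ((H94.blockSet B).filter fun c => b ∩ c = u).card

theorem ncard_meet (B : Set (Finset α)) (b u : Finset α) :
    {c : Finset α | c ∈ B ∧ b ∩ c = u}.ncard = meetCount B b u :=
  H94.ncard_sep_eq B (fun c => b ∩ c = u)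

theorem lambda_eq_sum_meet (B : Set (Finset α)) (b s : Finset α) (hs : s ⊆ b) :
    ((H94.blockSet B).filter (s ⊆ ·)).card =
      ∑ j ∈ range (b.card + 1), ∑ u ∈ (b.powersetCard j).filter (s ⊆ ·), meetCount B b u := by
  have h1 : ((H94.blockSet B).filter (s ⊆ ·)).card =
      ∑ u ∈ b.powerset.filter (s ⊆ ·),
        (((H94.blockSet B).filter (s ⊆ ·)).filter fun c => b ∩ c = u).card := by
    refine card_eq_sum_card_fiberwise (fun c hc => ?_)
    simp only [coe_filter, Set.mem_ofPred_eq, mem_powerset] at hc ⊢
    exact ⟨inter_subset_left, subset_inter hs hc.2⟩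
  rw [h1, ← sum_fiberwise_of_maps_to (g := fun u => u.card) (t := range (b.card + 1))
    (fun u hu => by
      rw [mem_filter, mem_powerset] at hu
      exact mem_range.mpr (Nat.lt_succ_of_le (card_le_card hu.1)))]
  refine sum_congr rfl fun j _ => sum_congr ?_ fun u hu => ?_
  · ext u
    simp only [mem_filter, mem_powerset, mem_powersetCard]
    tauto
  · simp only [mem_filter, mem_powersetCard] at hu
    unfold meetCount
    congr 1
    rw [filter_filter]
    refine filter_congr fun c _ => ⟨fun h => h.2, fun h => ⟨?_, h⟩⟩
    exact hu.2.trans (h ▸ inter_subset_right)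

variable {B : Set (Finset α)} (hα : Fintype.card α = 12) (hB : Cfsg.IsSteinerSystem 5 6 B)
  {b : Finset α} (hb : b ∈ B)

include hα hB

theorem lambda12 (s : Finset α) {k c : ℕ} (hs : s.card = k) (hk : k ≤ 5)
    (hc : c * (6 - k).choose (5 - k) = (12 - k).choose (5 - k)) :
    ((H94.blockSet B).filter (s ⊆ ·)).card = c := by
  have h := H94.steiner_lambda hB s (hs ▸ hk)
  rw [hs, hα, ← hc] at h
  exact Nat.eq_of_mul_eq_mul_right (Nat.choose_pos (by omega)) h

include hb

theorem meet12 : ∀ k ≤ 5, ∀ u ⊆ b, u.card = 5 - k →
    meetCount B b u = [0, 3, 2, 3, 0, 1].getD k 0 := by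
  have hb6 : b.card = 6 := hB.1 b hb
  have h6 : ∀ u ⊆ b, u.card = 6 → meetCount B b u = 1 := by
    intro u hu hc
    have : u = b := eq_of_subset_of_card_le hu (by omega)
    subst this
    unfold meetCount
    rw [card_eq_one]
    refine ⟨u, ?_⟩
    ext c
    simp only [mem_filter, H94.mem_blockSet, mem_singleton]
    refine ⟨fun h => ?_, by rintro rfl; exact ⟨hb, inter_self _⟩⟩
    exact (eq_of_subset_of_card_le (h.2 ▸ inter_subset_right) (by rw [hB.1 c h.1, hb6])).symm
  have key : ∀ (u : Finset α) (k c : ℕ) (g : ℕ → ℕ), u ⊆ b → u.card = k → k ≤ 5 →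
      c * (6 - k).choose (5 - k) = (12 - k).choose (5 - k) →
      (∀ j ∈ range 7, k < j → ∀ w ⊆ b, w.card = j → meetCount B b w = g j) →
      meetCount B b u + ∑ j ∈ range 7, (if k < j then (6 - k).choose (j - k) * g j else 0) = c := by
    intro u k c g hu huk hk hc hg
    rw [← lambda12 hα hB u huk hk hc, lambda_eq_sum_meet B b u hu, hb6]
    have hsplit : ∀ j ∈ range 7, (∑ w ∈ (b.powersetCard j).filter (u ⊆ ·), meetCount B b w) =
        (if j = k then meetCount B b u else 0) + (if k < j then (6 - k).choose (j - k) * g j else 0) := by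
      intro j hj
      rcases lt_trichotomy j k with h | h | h
      · rw [if_neg (by omega), if_neg (by omega), add_zero]
        refine sum_eq_zero fun w hw => ?_
        simp only [mem_filter, mem_powersetCard] at hw
        have := card_le_card hw.2; omega
      · subst h
        rw [if_pos rfl, if_neg (by omega), add_zero, sum_eq_single u]
        · intro w hw hne
          simp only [mem_filter, mem_powersetCard] at hw
          exact absurd (eq_of_subset_of_card_le hw.2 (by omega)).symm hne
        · intro hn
          exact absurd (mem_filter.mpr ⟨mem_powersetCard.mpr ⟨hu, huk⟩, subset_refl u⟩) hn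
      · rw [if_neg (by omega), if_pos h, zero_add, sum_congr rfl (fun w hw => ?_), sum_const,
          H94.card_supersets b u hu j (by omega), hb6, huk, smul_eq_mul]
        simp only [mem_filter, mem_powersetCard] at hw
        exact hg j hj h w hw.1.1 hw.1.2
    rw [sum_congr rfl hsplit, sum_add_distrib]
    congr 1
    rw [sum_ite_eq', if_pos (mem_range.mpr (by omega))]
  have m5 : ∀ u ⊆ b, u.card = 5 → meetCount B b u = 0 := by
    intro u hu hc
    have := key u 5 1 (fun _ => 1) hu hc le_rfl rfl fun j hj hj' w hw hwj =>
      h6 w hw (by rw [mem_range] at hj; omega)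
    simp [sum_range_succ] at this
    omega
  let g : ℕ → ℕ := fun j => [0, 0, 3, 2, 3, 0, 1].getD j 0
  have m4 : ∀ u ⊆ b, u.card = 4 → meetCount B b u = 3 := by
    intro u hu hc
    have := key u 4 4 g hu hc (by omega) rfl fun j hj hj' w hw hwj => by
      rw [mem_range] at hj
      interval_cases j <;> simp [g, m5 w hw, h6 w hw, hwj]
    simp [sum_range_succ, g] at this
    omega
  have m3 : ∀ u ⊆ b, u.card = 3 → meetCount B b u = 2 := by
    intro u hu hc
    have := key u 3 12 g hu hc (by omega) (by decide) fun j hj hj' w hw hwj => by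
      rw [mem_range] at hj
      interval_cases j <;> simp [g, m4 w hw, m5 w hw, h6 w hw, hwj]
    simp [sum_range_succ, g] at this
    omega
  have m2 : ∀ u ⊆ b, u.card = 2 → meetCount B b u = 3 := by
    intro u hu hc
    have := key u 2 30 g hu hc (by omega) (by decide) fun j hj hj' w hw hwj => by
      rw [mem_range] at hj
      interval_cases j <;> simp [g, m3 w hw, m4 w hw, m5 w hw, h6 w hw, hwj]
    simp [sum_range_succ, g, Nat.choose] at this
    omega
  have m1 : ∀ u ⊆ b, u.card = 1 → meetCount B b u = 0 := by
    intro u hu hc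
    have := key u 1 66 g hu hc (by omega) (by decide) fun j hj hj' w hw hwj => by
      rw [mem_range] at hj
      interval_cases j <;> simp [g, m2 w hw, m3 w hw, m4 w hw, m5 w hw, h6 w hw, hwj]
    simp [sum_range_succ, g, Nat.choose] at this
    omega
  have m0 : ∀ u ⊆ b, u.card = 0 → meetCount B b u = 1 := by
    intro u hu hc
    have := key u 0 132 g hu hc (by omega) (by decide) fun j hj hj' w hw hwj => by
      rw [mem_range] at hj
      interval_cases j <;> simp [g, m1 w hw, m2 w hw, m3 w hw, m4 w hw, m5 w hw, h6 w hw, hwj]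
    simp [sum_range_succ, g, Nat.choose] at this
    omega
  intro k hk u hu hc
  interval_cases k
  · simpa using m5 u hu hc
  · simpa using m4 u hu hc
  · simpa using m3 u hu hc
  · simpa using m2 u hu hc
  · simpa using m1 u hu hc
  · simpa using m0 u hu hc

end H92
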