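import Mathlib
import Cfsg.Prelude.Def_SporadicCombinatorics

/-! The extended ternary code of length 12 through a systematic encoder. -/

set_option autoImplicit false
set_option linter.constructorNameAsVariable false

namespace H92

open Cfsg

/-- Six information symbols. -/
abbrev TInfo : Type := ZMod 3 × ZMod 3 × ZMod 3 × ZMod 3 × ZMod 3 × ZMod 3

/-- Systematic encoder of the ternary code on the 4 × 3 array. -/
def tEnc (v : TInfo) : ArrayPt → ZMod 3 :=
  match v with
  | (a, b, c, d, e, f) => fun p =>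
    ![![a, b, c], ![d, e, a + b + c + 2*d + 2*e],
      ![f, 2*b + c + 2*d + e + f, a + 2*b + d + 2*e + f],
      ![a + 2*b + 2*c + 2*d + 2*f, a + c + d + e + 2*f, 2*a + 2*b + c + 2*e + 2*f]] p.1 p.2

/-- The information symbols of a word. -/
def tInfo (x : ArrayPt → ZMod 3) : TInfo :=
  (x (0, 0), x (0, 1), x (0, 2), x (1, 0), x (1, 1), x (2, 0))

theorem tInfo_tEnc (v : TInfo) : tInfo (tEnc v) = v := by
  obtain ⟨a, b, c, d, e, f⟩ := v
  rfl

theorem tEnc_injective : Function.Injective tEnc :=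
  Function.LeftInverse.injective tInfo_tEnc

theorem mem_tetracode {t : Fin 4 → ZMod 3} :
    t ∈ tetracode ↔ ∃ a b : ZMod 3, t = ![b, a, a + b, a + 2*b] := by
  rw [tetracode, Submodule.mem_span_pair]
  refine ⟨?_, ?_⟩
  · rintro ⟨a, b, h⟩
    refine ⟨a, b, ?_⟩
    rw [← h]
    funext i
    fin_cases i <;> simp [mul_comm b 2]
  · rintro ⟨a, b, h⟩
    refine ⟨a, b, ?_⟩
    rw [h]
    funext i
    fin_cases i <;> simp [mul_comm b 2]

theorem three_eq_zero : (3 : ZMod 3) = 0 := by decide

theorem tEnc_mem (v : TInfo) : tEnc v ∈ ternaryGolayCode := by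
  obtain ⟨a, b, c, d, e, f⟩ := v
  show IsTernaryGolayWord _
  refine ⟨2 * (a + b + c), fun i => ?_, fun t ht => ?_⟩
  · have h : ∀ a b c d e f : ZMod 3, ∀ i : Fin 4,
        tEnc (a, b, c, d, e, f) (i, 0) + tEnc (a, b, c, d, e, f) (i, 1) +
          tEnc (a, b, c, d, e, f) (i, 2) = -(2 * (a + b + c)) := by decide +kernel
    exact (Fin.sum_univ_three (fun r : Fin 3 => tEnc (a, b, c, d, e, f) (i, r))).trans
      (h a b c d e f i)
  · obtain ⟨u, w, rfl⟩ := mem_tetracode.mp ht
    have h : ∀ a b c d e f : ZMod 3, ∀ u w : ZMod 3,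
        tEnc (a, b, c, d, e, f) (0, w) + tEnc (a, b, c, d, e, f) (1, u) +
          tEnc (a, b, c, d, e, f) (2, u + w) + tEnc (a, b, c, d, e, f) (3, u + 2*w)
          = 2 * (a + b + c) := by decide +kernel
    simpa [Fin.sum_univ_four] using h a b c d e f u w

theorem eq_tEnc_of_mem {x : ArrayPt → ZMod 3} (hx : x ∈ ternaryGolayCode) :
    tEnc (tInfo x) = x := by
  obtain ⟨s, hs, ht⟩ := (hx : IsTernaryGolayWord x)
  have hc : ∀ i, x (i, 0) + x (i, 1) + x (i, 2) = -s := fun i =>
    ((Fin.sum_univ_three (fun r : Fin 3 => x (i, r))).symm.trans (hs i) :)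
  have hT : ∀ t : Fin 4 → ZMod 3, (∃ a b : ZMod 3, t = ![b, a, a + b, a + 2*b]) →
      x (0, t 0) + x (1, t 1) + x (2, t 2) + x (3, t 3) = s := fun t h => by
    simpa [Fin.sum_univ_four] using ht t (mem_tetracode.mpr h)
  have t0 := hT ![0, 0, 0, 0] ⟨0, 0, by decide⟩
  have t1 := hT ![0, 1, 1, 1] ⟨1, 0, by decide⟩
  have t2 := hT ![0, 2, 2, 2] ⟨2, 0, by decide⟩
  have t3 := hT ![1, 0, 1, 2] ⟨0, 1, by decide⟩
  have h0 := hc 0
  have h1 := hc 1
  have h2 := hc 2
  have h3 := hc 3
  simp only [Matrix.cons_val_zero, Matrix.cons_val_one, Matrix.cons_val_two, Matrix.cons_val_three,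
    Matrix.head_cons, Matrix.tail_cons] at t0 t1 t2 t3
  funext p
  obtain ⟨i, r⟩ := p
  fin_cases i <;> fin_cases r
  · rfl
  · rfl
  · rfl
  · rfl
  · rfl
  · change x (0,0) + x (0,1) + x (0,2) + 2*x (1,0) + 2*x (1,1) = x (1,2)
    linear_combination (norm := skip) 2 * (2*h0 + 2*h2 + 2*h3 + t0 + t1 + t2)
    ring_nf
    reduce_mod_char
  · rfl
  · change 2*x (0,1) + x (0,2) + 2*x (1,0) + x (1,1) + x (2,0) = x (2,1)
    linear_combination (norm := skip) 2 * (2*h0 + h3 + 2*t0 + 2*t1 + 2*t3)
    ring_nf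
    reduce_mod_char
  · change x (0,0) + 2*x (0,1) + x (1,0) + 2*x (1,1) + x (2,0) = x (2,2)
    linear_combination (norm := skip) 2 * (h2 + 2*h3 + t0 + t1 + t3)
    ring_nf
    reduce_mod_char
  · change x (0,0) + 2*x (0,1) + 2*x (0,2) + 2*x (1,0) + 2*x (2,0) = x (3,0)
    linear_combination (norm := skip) 2 * (h0 + t0)
    ring_nf
    reduce_mod_char
  · change x (0,0) + x (0,2) + x (1,0) + x (1,1) + 2*x (2,0) = x (3,1)
    linear_combination (norm := skip) 2 * (2*h0 + 2*h3 + t0 + 2*t1 + t3)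
    ring_nf
    reduce_mod_char
  · change 2*x (0,0) + 2*x (0,1) + x (0,2) + 2*x (1,1) + 2*x (2,0) = x (3,2)
    linear_combination (norm := skip) 2 * (2*h0 + 2*h3 + t0 + t1 + 2*t3)
    ring_nf
    reduce_mod_char

theorem mem_ternary_iff {x : ArrayPt → ZMod 3} :
    x ∈ ternaryGolayCode ↔ ∃ v, tEnc v = x :=
  ⟨fun h => ⟨_, eq_tEnc_of_mem h⟩, fun ⟨v, h⟩ => h ▸ tEnc_mem v⟩

/-- Support of an encoded word. -/
def tSupp (v : TInfo) : Finset ArrayPt := ternarySupport (tEnc v)

theorem tSupp_weights : ∀ v : TInfo, v = 0 ∨ (tSupp v).card = 6 ∨ (tSupp v).card = 9 ∨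
    (tSupp v).card = 12 := by decide +kernel

theorem tEnc_zero : tEnc 0 = 0 := by decide +kernel

theorem ternary_weight {x : ArrayPt → ZMod 3} (hx : x ∈ ternaryGolayCode) (h0 : x ≠ 0) :
    (ternarySupport x).card = 6 ∨ (ternarySupport x).card = 9 ∨ (ternarySupport x).card = 12 := by
  obtain ⟨v, rfl⟩ := mem_ternary_iff.mp hx
  rcases tSupp_weights v with h | h
  · subst h; exact absurd tEnc_zero h0
  · exact h

theorem ternary_card_weight (n : ℕ) :
    {x : ArrayPt → ZMod 3 | x ∈ ternaryGolayCode ∧ (ternarySupport x).card = n}.ncard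
      = (Finset.univ.filter fun v => (tSupp v).card = n).card := by
  rw [← Set.ncard_coe_finset, ← Set.ncard_image_of_injective _ tEnc_injective]
  congr 1
  ext x
  simp only [Set.mem_image, Finset.coe_filter, Finset.mem_univ, true_and, Set.mem_ofPred_eq]
  constructor
  · rintro ⟨hx, hc⟩
    obtain ⟨v, rfl⟩ := mem_ternary_iff.mp hx
    exact ⟨v, hc, rfl⟩
  · rintro ⟨v, hc, rfl⟩
    exact ⟨tEnc_mem v, hc⟩

theorem ternary_natCard : Nat.card ↥ternaryGolayCode = 729 := by
  have e : TInfo ≃ ↥ternaryGolayCode :=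
    { toFun := fun v => ⟨tEnc v, tEnc_mem v⟩
      invFun := fun x => tInfo x.1
      left_inv := tInfo_tEnc
      right_inv := fun x => Subtype.ext (eq_tEnc_of_mem x.2) }
  rw [← Nat.card_congr e]
  simp [TInfo]

theorem ternary_dot_eq_zero {x y : ArrayPt → ZMod 3} (hx : x ∈ ternaryGolayCode)
    (hy : y ∈ ternaryGolayCode) : ∑ p, x p * y p = 0 := by
  have hsq : ∀ z ∈ ternaryGolayCode, ∑ p, z p * z p = (0 : ZMod 3) := by
    intro z hz
    obtain ⟨v, rfl⟩ := mem_ternary_iff.mp hz
    have h : ∀ v : TInfo, ∑ p, tEnc v p * tEnc v p = (0 : ZMod 3) := by decide +kernel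
    exact h v
  have h1 := hsq _ (add_mem hx hy)
  have h2 := hsq x hx
  have h3 := hsq y hy
  have e : ∀ p, (x + y) p * (x + y) p = x p * x p + y p * y p + 2 * (x p * y p) := fun p => by
    simp only [Pi.add_apply]; ring
  rw [Finset.sum_congr rfl fun p _ => e p, Finset.sum_add_distrib, Finset.sum_add_distrib, h2, h3,
    ← Finset.mul_sum, zero_add, zero_add] at h1
  have key : ∀ s : ZMod 3, 2 * s = 0 → s = 0 := by decide
  exact key _ h1

/-- The hexads: supports of the words of weight 6. -/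
def tHexads : Set (Finset ArrayPt) :=
  {h : Finset ArrayPt | ∃ x ∈ ternaryGolayCode, ternarySupport x = h ∧ h.card = 6}

/-- The hexads as a computed finset. -/
def tHexFinset : Finset (Finset ArrayPt) :=
  (Finset.univ.filter fun v => (tSupp v).card = 6).image tSupp

theorem tHexads_eq : tHexads = ↑tHexFinset := by
  ext h
  simp only [tHexads, tHexFinset, Finset.coe_image, Finset.coe_filter, Finset.mem_univ, true_and,
    Set.mem_image, Set.mem_ofPred_eq]
  constructor
  · rintro ⟨x, hx, rfl, hc⟩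
    obtain ⟨v, rfl⟩ := mem_ternary_iff.mp hx
    exact ⟨v, hc, rfl⟩
  · rintro ⟨v, hc, rfl⟩
    exact ⟨_, tEnc_mem v, rfl, hc⟩

theorem tHexFinset_card : tHexFinset.card = 132 := by decide +kernel

theorem tHexFinset_six {b : Finset ArrayPt} (hb : b ∈ tHexFinset) : b.card = 6 := by
  simp only [tHexFinset, Finset.mem_image, Finset.mem_filter] at hb
  obtain ⟨v, ⟨_, hc⟩, rfl⟩ := hb
  exact hc

theorem mem_ternarySupport {x : ArrayPt → ZMod 3} {p : ArrayPt} :
    p ∈ ternarySupport x ↔ x p ≠ 0 := by simp [ternarySupport]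

/-- Two hexads with five common points coincide. -/
theorem tHex_inter {b b' : Finset ArrayPt} (hb : b ∈ tHexads) (hb' : b' ∈ tHexads)
    {s : Finset ArrayPt} (hs : s.card = 5) (hsb : s ⊆ b) (hsb' : s ⊆ b') : b = b' := by
  obtain ⟨x, hx, rfl, hcx⟩ := hb
  obtain ⟨y, hy, rfl, hcy⟩ := hb'
  classical
  -- x + y or x - y vanishes on at least three of the five common points
  have key : ∀ z : ArrayPt → ZMod 3, z ∈ ternaryGolayCode →
      ternarySupport z ⊆ ternarySupport x ∪ ternarySupport y →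
      (s.filter fun p => z p ≠ 0).card ≤ 2 → z = 0 := by
    intro z hz hsub hcard
    by_contra h0
    have h6 : 6 ≤ (ternarySupport z).card := by rcases ternary_weight hz h0 with h | h | h <;> omega
    have hu : (ternarySupport x ∪ ternarySupport y).card ≤ 7 := by
      have h5 : 5 ≤ (ternarySupport x ∩ ternarySupport y).card :=
        hs ▸ Finset.card_le_card (Finset.subset_inter hsb hsb')
      have := Finset.card_union_add_card_inter (ternarySupport x) (ternarySupport y)
      omega
    have hsub2 : ternarySupport z ⊆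
        ((ternarySupport x ∪ ternarySupport y) \ s) ∪ (s.filter fun p => z p ≠ 0) := by
      intro p hp
      by_cases hps : p ∈ s
      · exact Finset.mem_union_right _ (Finset.mem_filter.mpr ⟨hps, mem_ternarySupport.mp hp⟩)
      · exact Finset.mem_union_left _ (Finset.mem_sdiff.mpr ⟨hsub hp, hps⟩)
    have h7 := (Finset.card_le_card hsub2).trans (Finset.card_union_le _ _)
    have hss : s ⊆ ternarySupport x ∪ ternarySupport y := hsb.trans Finset.subset_union_left
    rw [Finset.card_sdiff_of_subset hss] at h7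
    omega
  have hsubs : ∀ z : ArrayPt → ZMod 3, (∀ p, x p = 0 → y p = 0 → z p = 0) →
      ternarySupport z ⊆ ternarySupport x ∪ ternarySupport y := by
    intro z hz p hp
    by_contra hn
    simp only [Finset.mem_union, mem_ternarySupport, not_or, not_not] at hn
    exact mem_ternarySupport.mp hp (hz p hn.1 hn.2)
  have hfun : ∀ p ∈ s, (x + y) p = 0 ↔ ¬ (x - y) p = 0 := by
    intro p hp
    have e : ∀ a c : ZMod 3, a ≠ 0 → c ≠ 0 → (a + c = 0 ↔ ¬ a - c = 0) := by decide
    exact e _ _ (mem_ternarySupport.mp (hsb hp)) (mem_ternarySupport.mp (hsb' hp))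
  have hsplit : (s.filter fun p => (x + y) p ≠ 0).card + (s.filter fun p => (x - y) p ≠ 0).card = 5 := by
    rw [← hs, ← Finset.card_filter_add_card_filter_not (s := s) (fun p => (x + y) p ≠ 0)]
    congr 2
    apply Finset.filter_congr
    intro p hp
    have := hfun p hp
    tauto
  rcases (show (s.filter fun p => (x + y) p ≠ 0).card ≤ 2 ∨ (s.filter fun p => (x - y) p ≠ 0).card ≤ 2 by
    omega) with h | h
  · have h0 := key _ (add_mem hx hy) (hsubs _ fun p h h' => by simp [h, h']) h
    ext p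
    have hp := congrFun h0 p
    have e : ∀ a c : ZMod 3, a + c = 0 → (a ≠ 0 ↔ c ≠ 0) := by decide
    simp only [mem_ternarySupport]
    exact e _ _ hp
  · have h0 := key _ (sub_mem hx hy) (hsubs _ fun p h h' => by simp [h, h']) h
    rw [sub_eq_zero] at h0
    rw [h0]

theorem tHexads_steiner : IsSteinerSystem 5 6 tHexads := by
  classical
  refine ⟨fun b hb => tHexFinset_six (tHexads_eq ▸ hb :), fun s hs => ?_⟩
  have hcov : tHexFinset.biUnion (fun b => b.powersetCard 5)
      = (Finset.univ : Finset ArrayPt).powersetCard 5 := by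
    apply Finset.eq_of_subset_of_card_le
    · intro t ht
      simp only [Finset.mem_biUnion, Finset.mem_powersetCard] at ht ⊢
      obtain ⟨b, _, _, h⟩ := ht
      exact ⟨Finset.subset_univ _, h⟩
    · rw [Finset.card_biUnion, Finset.card_powersetCard, Finset.sum_congr rfl
        (fun b hb => show (b.powersetCard 5).card = 6 by
          rw [Finset.card_powersetCard, tHexFinset_six hb]; rfl),
        Finset.sum_const, tHexFinset_card, Finset.card_univ, Fintype.card_prod, Fintype.card_fin,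
        ZMod.card]
      · rfl
      · intro b hb c hc hbc
        rw [Function.onFun, Finset.disjoint_left]
        intro t htb htc
        rw [Finset.mem_powersetCard] at htb htc
        exact hbc (tHex_inter (tHexads_eq ▸ hb) (tHexads_eq ▸ hc) htb.2 htb.1 htc.1)
  have : s ∈ tHexFinset.biUnion (fun b => b.powersetCard 5) := by
    rw [hcov]; exact Finset.mem_powersetCard.mpr ⟨Finset.subset_univ _, hs⟩
  simp only [Finset.mem_biUnion, Finset.mem_powersetCard] at this
  obtain ⟨b, hb, hsb, _⟩ := this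
  have hb' : b ∈ tHexads := tHexads_eq ▸ hb
  exact ⟨b, ⟨hb', hsb⟩, fun c hc => tHex_inter hc.1 hb' hs hc.2 hsb⟩

end H92
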