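import Cfsg.Agent.H92.Ternary

/-! Certificate data for the monomial group of the ternary code. -/

set_option autoImplicit false

namespace H92

/-- Level by level: images, inverse images, signs. -/
def tLevels : List (List (List ℕ × List ℕ × List ℕ)) := [
[

    ([0, 1, 2, 3, 4, 5, 6, 7, 8, 9, 10, 11], [0, 1, 2, 3, 4, 5, 6, 7, 8, 9, 10, 11], [1, 1, 1, 1, 1, 1, 1, 1, 1, 1, 1, 1]),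
    ([1, 0, 2, 3, 4, 5, 11, 9, 10, 7, 8, 6], [1, 0, 2, 3, 4, 5, 11, 9, 10, 7, 8, 6], [1, 1, 1, 1, 1, 1, 1, 1, 1, 1, 1, 1]),
    ([2, 0, 1, 3, 4, 5, 8, 6, 7, 10, 11, 9], [1, 2, 0, 3, 4, 5, 7, 8, 6, 11, 9, 10], [1, 1, 1, 1, 1, 1, 1, 1, 1, 1, 1, 1]),
    ([3, 0, 1, 2, 4, 5, 10, 7, 6, 8, 9, 11], [1, 2, 3, 0, 4, 5, 8, 7, 9, 10, 6, 11], [1, 1, 2, 2, 1, 1, 2, 2, 1, 2, 1, 2]),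
    ([4, 0, 1, 2, 3, 5, 6, 9, 10, 11, 7, 8], [1, 2, 3, 4, 0, 5, 6, 10, 11, 7, 8, 9], [1, 1, 2, 1, 2, 1, 1, 2, 2, 2, 2, 1]),
    ([5, 0, 1, 2, 3, 4, 9, 6, 8, 7, 11, 10], [1, 2, 3, 4, 5, 0, 7, 9, 8, 6, 11, 10], [1, 1, 2, 1, 1, 2, 2, 1, 2, 1, 2, 2]),
    ([6, 0, 1, 2, 3, 9, 5, 4, 7, 10, 8, 11], [1, 2, 3, 4, 7, 6, 0, 8, 10, 5, 9, 11], [1, 2, 1, 1, 2, 1, 2, 2, 2, 1, 1, 2]),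
    ([7, 0, 1, 2, 3, 11, 10, 8, 9, 4, 5, 6], [1, 2, 3, 4, 9, 10, 11, 0, 7, 8, 6, 5], [1, 2, 2, 2, 2, 1, 1, 1, 1, 1, 2, 2]),
    ([8, 0, 1, 2, 3, 10, 7, 11, 4, 6, 9, 5], [1, 2, 3, 4, 8, 11, 9, 6, 0, 10, 5, 7], [1, 1, 1, 2, 1, 1, 2, 2, 1, 1, 2, 1]),
    ([9, 0, 1, 2, 3, 6, 4, 5, 11, 8, 10, 7], [1, 2, 3, 4, 6, 7, 5, 11, 9, 0, 10, 8], [1, 2, 1, 1, 1, 2, 1, 2, 1, 2, 2, 2]),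
    ([10, 0, 1, 2, 3, 8, 11, 7, 5, 9, 6, 4], [1, 2, 3, 4, 11, 8, 10, 7, 5, 9, 0, 6], [1, 1, 1, 2, 1, 1, 1, 1, 2, 2, 1, 2]),
    ([11, 0, 1, 2, 3, 7, 8, 10, 6, 5, 4, 9], [1, 2, 3, 4, 10, 9, 8, 5, 6, 11, 7, 0], [1, 2, 2, 2, 1, 2, 1, 2, 2, 1, 1, 1])],
[

    ([0, 1, 2, 3, 4, 5, 6, 7, 8, 9, 10, 11], [0, 1, 2, 3, 4, 5, 6, 7, 8, 9, 10, 11], [1, 1, 1, 1, 1, 1, 1, 1, 1, 1, 1, 1]),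
    ([0, 2, 1, 3, 4, 5, 9, 10, 11, 6, 7, 8], [0, 2, 1, 3, 4, 5, 9, 10, 11, 6, 7, 8], [1, 1, 1, 1, 1, 1, 1, 1, 1, 1, 1, 1]),
    ([0, 3, 1, 2, 4, 5, 11, 8, 9, 7, 6, 10], [0, 2, 3, 1, 4, 5, 10, 9, 7, 8, 11, 6], [1, 1, 2, 2, 1, 1, 2, 2, 1, 2, 1, 2]),
    ([0, 4, 1, 2, 3, 5, 8, 11, 7, 9, 10, 6], [0, 2, 3, 4, 1, 5, 11, 8, 6, 9, 10, 7], [1, 1, 2, 1, 2, 1, 1, 2, 2, 2, 2, 1]),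
    ([0, 5, 1, 2, 3, 4, 10, 7, 11, 6, 8, 9], [0, 2, 3, 4, 5, 1, 9, 7, 10, 11, 6, 8], [1, 1, 2, 1, 1, 2, 2, 1, 2, 1, 2, 2]),
    ([0, 6, 1, 2, 3, 9, 11, 10, 8, 4, 7, 5], [0, 2, 3, 4, 9, 11, 1, 10, 8, 5, 7, 6], [1, 2, 1, 1, 2, 1, 2, 2, 2, 1, 1, 2]),
    ([0, 7, 1, 2, 3, 11, 6, 4, 5, 8, 9, 10], [0, 2, 3, 4, 7, 8, 6, 1, 9, 10, 11, 5], [1, 2, 2, 2, 2, 1, 1, 1, 1, 1, 2, 2]),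
    ([0, 8, 1, 2, 3, 10, 5, 6, 9, 11, 4, 7], [0, 2, 3, 4, 10, 6, 7, 11, 1, 8, 5, 9], [1, 1, 1, 2, 1, 1, 2, 2, 1, 1, 2, 1]),
    ([0, 9, 1, 2, 3, 6, 7, 8, 10, 5, 11, 4], [0, 2, 3, 4, 11, 9, 5, 6, 7, 1, 8, 10], [1, 2, 1, 1, 1, 2, 1, 2, 1, 2, 2, 2]),
    ([0, 10, 1, 2, 3, 8, 4, 9, 6, 7, 5, 11], [0, 2, 3, 4, 6, 10, 8, 9, 5, 7, 1, 11], [1, 1, 1, 2, 1, 1, 1, 1, 2, 2, 1, 2]),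
    ([0, 11, 1, 2, 3, 7, 9, 5, 4, 10, 6, 8], [0, 2, 3, 4, 8, 7, 10, 5, 11, 6, 9, 1], [1, 2, 2, 2, 1, 2, 1, 2, 2, 1, 1, 1])],
[

    ([0, 1, 2, 3, 4, 5, 6, 7, 8, 9, 10, 11], [0, 1, 2, 3, 4, 5, 6, 7, 8, 9, 10, 11], [1, 1, 1, 1, 1, 1, 1, 1, 1, 1, 1, 1]),
    ([0, 1, 3, 2, 4, 5, 7, 6, 10, 11, 8, 9], [0, 1, 3, 2, 4, 5, 7, 6, 10, 11, 8, 9], [1, 1, 2, 2, 1, 1, 2, 2, 1, 2, 1, 2]),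
    ([0, 1, 4, 2, 3, 5, 9, 10, 6, 8, 11, 7], [0, 1, 3, 4, 2, 5, 8, 11, 9, 6, 7, 10], [1, 1, 2, 1, 2, 1, 1, 2, 2, 2, 2, 1]),
    ([0, 1, 5, 2, 3, 4, 6, 8, 9, 10, 7, 11], [0, 1, 3, 4, 5, 2, 6, 10, 7, 8, 9, 11], [1, 1, 2, 1, 1, 2, 2, 1, 2, 1, 2, 2]),
    ([0, 1, 6, 2, 3, 9, 4, 7, 5, 11, 10, 8], [0, 1, 3, 4, 6, 8, 2, 7, 11, 5, 10, 9], [1, 2, 1, 1, 2, 1, 2, 2, 2, 1, 1, 2]),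
    ([0, 1, 7, 2, 3, 11, 8, 9, 10, 6, 4, 5], [0, 1, 3, 4, 10, 11, 9, 2, 6, 7, 8, 5], [1, 2, 2, 2, 2, 1, 1, 1, 1, 1, 2, 2]),
    ([0, 1, 8, 2, 3, 10, 11, 4, 7, 5, 6, 9], [0, 1, 3, 4, 7, 9, 10, 8, 2, 11, 5, 6], [1, 1, 1, 2, 1, 1, 2, 2, 1, 1, 2, 1]),
    ([0, 1, 9, 2, 3, 6, 5, 11, 4, 7, 8, 10], [0, 1, 3, 4, 8, 6, 5, 9, 10, 2, 11, 7], [1, 2, 1, 1, 1, 2, 1, 2, 1, 2, 2, 2]),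
    ([0, 1, 10, 2, 3, 8, 7, 5, 11, 4, 9, 6], [0, 1, 3, 4, 9, 7, 11, 6, 5, 10, 2, 8], [1, 1, 1, 2, 1, 1, 1, 1, 2, 2, 1, 2]),
    ([0, 1, 11, 2, 3, 7, 10, 6, 8, 9, 5, 4], [0, 1, 3, 4, 11, 10, 7, 5, 8, 9, 6, 2], [1, 2, 2, 2, 1, 2, 1, 2, 2, 1, 1, 1])],
[

    ([0, 1, 2, 3, 4, 5, 6, 7, 8, 9, 10, 11], [0, 1, 2, 3, 4, 5, 6, 7, 8, 9, 10, 11], [1, 1, 1, 1, 1, 1, 1, 1, 1, 1, 1, 1]),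
    ([0, 1, 2, 4, 3, 5, 10, 9, 11, 7, 6, 8], [0, 1, 2, 4, 3, 5, 10, 9, 11, 7, 6, 8], [1, 1, 1, 1, 1, 1, 1, 1, 1, 1, 1, 1]),
    ([0, 1, 2, 5, 3, 4, 8, 6, 7, 11, 9, 10], [0, 1, 2, 4, 5, 3, 7, 8, 6, 10, 11, 9], [1, 1, 1, 1, 1, 1, 1, 1, 1, 1, 1, 1]),
    ([0, 1, 2, 6, 3, 9, 7, 4, 10, 8, 5, 11], [0, 1, 2, 4, 7, 10, 3, 6, 9, 5, 8, 11], [1, 2, 2, 1, 1, 1, 1, 1, 1, 1, 1, 1]),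
    ([0, 1, 2, 7, 3, 11, 9, 8, 4, 5, 10, 6], [0, 1, 2, 4, 8, 9, 11, 3, 7, 6, 10, 5], [1, 2, 1, 2, 2, 2, 2, 2, 2, 2, 2, 2]),
    ([0, 1, 2, 8, 3, 10, 4, 11, 6, 9, 7, 5], [0, 1, 2, 4, 6, 11, 8, 10, 3, 9, 5, 7], [1, 1, 2, 2, 2, 2, 2, 2, 2, 2, 2, 2]),
    ([0, 1, 2, 9, 3, 6, 11, 5, 8, 10, 4, 7], [0, 1, 2, 4, 10, 7, 5, 11, 8, 3, 9, 6], [1, 2, 2, 1, 1, 1, 1, 1, 1, 1, 1, 1]),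
    ([0, 1, 2, 10, 3, 8, 5, 7, 9, 6, 11, 4], [0, 1, 2, 4, 11, 6, 9, 7, 5, 8, 3, 10], [1, 1, 2, 2, 2, 2, 2, 2, 2, 2, 2, 2]),
    ([0, 1, 2, 11, 3, 7, 6, 10, 5, 4, 8, 9], [0, 1, 2, 4, 9, 8, 6, 5, 10, 11, 7, 3], [1, 2, 1, 2, 2, 2, 2, 2, 2, 2, 2, 2])],
[

    ([0, 1, 2, 3, 4, 5, 6, 7, 8, 9, 10, 11], [0, 1, 2, 3, 4, 5, 6, 7, 8, 9, 10, 11], [1, 1, 1, 1, 1, 1, 1, 1, 1, 1, 1, 1]),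
    ([0, 1, 2, 3, 5, 4, 9, 11, 10, 6, 8, 7], [0, 1, 2, 3, 5, 4, 9, 11, 10, 6, 8, 7], [1, 1, 1, 1, 1, 1, 1, 1, 1, 1, 1, 1]),
    ([0, 1, 2, 3, 6, 9, 5, 8, 11, 4, 7, 10], [0, 1, 2, 3, 9, 6, 4, 10, 7, 5, 11, 8], [1, 2, 2, 1, 1, 1, 1, 1, 1, 1, 1, 1]),
    ([0, 1, 2, 3, 7, 11, 10, 5, 6, 8, 9, 4], [0, 1, 2, 3, 11, 7, 8, 4, 9, 10, 6, 5], [1, 2, 1, 2, 2, 2, 2, 2, 2, 2, 2, 2]),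
    ([0, 1, 2, 3, 8, 10, 7, 9, 5, 11, 4, 6], [0, 1, 2, 3, 10, 8, 11, 6, 4, 7, 5, 9], [1, 1, 2, 2, 2, 2, 2, 2, 2, 2, 2, 2]),
    ([0, 1, 2, 3, 9, 6, 4, 10, 7, 5, 11, 8], [0, 1, 2, 3, 6, 9, 5, 8, 11, 4, 7, 10], [1, 2, 2, 1, 1, 1, 1, 1, 1, 1, 1, 1]),
    ([0, 1, 2, 3, 10, 8, 11, 6, 4, 7, 5, 9], [0, 1, 2, 3, 8, 10, 7, 9, 5, 11, 4, 6], [1, 1, 2, 2, 2, 2, 2, 2, 2, 2, 2, 2]),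
    ([0, 1, 2, 3, 11, 7, 8, 4, 9, 10, 6, 5], [0, 1, 2, 3, 7, 11, 10, 5, 6, 8, 9, 4], [1, 2, 1, 2, 2, 2, 2, 2, 2, 2, 2, 2])]]

/-- Four-subsets of the first hexad. -/
def tFours : List (List ℕ) := [
  [0, 1, 2, 3], [0, 1, 2, 4], [0, 1, 2, 5], [0, 1, 3, 4], [0, 1, 3, 5], [0, 1, 4, 5],
  [0, 2, 3, 4], [0, 2, 3, 5], [0, 2, 4, 5], [0, 3, 4, 5], [1, 2, 3, 4], [1, 2, 3, 5],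
  [1, 2, 4, 5], [1, 3, 4, 5], [2, 3, 4, 5]]

/-- The pairing of the other six positions attached to each four-subset. -/
def tMates : List (List ℕ) := [
  [0, 1, 2, 3, 4, 5, 9, 11, 10, 6, 8, 7], [0, 1, 2, 3, 4, 5, 11, 10, 9, 8, 7, 6],
  [0, 1, 2, 3, 4, 5, 10, 9, 11, 7, 6, 8], [0, 1, 2, 3, 4, 5, 8, 9, 6, 7, 11, 10],
  [0, 1, 2, 3, 4, 5, 11, 8, 7, 10, 9, 6], [0, 1, 2, 3, 4, 5, 7, 6, 10, 11, 8, 9],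
  [0, 1, 2, 3, 4, 5, 10, 8, 7, 11, 6, 9], [0, 1, 2, 3, 4, 5, 7, 6, 9, 8, 11, 10],
  [0, 1, 2, 3, 4, 5, 8, 11, 6, 10, 9, 7], [0, 1, 2, 3, 4, 5, 9, 10, 11, 6, 7, 8],
  [0, 1, 2, 3, 4, 5, 7, 6, 11, 10, 9, 8], [0, 1, 2, 3, 4, 5, 8, 10, 6, 11, 7, 9],
  [0, 1, 2, 3, 4, 5, 9, 8, 7, 6, 11, 10], [0, 1, 2, 3, 4, 5, 10, 11, 9, 8, 6, 7],
  [0, 1, 2, 3, 4, 5, 11, 9, 10, 7, 8, 6]]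

/-- Which pairing joins the seventh position to a given one. -/
def tKof : List ℕ := [0, 0, 0, 0, 0, 0, 0, 5, 3, 0, 2, 1]

/-- Witness words for the blocks. -/
def tWits : List TInfo := [
  (1, 2, 2, 2, 0, 2), (1, 2, 1, 1, 0, 0), (1, 1, 2, 1, 0, 0), (1, 2, 2, 2, 0, 2),
  (1, 1, 2, 1, 0, 0), (1, 2, 1, 1, 0, 0), (1, 1, 2, 0, 1, 1), (1, 2, 2, 0, 2, 0),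
  (1, 2, 1, 0, 1, 0), (1, 2, 1, 0, 1, 0), (1, 2, 2, 0, 2, 0), (1, 1, 2, 0, 1, 1),
  (1, 2, 1, 0, 0, 1), (1, 1, 2, 0, 0, 0), (1, 2, 2, 0, 0, 0), (1, 1, 2, 0, 0, 0),
  (1, 2, 1, 0, 0, 1), (1, 2, 2, 0, 0, 0), (1, 2, 0, 1, 2, 1), (1, 1, 0, 1, 1, 0),
  (1, 2, 0, 1, 2, 1), (1, 1, 0, 1, 1, 0), (1, 2, 0, 2, 1, 0), (1, 2, 0, 2, 1, 0),
  (1, 1, 0, 1, 0, 2), (1, 2, 0, 2, 0, 0), (1, 2, 0, 2, 0, 0), (1, 2, 0, 1, 0, 0),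
  (1, 2, 0, 1, 0, 0), (1, 1, 0, 1, 0, 2), (1, 2, 0, 0, 1, 2), (1, 2, 0, 0, 1, 2),
  (1, 1, 0, 0, 1, 0), (1, 2, 0, 0, 2, 0), (1, 1, 0, 0, 1, 0), (1, 2, 0, 0, 2, 0),
  (1, 0, 1, 1, 1, 2), (1, 0, 2, 2, 1, 0), (1, 0, 2, 2, 1, 0), (1, 0, 2, 1, 2, 0),
  (1, 0, 1, 1, 1, 2), (1, 0, 2, 1, 2, 0), (1, 0, 2, 1, 0, 1), (1, 0, 2, 1, 0, 1),
  (1, 0, 1, 1, 0, 0), (1, 0, 1, 1, 0, 0), (1, 0, 2, 2, 0, 0), (1, 0, 2, 2, 0, 0),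
  (1, 0, 2, 0, 2, 2), (1, 0, 1, 0, 1, 0), (1, 0, 2, 0, 2, 2), (1, 0, 2, 0, 1, 0),
  (1, 0, 2, 0, 1, 0), (1, 0, 1, 0, 1, 0), (1, 0, 0, 2, 1, 1), (1, 0, 0, 1, 2, 0),
  (1, 0, 0, 1, 1, 0), (1, 0, 0, 2, 1, 1), (1, 0, 0, 1, 2, 0), (1, 0, 0, 1, 1, 0),
  (0, 1, 2, 1, 2, 2), (0, 1, 2, 1, 2, 2), (0, 1, 1, 1, 1, 0), (0, 1, 2, 2, 1, 0),
  (0, 1, 2, 2, 1, 0), (0, 1, 1, 1, 1, 0), (0, 1, 2, 2, 0, 1), (0, 1, 1, 1, 0, 0),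
  (0, 1, 2, 2, 0, 1), (0, 1, 2, 1, 0, 0), (0, 1, 1, 1, 0, 0), (0, 1, 2, 1, 0, 0),
  (0, 1, 1, 0, 1, 2), (0, 1, 2, 0, 1, 0), (0, 1, 2, 0, 1, 0), (0, 1, 1, 0, 1, 2),
  (0, 1, 2, 0, 2, 0), (0, 1, 2, 0, 2, 0), (0, 1, 0, 1, 1, 1), (0, 1, 0, 2, 1, 0),
  (0, 1, 0, 1, 2, 0), (0, 1, 0, 1, 2, 0), (0, 1, 0, 1, 1, 1), (0, 1, 0, 2, 1, 0),
  (0, 0, 1, 1, 2, 1), (0, 0, 1, 1, 1, 0), (0, 0, 1, 2, 1, 0), (0, 0, 1, 1, 1, 0),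
  (0, 0, 1, 2, 1, 0), (0, 0, 1, 1, 2, 1)]

/-- Witness word for the first hexad. -/
def tHexWit : TInfo := (1, 1, 1, 2, 2, 0)

end H92
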