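import Cfsg.Agent.H92.TernaryKernel
import Cfsg.Agent.H92.TernaryAutData
import Cfsg.Agent.H92.HexacodeAut

/-!
The monomial automorphisms of the ternary code against the automorphisms of its hexad system.
-/

set_option autoImplicit false

namespace H92

open Cfsg
open scoped Pointwise

/-- Position of an index. -/
def ix (i : ℕ) : ArrayPt := (⟨i / 3 % 4, Nat.mod_lt _ (by decide)⟩, ((i % 3 : ℕ) : ZMod 3))

/-- Index of a position. -/
def ixInv (p : ArrayPt) : ℕ := 3 * p.1.val + p.2.val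

theorem ix_ixInv : ∀ p : ArrayPt, ix (ixInv p) = p := by decide +kernel

theorem ixInv_lt : ∀ p : ArrayPt, ixInv p < 12 := by decide +kernel

theorem ixInv_ix : ∀ i < 12, ixInv (ix i) = i := by decide +kernel

theorem ix_inj {i j : ℕ} (hi : i < 12) (hj : j < 12) (h : ix i = ix j) : i = j := by
  rw [← ixInv_ix i hi, h, ixInv_ix j hj]

/-- The monomial pair preserves the code. -/
def MonoPres (σ : Equiv.Perm ArrayPt) (c : ArrayPt → (ZMod 3)ˣ) : Prop :=
  ∀ x ∈ ternaryGolayCode, monomialMap σ c x ∈ ternaryGolayCode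

/-- The permutation lifts to a monomial automorphism. -/
def TLift (σ : Equiv.Perm ArrayPt) : Prop := ∃ c, MonoPres σ c

theorem TLift.mul {σ τ : Equiv.Perm ArrayPt} (h : TLift σ) (h' : TLift τ) : TLift (σ * τ) := by
  obtain ⟨c, hc⟩ := h
  obtain ⟨d, hd⟩ := h'
  exact ⟨_, fun x hx => monomialMap_comp σ τ c d x ▸ hc _ (hd x hx)⟩

theorem tLift_one : TLift 1 :=
  ⟨fun _ => 1, fun x hx => by
    have : monomialMap (1 : Equiv.Perm ArrayPt) (fun _ => (1 : (ZMod 3)ˣ)) x = x := by
      funext i; simp [monomialMap, Equiv.Perm.one_def]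
    rwa [this]⟩

theorem TLift.inv {σ : Equiv.Perm ArrayPt} (h : TLift σ) : TLift σ⁻¹ := by
  have hp : ∀ n, TLift (σ ^ n) := fun n => by
    induction n with
    | zero => simpa using tLift_one
    | succ n ih => rw [pow_succ]; exact ih.mul h
  rw [inv_eq_of_mul_eq_one_right (b := σ ^ (orderOf σ - 1)) (by
    rw [← pow_succ', Nat.sub_add_cancel (orderOf_pos σ), pow_orderOf_eq_one])]
  exact hp _

theorem ternarySupport_monomial (σ : Equiv.Perm ArrayPt) (c : ArrayPt → (ZMod 3)ˣ)
    (x : ArrayPt → ZMod 3) : ternarySupport (monomialMap σ c x) = σ • ternarySupport x := by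
  ext p
  rw [mem_ternarySupport, Finset.mem_smul_finset]
  constructor
  · intro h
    refine ⟨σ.symm p, mem_ternarySupport.mpr fun h0 => h (by simp [monomialMap, h0]), ?_⟩
    exact σ.apply_symm_apply p
  · rintro ⟨q, hq, rfl⟩
    simp only [monomialMap, Equiv.Perm.smul_def, Equiv.symm_apply_apply]
    exact mul_ne_zero (Units.ne_zero _) (mem_ternarySupport.mp hq)

theorem TLift.mem_aut {σ : Equiv.Perm ArrayPt} (h : TLift σ) : σ ∈ setSystemAut tHexads := by
  obtain ⟨c, hc⟩ := h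
  have hsub : σ • tHexads ⊆ tHexads := by
    rintro _ ⟨b, ⟨x, hx, rfl, h6⟩, rfl⟩
    exact ⟨_, hc x hx, ternarySupport_monomial σ c x, by rw [Finset.card_smul_finset, h6]⟩
  exact MulAction.mem_stabilizer_iff.mpr
    (Set.eq_of_subset_of_ncard_le hsub (by rw [Set.ncard_smul_set]) (Set.toFinite _))

/-- The monomial map of one data entry. -/
def tMap (e : List ℕ × List ℕ × List ℕ) (x : ArrayPt → ZMod 3) : ArrayPt → ZMod 3 :=
  fun p => (e.2.2.getD (ixInv p) 0 : ZMod 3) * x (ix (e.2.1.getD (ixInv p) 0))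

/-- Validity of one data entry at level `i`. -/
def tEntryOK (i : ℕ) (e : List ℕ × List ℕ × List ℕ) : Prop :=
  (∀ k < 12, e.1.getD k 0 < 12 ∧ e.2.1.getD (e.1.getD k 0) 0 = k ∧
    (e.2.2.getD k 0 = 1 ∨ e.2.2.getD k 0 = 2)) ∧
  (∀ k < i, e.1.getD k 0 = k) ∧
  ∀ v ∈ tUnit, ∀ p, tMap e (tEnc v) p = tEnc (tInfo (tMap e (tEnc v))) p

instance (i : ℕ) (e : List ℕ × List ℕ × List ℕ) : Decidable (tEntryOK i e) :=
  inferInstanceAs (Decidable (_ ∧ _ ∧ _))

theorem tLevels_ok : ∀ i < 5, ∀ e ∈ tLevels.getD i [], tEntryOK i e := by decide +kernel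

theorem tLevels_cover : ∀ i < 5, ∀ t < 12, i ≤ t → ∃ e ∈ tLevels.getD i [], e.1.getD i 0 = t := by
  decide +kernel

theorem tInfo_decomp : ∀ a b c d e f : ZMod 3, ∀ p,
    tEnc (a, b, c, d, e, f) p = a * tEnc (1,0,0,0,0,0) p + b * tEnc (0,1,0,0,0,0) p +
      c * tEnc (0,0,1,0,0,0) p + d * tEnc (0,0,0,1,0,0) p + e * tEnc (0,0,0,0,1,0) p +
      f * tEnc (0,0,0,0,0,1) p := by decide +kernel

theorem tEntry_lift {i : ℕ} {e : List ℕ × List ℕ × List ℕ} (h : tEntryOK i e) :
    ∃ σ, TLift σ ∧ ∀ k < 12, σ (ix k) = ix (e.1.getD k 0) := by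
  obtain ⟨h1, -, h3⟩ := h
  let f : ArrayPt → ArrayPt := fun p => ix (e.1.getD (ixInv p) 0)
  have hinj : Function.Injective f := by
    intro p q hpq
    have hp := h1 _ (ixInv_lt p)
    have hq := h1 _ (ixInv_lt q)
    have h2 := congrArg (fun n => e.2.1.getD n 0) (ix_inj hp.1 hq.1 hpq)
    simp only [hp.2.1, hq.2.1] at h2
    rw [← ix_ixInv p, h2, ix_ixInv]
  let σ : Equiv.Perm ArrayPt := Equiv.ofBijective f (Finite.injective_iff_bijective.mp hinj)
  have hσ : ∀ k < 12, σ (ix k) = ix (e.1.getD k 0) := fun k hk => by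
    show f (ix k) = _
    simp only [f, ixInv_ix k hk]
  have hsymm : ∀ p, σ.symm p = ix (e.2.1.getD (ixInv p) 0) := by
    intro p
    obtain ⟨q, rfl⟩ := σ.surjective p
    rw [Equiv.symm_apply_apply]
    have hq := h1 _ (ixInv_lt q)
    conv_rhs => rw [← ix_ixInv q, hσ _ (ixInv_lt q), ixInv_ix _ hq.1, hq.2.1, ix_ixInv]
  let c : ArrayPt → (ZMod 3)ˣ := fun p => if e.2.2.getD (ixInv p) 0 = 1 then 1 else -1
  have hmap : ∀ x, monomialMap σ c x = tMap e x := by
    intro x
    funext p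
    simp only [monomialMap, tMap, hsymm, c]
    rcases (h1 _ (ixInv_lt p)).2.2 with hh | hh <;> rw [hh]
    · simp
    · rw [if_neg (by norm_num), Units.val_neg, Units.val_one]
      congr 1
  refine ⟨σ, ⟨c, fun x hx => ?_⟩, hσ⟩
  let L : (ArrayPt → ZMod 3) →ₗ[ZMod 3] (ArrayPt → ZMod 3) :=
    { toFun := tMap e
      map_add' := fun u v => funext fun p => by simp [tMap, mul_add]
      map_smul' := fun a u => funext fun p => by simp [tMap, mul_left_comm] }
  obtain ⟨⟨a, b, c', d, e', f'⟩, rfl⟩ := mem_ternary_iff.mp hx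
  have hu : ∀ v ∈ tUnit, L (tEnc v) ∈ ternaryGolayCode := fun v hv => by
    show tMap e (tEnc v) ∈ _
    rw [funext (h3 v hv)]
    exact tEnc_mem _
  have hd : tEnc (a, b, c', d, e', f') = a • tEnc (1,0,0,0,0,0) + b • tEnc (0,1,0,0,0,0) +
      c' • tEnc (0,0,1,0,0,0) + d • tEnc (0,0,0,1,0,0) + e' • tEnc (0,0,0,0,1,0) +
      f' • tEnc (0,0,0,0,0,1) := funext fun p => by
    simp only [Pi.add_apply, Pi.smul_apply, smul_eq_mul]
    exact tInfo_decomp a b c' d e' f' p
  rw [hmap]
  show L _ ∈ _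
  rw [hd, map_add, map_add, map_add, map_add, map_add, map_smul, map_smul, map_smul, map_smul,
    map_smul, map_smul]
  exact add_mem (add_mem (add_mem (add_mem (add_mem
    (Submodule.smul_mem _ _ (hu _ (by decide))) (Submodule.smul_mem _ _ (hu _ (by decide))))
    (Submodule.smul_mem _ _ (hu _ (by decide)))) (Submodule.smul_mem _ _ (hu _ (by decide))))
    (Submodule.smul_mem _ _ (hu _ (by decide)))) (Submodule.smul_mem _ _ (hu _ (by decide)))

theorem tLift_five (a : ℕ → ArrayPt) :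
    ∀ n ≤ 5, (∀ i < n, ∀ j < n, a i = a j → i = j) →
      ∃ σ, TLift σ ∧ ∀ i < n, σ (ix i) = a i := by
  intro n
  induction n with
  | zero => exact fun _ _ => ⟨1, tLift_one, fun i hi => absurd hi (by omega)⟩
  | succ n ih =>
    intro hn hinj
    obtain ⟨τ, hτ, hτa⟩ := ih (by omega) fun i hi j hj => hinj i (by omega) j (by omega)
    obtain ⟨t, ht⟩ : ∃ t, t = ixInv (τ.symm (a n)) := ⟨_, rfl⟩
    have htn : n ≤ t := by
      by_contra hlt
      have h2 : a t = a n := by
        rw [← hτa t (by omega), ht, ix_ixInv, Equiv.apply_symm_apply]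
      have := hinj t (by omega) n (by omega) h2
      omega
    obtain ⟨e, he, het⟩ := tLevels_cover n (by omega) t (ht ▸ ixInv_lt _) htn
    have hok := tLevels_ok n (by omega) e he
    obtain ⟨q, hq, hqe⟩ := tEntry_lift hok
    refine ⟨τ * q, hτ.mul hq, fun i hi => ?_⟩
    rw [Equiv.Perm.mul_apply, hqe i (by omega)]
    rcases Nat.lt_succ_iff_lt_or_eq.mp hi with hi' | rfl
    · rw [hok.2.1 i hi', hτa i hi']
    · rw [het, ht, ix_ixInv, Equiv.apply_symm_apply]

/-! ### Rigidity -/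

theorem tHexWit_spec : (tSupp tHexWit).card = 6 ∧ tSupp tHexWit = {ix 0, ix 1, ix 2, ix 3, ix 4, ix 5} := by
  decide +kernel

theorem tWits_spec : ∀ k < 15, ∀ j < 6, (tSupp (tWits.getD (6 * k + j) 0)).card = 6 ∧
    tSupp (tWits.getD (6 * k + j) 0) =
      ((tFours.getD k []).map ix).toFinset ∪ {ix (6 + j), ix ((tMates.getD k []).getD (6 + j) 0)} := by
  decide +kernel

theorem tFours_spec : ∀ k < 15, ((tFours.getD k []).map ix).toFinset.card = 4 ∧
    ∀ i ∈ tFours.getD k [], i < 6 := by decide +kernel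

theorem tMates_spec : ∀ k < 15, ∀ j < 6, 6 ≤ (tMates.getD k []).getD (6 + j) 0 ∧
    (tMates.getD k []).getD (6 + j) 0 < 12 := by decide +kernel

theorem tKof_spec : ∀ w < 12, 6 < w →
    tKof.getD w 0 < 15 ∧ (tMates.getD (tKof.getD w 0) []).getD 6 0 = w := by decide +kernel

/-- The map forced by the image of the seventh position. -/
def tCand (a w : ℕ) : ℕ := if w = 6 then a else (tMates.getD (tKof.getD w 0) []).getD a 0

theorem tCand_bad : ∀ a < 12, 6 < a → ∃ k < 15, ∃ j < 6,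
    tCand a ((tMates.getD k []).getD (6 + j) 0) ≠ (tMates.getD k []).getD (tCand a (6 + j)) 0 := by
  decide +kernel

theorem smul_mem_tHexads {σ : Equiv.Perm ArrayPt} (h : σ ∈ setSystemAut tHexads) {b : Finset ArrayPt}
    (hb : b ∈ tHexads) : σ • b ∈ tHexads := by
  have h' : σ • tHexads = tHexads := MulAction.mem_stabilizer_iff.mp h
  rw [← h']; exact Set.smul_mem_smul_set hb

theorem tHexad_rigid {σ : Equiv.Perm ArrayPt} (h : σ ∈ setSystemAut tHexads)
    (hfix : ∀ i < 5, σ (ix i) = ix i) : σ = 1 := by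
  obtain ⟨hc6, hH⟩ := tHexWit_spec
  have hHmem : tSupp tHexWit ∈ tHexads := ⟨_, tEnc_mem _, rfl, hc6⟩
  have h5 : σ (ix 5) = ix 5 := by
    have hcard5 : ({ix 0, ix 1, ix 2, ix 3, ix 4} : Finset ArrayPt).card = 5 := by decide +kernel
    have hσH : σ • tSupp tHexWit = tSupp tHexWit := by
      refine tHex_inter (smul_mem_tHexads h hHmem) hHmem hcard5 (fun p hp => ?_) (fun p hp => ?_)
      · obtain ⟨i, hi, rfl⟩ : ∃ i < 5, p = ix i := by
          simp only [Finset.mem_insert, Finset.mem_singleton] at hp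
          rcases hp with rfl | rfl | rfl | rfl | rfl
          exacts [⟨0, by norm_num, rfl⟩, ⟨1, by norm_num, rfl⟩, ⟨2, by norm_num, rfl⟩,
            ⟨3, by norm_num, rfl⟩, ⟨4, by norm_num, rfl⟩]
        rw [← hfix i hi, ← Equiv.Perm.smul_def, Finset.smul_mem_smul_finset_iff, hH]
        interval_cases i <;> simp
      · rw [hH]
        simp only [Finset.mem_insert, Finset.mem_singleton] at hp ⊢
        tauto
    have hm : σ (ix 5) ∈ σ • tSupp tHexWit := by
      rw [← Equiv.Perm.smul_def, Finset.smul_mem_smul_finset_iff, hH]; simp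
    rw [hσH, hH] at hm
    simp only [Finset.mem_insert, Finset.mem_singleton] at hm
    have hne : ∀ i < 5, σ (ix 5) ≠ ix i := fun i hi he => by
      rw [← hfix i hi] at he
      have := ix_inj (by norm_num) (by omega) (σ.injective he)
      omega
    rcases hm with he | he | he | he | he | he
    exacts [absurd he (hne 0 (by norm_num)), absurd he (hne 1 (by norm_num)),
      absurd he (hne 2 (by norm_num)), absurd he (hne 3 (by norm_num)),
      absurd he (hne 4 (by norm_num)), he]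
  have hfix6 : ∀ i < 6, σ (ix i) = ix i := fun i hi => by
    rcases Nat.lt_succ_iff_lt_or_eq.mp hi with h' | rfl
    exacts [hfix i h', h5]
  obtain ⟨s, hs⟩ : ∃ s : ℕ → ℕ, ∀ i, s i = ixInv (σ (ix i)) := ⟨_, fun _ => rfl⟩
  have hs' : ∀ i, σ (ix i) = ix (s i) := fun i => by rw [hs, ix_ixInv]
  have hslt : ∀ i, s i < 12 := fun i => hs i ▸ ixInv_lt _
  have hsR : ∀ i < 12, 6 ≤ i → 6 ≤ s i := by
    intro i hi h6
    by_contra hlt
    have he : σ (ix (s i)) = σ (ix i) := by rw [hfix6 (s i) (by omega), hs']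
    have := ix_inj (hslt i) hi (σ.injective he)
    omega
  have hcomm : ∀ k < 15, ∀ j < 6,
      s ((tMates.getD k []).getD (6 + j) 0) = (tMates.getD k []).getD (s (6 + j)) 0 := by
    intro k hk j hj
    obtain ⟨hc4, hlt6⟩ := tFours_spec k hk
    obtain ⟨hm6, hm12⟩ := tMates_spec k hk j hj
    obtain ⟨c1, e1⟩ := tWits_spec k hk j hj
    obtain ⟨m, hm⟩ : ∃ m, (tMates.getD k []).getD (6 + j) 0 = m := ⟨_, rfl⟩
    obtain ⟨u, hu⟩ : ∃ u, s (6 + j) = u := ⟨_, rfl⟩
    have hu6 : 6 ≤ u := hu ▸ hsR _ (by omega) (by omega)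
    have hu12 : u < 12 := hu ▸ hslt _
    obtain ⟨c2, e2⟩ := tWits_spec k hk (u - 6) (by omega)
    obtain ⟨hv6, hv12⟩ := tMates_spec k hk (u - 6) (by omega)
    rw [show 6 + (u - 6) = u by omega] at e2 hv6 hv12
    obtain ⟨v, hv⟩ : ∃ v, (tMates.getD k []).getD u 0 = v := ⟨_, rfl⟩
    rw [hm] at hm6 hm12 e1 ⊢
    rw [hu, hv]
    rw [hv] at e2 hv6 hv12
    obtain ⟨S, hSdef⟩ : ∃ S, ((tFours.getD k []).map ix).toFinset = S := ⟨_, rfl⟩
    rw [hSdef] at hc4 e1 e2
    have hS : ∀ p ∈ S, ∃ i < 6, ix i = p := fun p hp => by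
      rw [← hSdef, List.mem_toFinset, List.mem_map] at hp
      obtain ⟨i, hi, rfl⟩ := hp
      exact ⟨i, hlt6 i hi, rfl⟩
    have hnS : ∀ i < 12, 6 ≤ i → ix i ∉ S := fun i hi h6 hp => by
      obtain ⟨l, hl, he⟩ := hS _ hp
      have := ix_inj (by omega) hi he
      omega
    have hσS : σ • S = S := by
      refine Finset.eq_of_subset_of_card_le (fun p hp => ?_) (by rw [Finset.card_smul_finset])
      obtain ⟨q, hq, rfl⟩ := Finset.mem_smul_finset.mp hp
      obtain ⟨i, hi, rfl⟩ := hS q hq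
      rw [Equiv.Perm.smul_def, hfix6 i hi]
      exact hq
    have b1 : σ • tSupp (tWits.getD (6 * k + j) 0) ∈ tHexads :=
      smul_mem_tHexads h ⟨_, tEnc_mem _, rfl, c1⟩
    have b2 : tSupp (tWits.getD (6 * k + (u - 6)) 0) ∈ tHexads := ⟨_, tEnc_mem _, rfl, c2⟩
    rw [e1, Finset.smul_finset_union, hσS, Finset.smul_finset_insert,
      Finset.smul_finset_singleton, Equiv.Perm.smul_def, Equiv.Perm.smul_def, hs', hs', hu] at b1
    rw [e2] at b2
    have heq := tHex_inter b1 b2 (s := insert (ix u) S)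
      (by rw [Finset.card_insert_of_notMem (hnS u hu12 hu6), hc4])
      (by intro p hp; simp only [Finset.mem_insert, Finset.mem_union, Finset.mem_singleton] at hp ⊢; tauto)
      (by intro p hp; simp only [Finset.mem_insert, Finset.mem_union, Finset.mem_singleton] at hp ⊢; tauto)
    have hmu : s m ≠ u := by
      intro he
      have h1 : σ (ix m) = σ (ix (6 + j)) := by rw [hs', hs', he, hu]
      have hmj := ix_inj hm12 (by omega) (σ.injective h1)
      rw [hmj] at e1
      have h7 : (tSupp (tWits.getD (6 * k + j) 0)).card ≤ 5 := by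
        rw [e1]
        refine le_trans (Finset.card_union_le _ _) ?_
        rw [hc4]; simp
      omega
    have hsm : ix (s m) ∈ S ∪ {ix u, ix v} := by rw [← heq]; simp
    simp only [Finset.mem_union, Finset.mem_insert, Finset.mem_singleton] at hsm
    rcases hsm with h' | h' | h'
    · exact absurd h' (hnS _ (hslt m) (hsR m hm12 hm6))
    · exact absurd (ix_inj (hslt m) hu12 h') hmu
    · exact ix_inj (hslt m) hv12 h'
  have hcand : ∀ w < 12, 6 ≤ w → s w = tCand (s 6) w := by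
    intro w hw h6
    unfold tCand
    split_ifs with h
    · rw [h]
    · obtain ⟨hk, hk6⟩ := tKof_spec w hw (by omega)
      have := hcomm _ hk 0 (by norm_num)
      simp only [Nat.add_zero] at this
      rw [← this, hk6]
  have h6 : s 6 = 6 := by
    by_contra hne
    obtain ⟨k, hk, j, hj, hbad⟩ := tCand_bad (s 6) (hslt 6)
      (by have := hsR 6 (by norm_num) le_rfl; omega)
    obtain ⟨hm6, hm12⟩ := tMates_spec k hk j hj
    apply hbad
    rw [← hcand _ hm12 hm6, ← hcand _ (by omega) (by omega), hcomm k hk j hj]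
  refine Equiv.ext fun p => ?_
  obtain ⟨i, hi, rfl⟩ : ∃ i < 12, ix i = p := ⟨_, ixInv_lt p, ix_ixInv p⟩
  rw [Equiv.Perm.one_apply]
  rcases Nat.lt_or_ge i 6 with h' | h'
  · rw [hfix6 i h']
  · rw [hs', hcand i hi h', h6]
    unfold tCand
    split_ifs with h2
    · rw [h2]
    · obtain ⟨_, hk6⟩ := tKof_spec i hi (by omega)
      rw [hk6]

theorem tLift_iff {σ : Equiv.Perm ArrayPt} : TLift σ ↔ σ ∈ setSystemAut tHexads := by
  refine ⟨fun h => h.mem_aut, fun h => ?_⟩
  obtain ⟨τ, hτ, hτa⟩ := tLift_five (fun i => σ (ix i)) 5 le_rfl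
    fun i hi j hj he => ix_inj (by omega) (by omega) (σ.injective he)
  have : τ⁻¹ * σ = 1 := tHexad_rigid (mul_mem (inv_mem hτ.mem_aut) h) fun i hi => by
    rw [Equiv.Perm.mul_apply, ← hτa i hi, Equiv.Perm.inv_def, Equiv.symm_apply_apply]
  rw [← mul_one τ, ← this, mul_inv_cancel_left] at hτ
  exact hτ

theorem tHexAut_card : Nat.card (setSystemAut tHexads) = 95040 := by
  let f : setSystemAut tHexads → (Fin 5 ↪ ArrayPt) := fun σ =>
    ⟨fun i => (σ : Equiv.Perm ArrayPt) (ix i), fun i j h =>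
      Fin.ext (ix_inj (by omega) (by omega) ((σ : Equiv.Perm ArrayPt).injective h))⟩
  have hf : Function.Bijective f := by
    constructor
    · intro σ τ h
      have h1 : (τ : Equiv.Perm ArrayPt)⁻¹ * σ = 1 :=
        tHexad_rigid (mul_mem (inv_mem τ.2) σ.2) fun i hi => by
          have he : (σ : Equiv.Perm ArrayPt) (ix i) = (τ : Equiv.Perm ArrayPt) (ix i) :=
            DFunLike.congr_fun h ⟨i, hi⟩
          rw [Equiv.Perm.mul_apply, he, Equiv.Perm.inv_def, Equiv.symm_apply_apply]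
      exact Subtype.ext (inv_mul_eq_one.mp h1).symm
    · intro e
      obtain ⟨τ, hτ, hτa⟩ := tLift_five
        (fun i => if h : i < 5 then e ⟨i, h⟩ else ix 0) 5 le_rfl fun i hi j hj he => by
          simp only [hi, hj, dite_true] at he
          exact congrArg Fin.val (e.injective he)
      refine ⟨⟨τ, hτ.mem_aut⟩, DFunLike.ext _ _ fun i => ?_⟩
      show τ (ix i) = e i
      rw [hτa i i.2, dif_pos i.2]
  rw [Nat.card_eq_of_bijective f hf, Nat.card_eq_fintype_card, Fintype.card_embedding_eq,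
    Fintype.card_prod, Fintype.card_fin, Fintype.card_fin, ZMod.card]
  rfl

theorem MonoPres.neg {σ : Equiv.Perm ArrayPt} {c : ArrayPt → (ZMod 3)ˣ} (h : MonoPres σ c) :
    MonoPres σ (fun p => -c p) := by
  intro x hx
  have : monomialMap σ (fun p => -c p) x = -monomialMap σ c x := by
    funext i; simp [monomialMap]
  rw [this]; exact neg_mem (h x hx)

theorem MonoPres.unique {σ : Equiv.Perm ArrayPt} {c d : ArrayPt → (ZMod 3)ˣ} (hc : MonoPres σ c)
    (hd : MonoPres σ d) : d = c ∨ d = fun p => -c p := by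
  have hinj : Set.InjOn (monomialMap σ c) (ternaryGolayCode : Set (ArrayPt → ZMod 3)) := by
    intro x _ y _ h
    funext q
    have h1 := congrFun h (σ q)
    simp only [monomialMap, Equiv.symm_apply_apply] at h1
    exact (Units.mul_right_inj (c (σ q))).mp h1
  have hsurj : ∀ y ∈ ternaryGolayCode, ∃ x ∈ ternaryGolayCode, monomialMap σ c x = y := by
    intro y hy
    have := Set.eq_of_subset_of_ncard_le
      (show monomialMap σ c '' (ternaryGolayCode : Set (ArrayPt → ZMod 3)) ⊆ ternaryGolayCode by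
        rintro _ ⟨x, hx, rfl⟩; exact hc x hx)
      (by rw [Set.InjOn.ncard_image hinj]) (Set.toFinite _)
    rw [← SetLike.mem_coe, ← this] at hy
    exact hy
  rcases ternary_sign_kernel (fun p => d p * (c p)⁻¹) (fun y hy => by
    obtain ⟨x, hx, rfl⟩ := hsurj y hy
    have : monomialMap (1 : Equiv.Perm ArrayPt) (fun p => d p * (c p)⁻¹) (monomialMap σ c x) =
        monomialMap σ d x := by
      funext i
      simp only [monomialMap, Equiv.Perm.one_def, Equiv.refl_symm, Equiv.refl_apply]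
      rw [← mul_assoc, ← Units.val_mul, mul_assoc, inv_mul_cancel, mul_one]
    rw [this]; exact hd x hx) with h | h
  · exact Or.inl (funext fun p => (mul_inv_eq_one.mp (h p)))
  · exact Or.inr (funext fun p => by
      have := h p
      rw [mul_inv_eq_iff_eq_mul] at this
      rw [this, neg_one_mul])

theorem monoPres_card :
    Nat.card {f : Equiv.Perm ArrayPt × (ArrayPt → (ZMod 3)ˣ) //
      ∀ x ∈ ternaryGolayCode, monomialMap f.1 f.2 x ∈ ternaryGolayCode} = 190080 := by
  classical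
  let F : {f : Equiv.Perm ArrayPt × (ArrayPt → (ZMod 3)ˣ) //
      ∀ x ∈ ternaryGolayCode, monomialMap f.1 f.2 x ∈ ternaryGolayCode} →
      setSystemAut tHexads × (ZMod 3)ˣ := fun f => (⟨f.1.1, TLift.mem_aut ⟨_, f.2⟩⟩, f.1.2 (ix 0))
  have hne : ∀ u : (ZMod 3)ˣ, -u ≠ u := by decide
  have hF : Function.Bijective F := by
    constructor
    · rintro ⟨⟨σ, c⟩, hc⟩ ⟨⟨τ, d⟩, hd⟩ h
      simp only [F, Prod.mk.injEq, Subtype.mk.injEq] at h
      obtain ⟨rfl, h0⟩ := h
      rcases MonoPres.unique (σ := σ) hc hd with rfl | rfl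
      · rfl
      · exact absurd h0.symm (hne _)
    · rintro ⟨⟨σ, hσ⟩, u⟩
      obtain ⟨c, hc⟩ := tLift_iff.mpr hσ
      have e : ∀ a b : (ZMod 3)ˣ, a = b ∨ -a = b := by decide
      rcases e (c (ix 0)) u with h | h
      · exact ⟨⟨(σ, c), hc⟩, by simp [F, h]⟩
      · exact ⟨⟨(σ, fun p => -c p), MonoPres.neg hc⟩, by simp [F, h]⟩
  rw [Nat.card_eq_of_bijective F hF, Nat.card_prod, tHexAut_card, Nat.card_eq_fintype_card,
    ZMod.card_units_eq_totient]
  rfl

end H92
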