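import Cfsg.Agent.H92.Ternary

/-! Sign changes of the ternary code. -/

set_option autoImplicit false

namespace H92

open Cfsg

set_option synthInstance.maxSize 4096

/-- The six unit information vectors. -/
def tUnit : List TInfo :=
  [(1,0,0,0,0,0), (0,1,0,0,0,0), (0,0,1,0,0,0), (0,0,0,1,0,0), (0,0,0,0,1,0), (0,0,0,0,0,1)]

theorem tUnit_spec_aux : ∀ i : Fin 6, ∀ w : TInfo,
    (∀ p : ArrayPt, tEnc (tUnit.get i) p = 0 → tEnc w p = 0) →
    (∀ p : ArrayPt, tEnc w p = tEnc (tUnit.get i) p) ∨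
    (∀ p : ArrayPt, tEnc w p = - tEnc (tUnit.get i) p) ∨ w = 0 := by decide +kernel

theorem tUnit_spec {v : TInfo} (hv : v ∈ tUnit) (w : TInfo)
    (hw : ∀ p : ArrayPt, tEnc v p = 0 → tEnc w p = 0) :
    (∀ p : ArrayPt, tEnc w p = tEnc v p) ∨ (∀ p : ArrayPt, tEnc w p = - tEnc v p) ∨ w = 0 := by
  obtain ⟨i, hi⟩ := List.get_of_mem hv
  subst hi
  exact tUnit_spec_aux i w hw

/-- Connectivity of the supports of the six basis words. -/
theorem tUnit_connected : ∀ p : ArrayPt, p ≠ (0,0) → ∃ v ∈ tUnit, ∃ v' ∈ tUnit,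
    ∃ q : ArrayPt, ∃ q' : ArrayPt,
      (tEnc v (0,0) ≠ 0 ∧ tEnc v q ≠ 0) ∧ (tEnc v' q ≠ 0 ∧ tEnc v' q' ≠ 0) ∧
      ∃ v'' ∈ tUnit, tEnc v'' q' ≠ 0 ∧ tEnc v'' p ≠ 0 := by decide +kernel

theorem sign_const_on_unit (c : ArrayPt → (ZMod 3)ˣ)
    (h : ∀ x ∈ ternaryGolayCode, monomialMap 1 c x ∈ ternaryGolayCode) {v : TInfo} (hv : v ∈ tUnit)
    {p q : ArrayPt} (hp : tEnc v p ≠ 0) (hq : tEnc v q ≠ 0) : c p = c q := by
  obtain ⟨w, hw⟩ := mem_ternary_iff.mp (h _ (tEnc_mem v))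
  have hval : ∀ r, tEnc w r = (c r : ZMod 3) * tEnc v r := fun r => congrFun hw r
  have hsup : ∀ r : ArrayPt, tEnc v r = 0 → tEnc w r = 0 := fun r hr => by rw [hval, hr, mul_zero]
  have e1 : ∀ (u : (ZMod 3)ˣ) (a : ZMod 3), a ≠ 0 → (u : ZMod 3) * a = a → u = 1 := by decide
  have e2 : ∀ (u : (ZMod 3)ˣ) (a : ZMod 3), a ≠ 0 → (u : ZMod 3) * a = -a → u = -1 := by decide
  rcases tUnit_spec hv w hsup with h1 | h1 | h1
  · rw [e1 _ _ hp ((hval p).symm.trans (h1 p)), e1 _ _ hq ((hval q).symm.trans (h1 q))]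
  · rw [e2 _ _ hp ((hval p).symm.trans (h1 p)), e2 _ _ hq ((hval q).symm.trans (h1 q))]
  · have h2 := hval p
    rw [h1, tEnc_zero] at h2
    exact absurd h2.symm (mul_ne_zero (Units.ne_zero _) hp)

theorem ternary_sign_kernel (c : ArrayPt → (ZMod 3)ˣ)
    (h : ∀ x ∈ ternaryGolayCode, monomialMap 1 c x ∈ ternaryGolayCode) :
    (∀ p, c p = 1) ∨ (∀ p, c p = -1) := by
  have hc : ∀ p, c p = c (0,0) := by
    intro p
    by_cases hp : p = (0,0)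
    · rw [hp]
    obtain ⟨v, hv, v', hv', q, q', ⟨a1, a2⟩, ⟨b1, b2⟩, v'', hv'', c1, c2⟩ := tUnit_connected p hp
    rw [sign_const_on_unit c h hv a1 a2, sign_const_on_unit c h hv' b1 b2,
      sign_const_on_unit c h hv'' c1 c2]
  have e : ∀ u : (ZMod 3)ˣ, u = 1 ∨ u = -1 := by decide
  rcases e (c (0,0)) with h0 | h0
  · exact Or.inl fun p => (hc p).trans h0
  · exact Or.inr fun p => (hc p).trans h0

end H92
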